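import Cfsg.Agent.OddHalf.D4F4.Full
import Cfsg.Agent.OddHalf.D4.Free.F4.BFac

/-!
# ODD, D4, the row `F₄(q)`, `q ≥ 4` even (`Cut.RowsTwo.f4e`)
-/

set_option autoImplicit false

namespace Cfsg.Agent.OddHalf.D4F4

open Cfsg Cfsg.Agent.OddHalf.D4

universe v

/-- **The row `F₄(q)`, `q ≥ 4` even.** -/
theorem f4e (h1173 : Start.P1173.{v}) (hFT : StartQ.FTT.{v}) : Cut.Row1.{v} (fun K _ => Cut.F4e K) :=
  row_f4e h1173 hFT fun _ _ _ _ hq _ _ _ _ e => Free.F4.BFac.bfacts_of_equiv hq e.symm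

end Cfsg.Agent.OddHalf.D4F4
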