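import Cfsg.Agent.OddHalf.D4F4.Tri
import Cfsg.Agent.OddHalf.DblR.Res

/-!
# ODD, D4, `F₄(q)`: no commuting pair of root type, chart form

* `KP` : the facts on `K` which are used besides the chart: `P_s` perfect, `C_K(x) ≤ P_s`, `P_s` determines `Q_s`;
* **`no_pair`** : `R` has at least two involutions, there is no commuting pair of root type for the root `s0`.
-/

set_option autoImplicit false
set_option linter.unusedSectionVars false

namespace Cfsg.Agent.OddHalf.D4F4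

open Subgroup Cfsg.Agent.OddHalf.D7F4Ex Cfsg.Agent.OddHalf.D7F4Ex.Loc Cfsg.Agent.OddHalf.DblR
  Cfsg.Agent.OddHalf.D7F4.Model Cfsg.Agent.Nodes.Reps
open scoped commutatorElement

variable {F : Type*} [Field F] {G : Type*} [Group G]

/-- `P_s` of a chart -/
abbrev PE (E : (Fin 4 → ℤ) → F → G) (T : (Fin 4 → Fˣ) →* G) : Subgroup G :=
  Ps (E s0) (fun j => E (rv j)) (fun i => E (rz i)) (fun j => E (rc j)) (fun j k => E (rl j k)) (T.comp consH)

/-- `Q_s` of a chart -/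
abbrev QE (E : (Fin 4 → ℤ) → F → G) : Subgroup G := Qs (E s0) (fun j => E (rv j)) (fun i => E (rz i))

/-- `V_s = Z(Q_s)` of a chart -/
abbrev VE (E : (Fin 4 → ℤ) → F → G) : Subgroup G := Vs (E s0) (fun j => E (rv j))

/-- The facts on `K`. -/
structure KP (K : Subgroup G) (E : (Fin 4 → ℤ) → F → G) (T : (Fin 4 → Fˣ) →* G) : Prop extends KC K E T where
  perf : PE E T ≤ ⁅PE E T, PE E T⁆
  cent : ∀ x ∈ Xs (E s0), x ≠ 1 → ∀ y ∈ K, y * x = x * y → y ∈ PE E T
  core : ∀ g : G, cj g (PE E T) = PE E T → cj g (QE E) ≤ QE E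

theorem cj_eq_of_le' {g : G} {S : Subgroup G} (h1 : cj g S ≤ S) (h2 : cj g⁻¹ S ≤ S) : cj g S = S := by
  apply le_antisymm h1
  have := cj_mono g h2
  rwa [cj_cj_inv] at this

theorem cj_inv_eq' {g : G} {S : Subgroup G} (h1 : cj g S = S) : cj g⁻¹ S = S := by
  conv_lhs => rw [← h1]
  exact cj_inv_cj g S

section

variable {K R : Subgroup G} {E : (Fin 4 → ℤ) → F → G} {T : (Fin 4 → Fˣ) →* G}

theorem KP.coreQ (C : KP K E T) {g : G} (h : cj g (PE E T) = PE E T) : cj g (QE E) = QE E :=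
  cj_eq_of_le' (C.core g h) (C.core _ (cj_inv_eq' h))

theorem X_eq_comm (C : Chart E T) : ⁅QE E, QE E⁆ = Xs (E s0) := by
  apply le_antisymm
  · rw [commutator_le]
    intro a ha b hb
    rw [commutatorElement_def]
    exact C.loc.QQ ha hb
  · exact C.loc.X_le_comm

theorem cj_X_of_Q (C : Chart E T) {g : G} (h : cj g (QE E) = QE E) : cj g (Xs (E s0)) = Xs (E s0) := by
  rw [← X_eq_comm C, cj_commutator, h]

theorem cj_V_of_Q (C : Chart E T) {g : G} (h : cj g (QE E) = QE E) : cj g (VE E) = VE E := by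
  have key : ∀ g : G, cj g (QE E) = QE E → cj g (VE E) ≤ VE E := by
    intro g h x hx
    rw [mem_cj] at hx
    have hxQ : x ∈ QE E := by
      rw [← h, mem_cj]; exact V_le_Q hx
    refine C.loc.ZQ hxQ fun y hy => ?_
    have hy : y ∈ cj g (QE E) := by rw [h]; exact hy
    rw [mem_cj] at hy
    have := C.loc.VQ hx hy
    calc x * y = g * ((g⁻¹ * x * g) * (g⁻¹ * y * g)) * g⁻¹ := by group
      _ = g * ((g⁻¹ * y * g) * (g⁻¹ * x * g)) * g⁻¹ := by rw [this]
      _ = y * x := by group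
  exact cj_eq_of_le' (key g h) (key _ (cj_inv_eq' h))

theorem PE_le (C : KC K E T) : PE E T ≤ K := by
  rw [PE, Ps, closure_le]
  rintro g ((⟨b, rfl⟩ | ⟨j, b, rfl⟩) | ⟨i, b, rfl⟩ | ⟨j, b, rfl⟩ | ⟨j, k, b, h, rfl⟩ | ⟨ν, rfl⟩)
  · exact C.EK _ s0_mem _
  · exact C.EK _ (rv_mem j) _
  · exact C.EK _ (rz_mem i) _
  · exact C.EK _ (rc_mem j) _
  · exact C.EK _ (rl_mem j k h) _
  · exact C.TK _

theorem d1_v : ∀ j, dd (rv j) 0 = 2 := by decide +kernel
theorem d1_z : ∀ i, dd (rz i) 0 = 1 := by decide +kernel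
theorem d1_c : ∀ j, dd (rc j) 0 = 0 := by decide +kernel
theorem d1_l : ∀ j k : J, j.1 ≠ k.1 → dd (rl j k) 0 = 0 := by decide +kernel

theorem cj_sup_eq {X : Subgroup G} {n : G} [Finite G] (h1 : ∀ x ∈ X, n * x * n⁻¹ ∈ X)
    (h2 : ∀ t ∈ R, t * (n * t * n⁻¹) ∈ X) : cj n (R ⊔ X) = R ⊔ X := by
  have h3 : cj n (R ⊔ X) ≤ R ⊔ X := by
    rw [cj_sup]
    refine sup_le ?_ ?_
    · intro y hy
      rw [mem_cj] at hy
      have h4 := h2 _ hy
      set t := n⁻¹ * y * n with ht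
      have e : y = t⁻¹ * (t * (n * t * n⁻¹)) := by rw [ht]; group
      rw [e]
      exact mul_mem (mem_sup_left (inv_mem hy)) (mem_sup_right h4)
    · intro y hy
      rw [mem_cj] at hy
      have h4 := h1 _ hy
      have e : n * (n⁻¹ * y * n) * n⁻¹ = y := by group
      rw [e] at h4
      exact mem_sup_right h4
  have h5 : Nat.card ↥(cj n (R ⊔ X)) = Nat.card ↥(R ⊔ X) :=
    (Nat.card_congr ((R ⊔ X).equivMapOfInjective _ (MulAut.conj n).injective).toEquiv).symm
  exact Subgroup.eq_of_le_of_card_ge h3 h5.ge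

variable [Finite F] [Finite G]

/-- `res S = P` for `R < S ≤ R X` -/
theorem KP.res_eq (C : KP K E T) (A : Amb K R)
    (hout : ∀ H : Subgroup G, H ≤ normalizer (K : Set G) → H ≤ ⁅H, H⁆ →
      ∀ x ∈ H, ∃ k ∈ K, ∃ c : G, (∀ y ∈ K, c * y = y * c) ∧ x = k * c)
    (hC1 : ∀ H : Subgroup G, H ≤ C1 K R → H ≤ ⁅H, H⁆ → H = ⊥) (hR : ∃ t ∈ R, t ≠ 1)
    (S : Subgroup G) (h1 : R ≤ S) (h2 : S ≤ R ⊔ Xs (E s0)) (h3 : ¬ S ≤ R) : res S = PE E T := by
  have hPK := PE_le C.toKC
  refine DblR.res_eq A (fun p hp x hx => (C.ch.loc.XP hx hp).symm) hPK ?_ hR C.perf hout hC1 ?_ S h1 h2 h3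
  · exact (X_le_V (v := fun j => E (rv j))).trans ((V_le_Q (z := fun i => E (rz i))).trans (Q_le_P.trans hPK))
  · intro x hx hx1 H hH hHx _ y hy
    exact C.cent x hx hx1 y (hH hy) (hHx y hy)

theorem XE_le (C : KC K E T) : Xs (E s0) ≤ K := by
  rw [Xs, closure_le]
  rintro _ ⟨u, rfl⟩
  exact C.EK _ s0_mem u

theorem X_not_le_R (C : KC K E T) (A : Amb K R) : ¬ Xs (E s0) ≤ R := by
  intro h
  have h1 := h (EX (E := E) 1)
  have h2 := A.ctr _ (C.EK s0 s0_mem 1) fun x hx => A.comm _ h1 x hx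
  exact one_ne_zero (C.ch.inj s0 s0_mem 1 h2)

theorem KP.rdata (C : KP K E T) (A : Amb K R) (cf : CF K R E)
    (two : ∀ c ∈ C1 K R, IsPGroup 2 (zpowers c) → c ∈ R)
    (hout : ∀ H : Subgroup G, H ≤ normalizer (K : Set G) → H ≤ ⁅H, H⁆ →
      ∀ x ∈ H, ∃ k ∈ K, ∃ c : G, (∀ y ∈ K, c * y = y * c) ∧ x = k * c)
    (hC1 : ∀ H : Subgroup G, H ≤ C1 K R → H ≤ ⁅H, H⁆ → H = ⊥) (hR : ∃ t ∈ R, t ≠ 1) :
    RData K R (T.comp oneH) (E s0) (fun j => E (rv j)) (fun i => E (rz i)) (fun j => E (rc j)) (fun j k => E (rl j k))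
      (T.comp consH) where
  amb := A
  PK := PE_le C.toKC
  hK := fun μ => C.TK _
  hs_x0 := fun μ a => by
    show T (oneH μ) * E s0 a * (T (oneH μ))⁻¹ = _
    rw [C.ch.tor _ s0_mem, chd_oneH, dd_s0]
    congr 2
  hs_v := fun μ j a => by
    show T (oneH μ) * E (rv j) a * (T (oneH μ))⁻¹ = _
    rw [C.ch.tor _ (rv_mem j), chd_oneH, d1_v]
    congr 2
  hs_z := fun μ i a => by
    show T (oneH μ) * E (rz i) a * (T (oneH μ))⁻¹ = _
    rw [C.ch.tor _ (rz_mem i), chd_oneH, d1_z, zpow_one]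
  hs_c := fun μ j a => C.ch.tor_comm (rc_mem j) (by rw [chd_oneH, d1_c, zpow_zero]) a
  hs_l := fun μ j k a h => C.ch.tor_comm (rl_mem j k h) (by rw [chd_oneH, d1_l j k h, zpow_zero]) a
  hs_th := fun μ ν => by
    show T (oneH μ) * T (consH ν) = T (consH ν) * T (oneH μ)
    rw [← map_mul, ← map_mul, mul_comm]
  two := two
  k3 := fun g hg hgP => by
    obtain ⟨u, h⟩ := cf.k3 g hg fun x hx u => hgP _ (mem_PtE hx u)
    exact ⟨_, EX u, h⟩
  nP := fun n h1 h2 => by
    have h3 := cj_sup_eq h1 h2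
    have h4 := C.res_eq A hout hC1 hR (R ⊔ Xs (E s0)) le_sup_left le_rfl
      (fun h => X_not_le_R C.toKC A (le_sup_right.trans h))
    have h5 : cj n (PE E T) = PE E T := by
      rw [← h4, ← res_cj, h3]
    have h6 := C.coreQ h5
    have h7 := cj_V_of_Q C.ch h6
    refine ⟨fun p hp => ?_, fun p hp => ?_, fun p hp => ?_⟩
    · have := conj_mem_cj (g := n).2 hp
      rwa [h5] at this
    · have := conj_mem_cj (g := n).2 hp
      rwa [h6] at this
    · have := conj_mem_cj (g := n).2 hp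
      rwa [h7] at this

/-- **No commuting pair of root type.** -/
theorem KP.no_pair (C : KP K E T) (A : Amb K R) (cf : CF K R E)
    (two : ∀ c ∈ C1 K R, IsPGroup 2 (zpowers c) → c ∈ R)
    (hout : ∀ H : Subgroup G, H ≤ normalizer (K : Set G) → H ≤ ⁅H, H⁆ →
      ∀ x ∈ H, ∃ k ∈ K, ∃ c : G, (∀ y ∈ K, c * y = y * c) ∧ x = k * c)
    (hC1 : ∀ H : Subgroup G, H ≤ C1 K R → H ≤ ⁅H, H⁆ → H = ⊥)
    {t t' : G} (ht : t ∈ R) (ht1 : t ≠ 1) (ht' : t' ∈ R) (ht1' : t' ≠ 1) (hne : t' ≠ t)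
    {g k : G} (hk : k ∈ K) (hg1 : cj g R ≤ R ⊔ Xs (E s0)) (hg2 : R ≤ cj g (R ⊔ cj k (Xs (E s0))))
    (hg3 : ¬ cj g R ≤ R) : False := by
  have hresP := C.res_eq A hout hC1 ⟨t, ht, ht1⟩
  have hkR : cj k R = R := by
    apply le_antisymm
    · intro x hx
      rw [mem_cj] at hx
      have h1 := A.comm _ hx k hk
      have : x = k⁻¹ * x * k := by
        calc x = k * (k⁻¹ * x * k) * k⁻¹ := by group
          _ = (k⁻¹ * x * k) * k * k⁻¹ := by rw [← h1]
          _ = _ := by group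
      rw [this]; exact hx
    · intro x hx
      rw [mem_cj]
      have h1 := A.comm x hx k hk
      have : k⁻¹ * x * k = x := by rw [mul_assoc, h1]; group
      rwa [this]
  set S := R ⊔ cj g R with hS
  have h1 : res S = PE E T := hresP S le_sup_left (sup_le le_sup_left hg1) fun h => hg3 (le_sup_right.trans h)
  -- conjugate back
  have hgk : cj (g * k) R = cj g R := by rw [cj_mul, hkR]
  have h2 : res (cj (g * k)⁻¹ S) = PE E T := by
    apply hresP
    · rw [← cj_le_cj_iff (g * k), cj_cj_inv, hgk]; exact le_sup_right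
    · rw [← cj_le_cj_iff (g * k), cj_cj_inv, cj_sup, hgk]
      refine sup_le ?_ le_sup_left
      refine hg2.trans ?_
      rw [cj_sup, cj_mul]
    · intro h0
      have h3 := cj_mono (g * k) h0
      rw [cj_cj_inv, hgk] at h3
      apply hg3
      have h4 : R ≤ cj g R := le_sup_left.trans h3
      have h5 : Nat.card ↥(cj g R) = Nat.card ↥R :=
        (Nat.card_congr (R.equivMapOfInjective _ (MulAut.conj g).injective).toEquiv).symm
      exact (Subgroup.eq_of_le_of_card_ge h4 h5.le).ge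
  have h3 : cj (g * k) (PE E T) = PE E T := by
    rw [res_cj, h1] at h2
    conv_lhs => rw [← h2]
    exact cj_cj_inv _ _
  have h4 := C.coreQ h3
  have h5 := cj_X_of_Q C.ch h4
  have L := C.ch.loc
  have D := C.rdata A cf two hout hC1 ⟨t, ht, ht1⟩
  have hinv : ∀ {B : Subgroup G}, cj (g * k) B = B → ∀ x ∈ B, g * k * x * (g * k)⁻¹ ∈ B := by
    intro B h x hx
    have := conj_mem_cj (g := g * k).2 hx
    rwa [h] at this
  obtain ⟨μ, W, hW1, hW2⟩ := D.exists_dw L (g := g * k) (hinv h3) (hinv h4) (hinv h5)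
    (by
      intro a ha
      have h6 : g * k * a * (g * k)⁻¹ ∈ R ⊔ Xs (E s0) := by
        apply hg1
        rw [← hgk]
        exact conj_mem_cj.2 ha
      have h7 : R ≤ normalizer (Xs (E s0) : Set G) := by
        intro r hr
        rw [mem_normalizer_iff_cj]
        have key : ∀ r ∈ R, cj r (Xs (E s0)) ≤ Xs (E s0) := by
          intro r hr x hx
          rw [mem_cj] at hx
          have h8 := A.comm r hr _ (XE_le C.toKC hx)
          have : x = r⁻¹ * x * r := by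
            calc x = r * (r⁻¹ * x * r) * r⁻¹ := by group
              _ = (r⁻¹ * x * r) * r * r⁻¹ := by rw [h8]
              _ = _ := by group
          rw [this]; exact hx
        exact cj_eq_of_le' (key r hr) (key r⁻¹ (inv_mem hr))
      have h8 : g * k * a * (g * k)⁻¹ ∈ ((R ⊔ Xs (E s0) : Subgroup G) : Set G) := h6
      rw [coe_mul_of_left_le_normalizer_right R _ h7] at h8
      obtain ⟨b, hb, x, hx, e⟩ := h8
      exact ⟨b, hb, x, hx, e.symm⟩)
    (by
      by_contra hcon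
      push Not at hcon
      apply hg3
      intro x hx
      rw [← hgk, mem_cj] at hx
      have := hcon _ hx
      have e : g * k * ((g * k)⁻¹ * x * (g * k)) * (g * k)⁻¹ = x := by group
      rwa [e] at this)
  exact tri_false C.toKC A cf hW1 hW2 ht ht1 ht' ht1' hne

end

end Cfsg.Agent.OddHalf.D4F4
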