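import Cfsg.Agent.OddHalf.D4F4.RChain
import Cfsg.Agent.OddHalf.D7F4Ex.Exist
import Cfsg.Agent.OddHalf.DblR.Fam

/-!
# ODD, D4, `F₄(q)`: existence of the doubled root group `W_s`, `|R| ≥ 4`

* `env_dw` : `DblR.Exist.Env` and one element of `V` moving `R` give the doubled root group;
* `RData` : the data in `G` in the coordinates `D7F4Ex.Loc`;
* **`RData.exists_dw`** : if some `g` normalising `P`, `Q`, `X`, `R X` moves `R`, there is a doubled root group `W` for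
  `P~ = ⟨Q, H ∩ C(X_s), l a b⟩`, invariant under the elements of `K` normalising `P~`, `X` and centralising `h₀` mod `P~`.
-/

set_option autoImplicit false
set_option linter.unusedSectionVars false
set_option linter.style.haveILetI false

namespace Cfsg.Agent.OddHalf.D4F4

open Subgroup Cfsg.Agent.OddHalf.D7F4Ex Cfsg.Agent.OddHalf.D7F4Ex.Loc Cfsg.Agent.OddHalf.DblR
  Cfsg.Agent.OddHalf.DblR.Exist Cfsg.Agent.OddHalf.DblR.Exist.Env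

/-- From one element of `V` to the doubled root group. -/
theorem env_dw {G : Type*} [Group G] [Finite G] {K R X P Q T0 : Subgroup G} (E : Env K R X P Q T0) {v0 r : G}
    (hv0 : v0 ∈ E.V) (hr : r ∈ R) (h0 : δ r v0 ≠ 1) :
    ∃ h0 ∈ T0, (∀ x ∈ X, x ≠ 1 → h0 * x * h0⁻¹ ≠ x) ∧ ∃ W : Subgroup G, DW K R P X W ∧
      ∀ k ∈ K, (∃ p ∈ P, k * h0 * k⁻¹ = h0 * p) → (∀ p ∈ P, k * p * k⁻¹ ∈ P) → (∀ x ∈ X, k * x * k⁻¹ ∈ X) →
        ∀ w ∈ W, k * w * k⁻¹ ∈ W := by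
  obtain ⟨h, hh, x1, hx1, hne1⟩ := E.Tne
  have hfp : ∀ y ∈ X, y ≠ 1 → h * y * h⁻¹ ≠ y := fun y hy hy1 => E.fpf hh hx1 hne1 hy hy1
  have hR : ∃ t ∈ R, t ≠ 1 := ⟨r, hr, by
    rintro rfl
    exact h0 (δ_eq_one_iff.2 (by rw [mul_one, one_mul]))⟩
  have hall : ∀ t ∈ R, t ≠ 1 → δ t v0 ≠ 1 := fun t ht ht1 he =>
    h0 (δ_eq_one_iff.2 (E.V_comm hv0 ht ht1 (δ_eq_one_iff.1 he) r hr))
  have hbr : ∀ {t w : G}, br t w = δ t w⁻¹ := by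
    intro t w; unfold br δ; group
  have hWV : ∀ w ∈ E.W hR hh, w ∈ E.V := fun w hw => E.V2_le hR (E.W_le hR hh hw)
  refine ⟨h, hh, hfp, E.W hR hh, ?_, ?_⟩
  · refine ⟨E.XP, E.PK, E.X_le_W hR hh, E.Xsq, fun w hw p hp => E.V_P (hWV w hw) hp, ?_, ?_, ?_, ?_⟩
    · intro t ht w hw
      rw [hbr]
      exact E.V_δ (inv_mem (hWV w hw)) ht
    · intro t ht ht1 w hw h1
      exact E.W_fix hR hh hfp hw ht ht1 h1.symm
    · intro t ht ht1 x hx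
      obtain ⟨w, hw, hwx⟩ := E.W_surj hR hh hfp hv0 ht ht1 (hall t ht ht1) x hx
      refine ⟨w, hw, ?_⟩
      rw [hbr, E.δ_inv' ht (hWV w hw), hwx, E.xx_inv hx]
    · intro c hc w hw
      have h1 : c * w * c⁻¹ = w * δ c w⁻¹ := by unfold δ; group
      rw [h1]
      exact mul_mem hw (E.X_le_W hR hh ((inv_mem (E.W_le hR hh hw) : w⁻¹ ∈ E.V2 hR).1.2 c (mem_C1.1 hc)))
  · rintro k hk ⟨p, hp, hkh⟩ hkP hkX w hw
    exact E.W_conj hR hh hk (conj_inv_mem hkP) hkX hp hkh hw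

variable {F : Type*} [Field F] {G : Type*} [Group G] {x0 : F → G} {v : J → F → G} {z : Sp → F → G} {c : J → F → G}
  {l : J → J → F → G} {th : (Fin 3 → Fˣ) →* G}

/-- The data in `G`. -/
structure RData (K R : Subgroup G) (hs : Fˣ →* G) (x0 : F → G) (v : J → F → G) (z : Sp → F → G) (c : J → F → G)
    (l : J → J → F → G) (th : (Fin 3 → Fˣ) →* G) : Prop where
  amb : Amb K R
  PK : Ps x0 v z c l th ≤ K
  hK : ∀ μ, hs μ ∈ K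
  hs_x0 : ∀ μ a, hs μ * x0 a * (hs μ)⁻¹ = x0 ((μ : F) ^ 2 * a)
  hs_v : ∀ μ j a, hs μ * v j a * (hs μ)⁻¹ = v j ((μ : F) ^ 2 * a)
  hs_z : ∀ μ i a, hs μ * z i a * (hs μ)⁻¹ = z i ((μ : F) * a)
  hs_c : ∀ μ j a, hs μ * c j a = c j a * hs μ
  hs_l : ∀ μ j k a, j.1 ≠ k.1 → hs μ * l j k a = l j k a * hs μ
  hs_th : ∀ μ ν, hs μ * th ν = th ν * hs μ
  two : ∀ c ∈ DblR.C1 K R, IsPGroup 2 (Subgroup.zpowers c) → c ∈ R
  k3 : ∀ g : G, (∀ a ∈ R, g * a = a * g) → (∀ p ∈ Pt x0 v z l th, g * p = p * g) →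
    ∃ x ∈ Xs x0, x⁻¹ * g ∈ DblR.C1 K R
  /-- an element normalising `X` with `[n, R] ≤ X` normalises `P`, `Q`, `V` -/
  nP : ∀ n : G, (∀ x ∈ Xs x0, n * x * n⁻¹ ∈ Xs x0) → (∀ t ∈ R, t * (n * t * n⁻¹) ∈ Xs x0) →
    (∀ p ∈ Ps x0 v z c l th, n * p * n⁻¹ ∈ Ps x0 v z c l th) ∧ (∀ q ∈ Qs x0 v z, n * q * n⁻¹ ∈ Qs x0 v z) ∧
      (∀ y ∈ Vs x0 v, n * y * n⁻¹ ∈ Vs x0 v)

namespace RData

variable {K R : Subgroup G} {hs : Fˣ →* G} (D : RData K R hs x0 v z c l th) (L : Loc x0 v z c l th)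

include D L

theorem rchain [Finite F] : RChain R (Xs x0) (Vs x0 v) (Qs x0 v z) (Ps x0 v z c l th) hs.range where
  Rsq := D.amb.tt
  X2 := fun x hx => L.V2 (z := z) (X_le_V hx)
  XV := X_le_V
  VQ := V_le_Q
  QP := Q_le_P
  V2 := fun x hx => L.V2 (z := z) hx
  Q2 := fun x hx => L.Q2 hx
  RP := fun t ht p hp => D.amb.comm t ht p (D.PK hp)
  XP := fun x hx p hp => L.XP hx hp
  VQc := fun x hx q hq => L.VQ hx hq
  PQ := fun p hp q hq => L.PQ hp hq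
  PV := fun p hp q hq => L.PV hp hq
  RH := by rintro t ht _ ⟨a, rfl⟩; exact D.amb.comm t ht _ (D.hK a)
  HX := by
    rintro _ ⟨μ, rfl⟩ x hx
    obtain ⟨a, rfl⟩ := L.mem_X.1 hx
    rw [D.hs_x0]; exact L.x0_mem _
  nP := D.nP
  XQQ := L.X_le_comm
  QQ := fun x hx y hy => L.QQ hx hy
  ZQ := fun q hq h => L.ZQ hq h
  irrQ := fun R h1 h2 h3 => L.irrQ h1 h2 h3
  irrV := fun R h1 h2 h3 => L.irrV h1 h2 h3
  neQ := L.neQ
  neV := L.neV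
  hQ := fun d h1 h2 _ => L.hQ h1 h2
  hV := fun d h1 h2 _ => L.hV h1 h2
  E2 := L.E2

/-- `h_s(μ)` acts trivially on `P / Q` -/
theorem hs_PQ (μ : Fˣ) {p : G} (hp : p ∈ Ps x0 v z c l th) : hs μ * p * (hs μ)⁻¹ * p⁻¹ ∈ Qs x0 v z := by
  induction hp using closure_induction with
  | mem g hg =>
    have triv : hs μ * g = g * hs μ → hs μ * g * (hs μ)⁻¹ * g⁻¹ ∈ Qs x0 v z := fun h => by
      rw [h, mul_inv_cancel_right, mul_inv_cancel]; exact one_mem _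
    rcases hg with (⟨b, rfl⟩ | ⟨j, b, rfl⟩) | ⟨i, b, rfl⟩ | ⟨j, b, rfl⟩ | ⟨j, k, b, h, rfl⟩ | ⟨ν, rfl⟩
    · rw [D.hs_x0]
      exact mul_mem (V_le_Q (X_le_V (L.x0_mem _))) (inv_mem (V_le_Q (X_le_V (L.x0_mem _))))
    · rw [D.hs_v]; exact mul_mem (V_le_Q (v_mem _ _)) (inv_mem (V_le_Q (v_mem _ _)))
    · rw [D.hs_z]; exact mul_mem (z_mem _ _) (inv_mem (z_mem _ _))
    · exact triv (D.hs_c _ _ _)
    · exact triv (D.hs_l _ _ _ _ h)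
    · exact triv (D.hs_th _ _)
  | one => rw [mul_one, mul_inv_cancel, inv_one, mul_one]; exact one_mem _
  | mul g g' hg hg' ih1 ih2 =>
    have e : hs μ * (g * g') * (hs μ)⁻¹ * (g * g')⁻¹ =
      (hs μ * g * (hs μ)⁻¹ * g⁻¹) * (g * (hs μ * g' * (hs μ)⁻¹ * g'⁻¹) * g⁻¹) := by group
    rw [e]; exact mul_mem ih1 (L.PQ hg ih2)
  | inv g hg ih =>
    have e : hs μ * g⁻¹ * (hs μ)⁻¹ * g⁻¹⁻¹ = g⁻¹ * (hs μ * g * (hs μ)⁻¹ * g⁻¹)⁻¹ * g⁻¹⁻¹ := by group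
    rw [e]; exact L.PQ (inv_mem hg) (inv_mem ih)

/-- elements `h_s(μ)`, `μ ≠ 1`, have no fixed points on `X` -/
theorem hs_fp {μ : Fˣ} (hμ : μ ≠ 1) : ∀ x ∈ Xs x0, hs μ * x = x * hs μ → x = 1 := by
  intro x hx h
  obtain ⟨a, rfl⟩ := L.mem_X.1 hx
  have h0 := D.hs_x0 μ a
  rw [h, mul_inv_cancel_right] at h0
  have h1 : x0 ((μ : F) ^ 2 * a + a) = 1 := by rw [L.x0_add, ← h0, self_of_add L.two L.x0_add]
  have h2 := L.x0_inj _ h1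
  have h3 : ((μ : F) ^ 2 + 1) * a = 0 := by rw [← h2]; ring
  rcases mul_eq_zero.1 h3 with h4 | h4
  · exfalso
    exact L.sq_ne hμ (Units.ext (by
      rw [Units.val_pow_eq_pow_val, Units.val_one]; exact L.add_eq_zero h4))
  · rw [h4, zero_of_add L.x0_add]

theorem hs_tr [Finite F] : ∀ x ∈ Xs x0, x ≠ 1 → ∀ y ∈ Xs x0, y ≠ 1 → ∃ h ∈ hs.range, h * x * h⁻¹ = y := by
  rintro x hx hx1 y hy hy1
  obtain ⟨a, rfl⟩ := L.mem_X.1 hx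
  obtain ⟨a', rfl⟩ := L.mem_X.1 hy
  have ha : a ≠ 0 := fun h => hx1 (by rw [h, zero_of_add L.x0_add])
  have ha' : a' ≠ 0 := fun h => hy1 (by rw [h, zero_of_add L.x0_add])
  obtain ⟨β, hβ⟩ := L.exists_sqrt_unit (Units.mk0 a' ha' * (Units.mk0 a ha)⁻¹)
  refine ⟨hs β, ⟨β, rfl⟩, ?_⟩
  rw [D.hs_x0, ← Units.val_pow_eq_pow_val, hβ, Units.val_mul, Units.val_mk0, Units.val_inv_eq_inv_val,
    Units.val_mk0, mul_assoc, inv_mul_cancel₀ ha, mul_one]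

theorem env [Finite F] : Env K R (Xs x0) (Pt x0 v z l th) (Qs x0 v z) hs.range where
  RK := D.amb.comm
  Rsq := D.amb.tt
  C1R := fun c h1 h2 _ hj => D.two c (mem_C1.2 ⟨h1, h2⟩) (isPGroup_zpowers hj)
  PK := Pt_le_P.trans D.PK
  QP := Q_le_Pt
  TK := by rintro _ ⟨a, rfl⟩; exact D.hK a
  XP := X_le_V.trans (V_le_Q.trans Q_le_Pt)
  Xsq := fun x hx => L.V2 (z := z) (X_le_V hx)
  XPc := fun x hx p hp => L.XP hx (Pt_le_P hp)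
  Xc := fun x hx h => D.amb.ctr x (D.PK (Q_le_P (V_le_Q (X_le_V hx)))) h
  TX := (D.rchain L).HX
  TPQ := by
    rintro _ ⟨a, rfl⟩ p hp
    exact D.hs_PQ L a (Pt_le_P hp)
  Tc := by
    rintro _ ⟨a, rfl⟩ _ ⟨b, rfl⟩
    rw [← map_mul, ← map_mul, mul_comm]
  Ttr := D.hs_tr L
  Tne := by
    obtain ⟨μ, hμ⟩ := L.big
    refine ⟨hs μ, ⟨μ, rfl⟩, x0 1, L.x0_mem 1, fun h => ?_⟩
    have h1 : x0 (1 : F) = 1 := by
      apply D.hs_fp L hμ _ (L.x0_mem 1)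
      calc hs μ * x0 1 = (hs μ * x0 1 * (hs μ)⁻¹) * hs μ := by group
        _ = x0 1 * hs μ := by rw [h]
    exact one_ne_zero (L.x0_inj _ h1)
  tight := by
    intro g t ht ht1 hg h
    refine D.amb.tight ht ht1 hg fun a ha => ?_
    have hg' : g⁻¹ * t = t * g⁻¹ := by
      calc g⁻¹ * t = g⁻¹ * (t * g) * g⁻¹ := by group
        _ = g⁻¹ * (g * t) * g⁻¹ := by rw [hg]
        _ = t * g⁻¹ := by group
    have h1 := D.amb.nor t ht ht1 g⁻¹ hg' _ (D.PK (Q_le_P (V_le_Q (X_le_V (h a ha)))))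
    have h2 : br a g = (g⁻¹ * (g * a * g⁻¹ * a⁻¹) * g⁻¹⁻¹)⁻¹ := by unfold br; group
    rw [h2]
    exact inv_mem h1
  k3 := by
    intro c h1 h2
    obtain ⟨x, hx, hc⟩ := D.k3 c h2 h1
    exact ⟨x, hx, (mem_C1.1 hc).1⟩

/-- **Existence of the doubled root group.** -/
theorem exists_dw [Finite F] [Finite G] {g : G} (gP : ∀ p ∈ Ps x0 v z c l th, g * p * g⁻¹ ∈ Ps x0 v z c l th)
    (gQ : ∀ p ∈ Qs x0 v z, g * p * g⁻¹ ∈ Qs x0 v z) (gX : ∀ x ∈ Xs x0, g * x * g⁻¹ ∈ Xs x0)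
    (gR : ∀ a ∈ R, ∃ b ∈ R, ∃ x ∈ Xs x0, g * a * g⁻¹ = b * x) (hg : ∃ a ∈ R, g * a * g⁻¹ ∉ R) :
    ∃ (μ : Fˣ) (W : Subgroup G), DW K R (Pt x0 v z l th) (Xs x0) W ∧
      ∀ k ∈ K, (∃ p ∈ Pt x0 v z l th, k * hs μ * k⁻¹ = hs μ * p) →
        (∀ p ∈ Pt x0 v z l th, k * p * k⁻¹ ∈ Pt x0 v z l th) → (∀ x ∈ Xs x0, k * x * k⁻¹ ∈ Xs x0) →
        ∀ w ∈ W, k * w * k⁻¹ ∈ W := by
  obtain ⟨μ, hμ⟩ := L.big
  obtain ⟨b, hb1, hb2, hb3, hb4, r, hr, hbr⟩ := (D.rchain L).exists_b (h1 := hs μ) ⟨μ, rfl⟩ (fun p hp => D.hs_PQ L μ hp)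
    (D.hs_fp L hμ) gP gQ gX gR hg (A := th.range) (by rintro _ ⟨ν, rfl⟩; exact th_mem ν) L.odd_range
  have B : Bp x0 v z c l th b := ⟨hb1, hb2, fun ν => hb3 _ ⟨ν, rfl⟩⟩
  have E := D.env L
  have hbV : b ∈ E.V := by
    refine ⟨fun p hp => B.comm_Pt L hp, fun a ha => ?_⟩
    have h1 := hb4 a ha
    have h2 : a * (b * a * b⁻¹) = b * a * b⁻¹ * a⁻¹ := by
      have h3 : a⁻¹ = a := E.rr_inv ha
      have h4 : b * a * b⁻¹ = a * (a * (b * a * b⁻¹)) := by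
        calc b * a * b⁻¹ = 1 * (b * a * b⁻¹) := by group
          _ = a * a * (b * a * b⁻¹) := by rw [E.Rsq a ha]
          _ = _ := by group
      have h5 := E.RX ha h1
      calc a * (b * a * b⁻¹) = a * (a * (a * (b * a * b⁻¹))) := by rw [← h4]
        _ = a * (a * (b * a * b⁻¹) * a) := by rw [h5]
        _ = (a * (a * (b * a * b⁻¹))) * a := by group
        _ = (b * a * b⁻¹) * a := by rw [← h4]
        _ = _ := by rw [h3]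
    show b * a * b⁻¹ * a⁻¹ ∈ Xs x0
    rw [← h2]; exact h1
  have hne : δ r b ≠ 1 := fun h => hbr (δ_eq_one_iff.1 h)
  obtain ⟨_, ⟨μ', rfl⟩, -, W, hW, hW2⟩ := env_dw E hbV hr hne
  exact ⟨μ', W, hW, hW2⟩

end RData

end Cfsg.Agent.OddHalf.D4F4
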