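import Cfsg.Agent.OddHalf.D4F4.Mixed
import Cfsg.Agent.OddHalf.D4.InputF4End
import Cfsg.Agent.OddHalf.D4.StartFree

/-!
# ODD, D4, the row `F₄(q)`, `q ≥ 4` even: end, (F1), and the row from `Free.AFacts`

* `no_full` : no full pair `K`, `L` such that `N(L)` contains a Sylow 2-subgroup of `K`;
* `innSyl` : (F1);
* **`row_f4e`** : `Cut.Row1 F4e` from `Free.AFacts`.
-/

set_option autoImplicit false
set_option linter.unusedSectionVars false

namespace Cfsg.Agent.OddHalf.D4F4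

open Cfsg Subgroup Cfsg.Agent.OddHalf.D7F4Ex Cfsg.Agent.OddHalf.D7F4Ex.Loc Cfsg.Agent.OddHalf.DblR
  Cfsg.Agent.OddHalf.D7F4 Cfsg.Agent.OddHalf.D7F4.Model
open CoxeterSystem Cfsg.Agent.ChevalleyStructure.CoxeterGeom Cfsg.Agent.Tits.Roots Cfsg.Agent.Tits.Core
open Cfsg.Lie Cfsg.Agent.ChevalleyStructure Cfsg.Agent.ChevalleyStructure.Elts
  Cfsg.Agent.ChevalleyStructure.RootVec Cfsg.Agent.ChevalleyStructure.CoxeterGeomTypes
open Cfsg.Agent.Nodes Cfsg.Agent.Nodes.Reps Cfsg.Agent.Nodes.BNOf Cfsg.Agent.Nodes.RGDChev Cfsg.Agent.Nodes.Coroot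
  Cfsg.Agent.Nodes.KindF Cfsg.Agent.KFacts.ChevTwo Cfsg.Agent.KFacts.ChevTwoTab Cfsg.Agent.KFacts.ChevTwoInst
  Cfsg.Agent.KFacts.F4Star Cfsg.Agent.KFacts.F4Cent Cfsg.Agent.KFacts.F4Pair
open Cfsg.Agent.KFacts.F4Model (cF)
open Cfsg.Agent.OddHalf.D7F4.KFront (UK ZK)
open Cfsg.Agent.OddHalf.D4 Cfsg.Agent.OddHalf.D4.Basic
open scoped Pointwise commutatorElement

universe u v

/-! ### (F1) -/

/-- (F1) for a group with a Sylow 2-subgroup `U` such that automorphisms trivial on `U` are conjugations with elements of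
`U` -/
theorem innSyl_of {X Y : Type*} [Group X] [Finite X] [Group Y] (e : X ≃* Y) {U : Subgroup Y} (hU : IsPGroup 2 ↥U)
    (hmax : ∀ D : Subgroup Y, IsPGroup 2 ↥D → U ≤ D → D ≤ U)
    (h : ∀ α : MulAut Y, (∀ u ∈ U, α u = u) → ∃ z ∈ U, ∀ x, α x = z * x * z⁻¹) : KPairG.InnSyl X := by
  have : Fact (Nat.Prime 2) := ⟨Nat.prime_two⟩
  intro S φ _ hφ
  let P : Sylow 2 X :=
    { toSubgroup := U.comap e.toMonoidHom
      isPGroup' := hU.comap_of_injective e.toMonoidHom e.injective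
      is_maximal' := by
        intro D hD hle
        apply le_antisymm
        · intro x hx
          have h1 : IsPGroup 2 ↥(D.map e.toMonoidHom) := hD.map _
          refine hmax _ h1 ?_ (mem_map_of_mem _ hx)
          intro y hy
          exact ⟨e.symm y, hle (by
            show e (e.symm y) ∈ U
            rw [MulEquiv.apply_symm_apply]; exact hy), e.apply_symm_apply y⟩
        · exact hle }
  obtain ⟨x, hx⟩ := MulAction.exists_smul_eq X P S
  have hmem : ∀ s, s ∈ S ↔ e (x⁻¹ * s * x) ∈ U := by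
    intro s
    rw [← hx]
    have h1 : s ∈ x • P ↔ x⁻¹ * s * x ∈ (P : Subgroup X) := by
      constructor
      · intro hs
        have h2 : s ∈ (MulAut.conj x) • (P : Subgroup X) := hs
        rw [Subgroup.mem_pointwise_smul_iff_inv_smul_mem] at h2
        simpa [MulAut.smul_def, mul_assoc] using h2
      · intro hs
        show s ∈ (MulAut.conj x) • (P : Subgroup X)
        rw [Subgroup.mem_pointwise_smul_iff_inv_smul_mem]
        simpa [MulAut.smul_def, mul_assoc] using hs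
    rw [h1]; rfl
  let ψ : MulAut X := (MulAut.conj x)⁻¹ * φ * MulAut.conj x
  have hψ : ∀ y, ψ y = x⁻¹ * φ (x * y * x⁻¹) * x := by
    intro y
    simp [ψ, MulAut.mul_apply, MulAut.conj_apply]
  let α : MulAut Y := (e.symm.trans ψ).trans e
  have hα : ∀ y, α y = e (ψ (e.symm y)) := fun y => rfl
  obtain ⟨z, hz, hz'⟩ := h α (by
    intro u hu
    rw [hα, hψ]
    have h1 : x * e.symm u * x⁻¹ ∈ S := by
      rw [hmem]
      have : x⁻¹ * (x * e.symm u * x⁻¹) * x = e.symm u := by group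
      rw [this, MulEquiv.apply_symm_apply]; exact hu
    rw [hφ _ h1]
    have : x⁻¹ * (x * e.symm u * x⁻¹) * x = e.symm u := by group
    rw [this, MulEquiv.apply_symm_apply])
  refine ⟨x * e.symm z * x⁻¹, ?_, ?_⟩
  · rw [hmem]
    have : x⁻¹ * (x * e.symm z * x⁻¹) * x = e.symm z := by group
    rw [this, MulEquiv.apply_symm_apply]; exact hz
  · ext w
    have h1 := hz' (e (x⁻¹ * w * x))
    rw [hα, MulEquiv.symm_apply_apply, hψ] at h1
    have h2 : x * (x⁻¹ * w * x) * x⁻¹ = w := by group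
    rw [h2] at h1
    have h3 : x⁻¹ * φ w * x = e.symm z * (x⁻¹ * w * x) * (e.symm z)⁻¹ := by
      apply e.injective
      have h4 : e (e.symm z * (x⁻¹ * w * x) * (e.symm z)⁻¹) = z * e (x⁻¹ * w * x) * z⁻¹ := by
        rw [map_mul e (e.symm z * (x⁻¹ * w * x)), map_mul e (e.symm z), map_inv, MulEquiv.apply_symm_apply]
      rw [h1, h4]
    rw [MulAut.conj_apply]
    calc φ w = x * (x⁻¹ * φ w * x) * x⁻¹ := by group
      _ = _ := by rw [h3]; group

section

variable {F : Type u} [Field F] [Finite F] [CharP F 2]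

theorem innSyl (hq : 2 < Nat.card F) {X : Type*} [Group X] [Finite X] (e : X ≃* ↥(chevF4.group F)) :
    KPairG.InnSyl X := by
  have hs : IsSimpleGroup ↥(chevF4.group F) := (Cfsg.Agent.S1054.result chevF4 (by simp)).1
  refine innSyl_of e (U := UK F) (KFront.kf0 hq).pU (fun D hD hle => (KFront.kf0 hq).maxU D hD hle) ?_
  intro α hα
  obtain ⟨z, hz, h⟩ := InputF4.aut_U hα
  exact ⟨z, (sup_le KFront.X1_le_U KFront.X2_le_U : ZK F ≤ UK F) hz, h⟩

/-! ### The end -/

variable {G : Type v} [Group G] {f : ↥(chevF4.group F) →* G}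

theorem SE_eq {f : ↥(chevF4.group F) →* G} : SE (fun a u => f (eF F a u)) = (UK F).map f := by
  apply le_antisymm
  · refine SupE_le fun c hc u => ?_
    refine mem_map_of_mem f (RGD.le_Sup (X := XF F) (S := RGD.Pos cF isType.isCartan) ⟨root_iff.2 hc.1, hc.2⟩
      ((mem_XF_iff cF (root_iff.2 hc.1)).2 ⟨u, rfl⟩))
  · rw [map_le_iff_le_comap]
    refine RGD.Sup_le fun c hc x hx => ?_
    obtain ⟨u, rfl⟩ := (mem_XF_iff cF hc.1).1 hx
    exact mem_SupE (E := fun a u => f (eF F a u)) (S := {c | c ∈ rts ∧ ∀ i, 0 ≤ c i}) ⟨root_iff.1 hc.1, hc.2⟩ u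

theorem v44 : v 44 = s0 := by
  rw [KBridge.vv_eq]; decide +kernel

theorem v47 : v 47 = r0 := by
  rw [KBridge.vv_eq]; decide +kernel

theorem XE_eq (hq : ∃ μ : Fˣ, μ ≠ 1) (hf : Function.Injective f) :
    XE (fun a u => f (eF F a u)) = (ZK F).map f := by
  have S := setup_id hq hf
  show Xs _ ⊔ Xs _ = (XF F (v 47) ⊔ XF F (v 44)).map f
  rw [Subgroup.map_sup, v44, v47, sup_comm]
  exact congrArg₂ _ (S.map_X r0_mem).symm (S.map_X s0_mem).symm

variable [Finite G]

theorem std1 {K : Subgroup G} (hD : StartQ.DataQ K) : Std1 K := by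
  refine ⟨?_, ?_, ?_⟩
  · intro t ht htt ht1 g hg k hk
    have h1 := hD.tight.mem ht (Input.orderOf_eq_two' htt ht1) hg
    exact (mem_normalizer_iff.mp h1 k).mp hk
  · intro t ht htt ht1 g hg
    exact CommConj.cj_eq_of_mem_normalizer (hD.tight.tight g t ht (Input.orderOf_eq_two' htt ht1) hg)
  · intro k hk hx
    exact hD.cen k hk (mem_centralizer_iff.2 fun x hx' => (hx x hx').symm)

theorem hC1 {K : Subgroup G} (hD : StartQ.DataQ K) {E : Subgroup G} (hE : IsSyl E (centralizer (K : Set G))) :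
    ∀ P : Subgroup G, P ≤ DblR.C1 K E → P ≤ ⁅P, P⁆ → P = ⊥ := by
  intro P hP hPP
  refine hD.core E hE P ?_ ?_ hPP
  · intro x hx
    exact mem_centralizer_iff.2 fun k hk => ((DblR.mem_C1.1 (hP hx)).1 k hk).symm
  · intro x hx q hq
    exact (DblR.mem_C1.1 (hP hx)).2 q hq

/-- **No full pair `K`, `L` such that `N(L)` contains a Sylow 2-subgroup of `K`.** -/
theorem no_full (hq : 2 < Nat.card F) (hf : Function.Injective f) (hD : StartQ.DataQ f.range)
    {L Q U : Subgroup G} (hp : FullPair f.range L Q U) {S' : Subgroup G} (hS' : IsSyl S' f.range)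
    (hS'L : S' ≤ normalizer (L : Set G)) : False := by
  have hs : IsSimpleGroup ↥(chevF4.group F) := (Cfsg.Agent.S1054.result chevF4 (by simp)).1
  have hμ : ∃ μ : Fˣ, μ ≠ 1 := by
    by_contra hcon
    push Not at hcon
    have h1 : ∀ x : F, x = 0 ∨ x = 1 := by
      intro x
      by_cases hx : x = 0
      · exact Or.inl hx
      · right
        have := congrArg Units.val (hcon (Units.mk0 x hx))
        simpa using this
    have h2 : (Set.univ : Set F) ⊆ {0, 1} := fun x _ => h1 x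
    have h3 := (Set.ncard_le_ncard h2).trans (Set.ncard_insert_le _ _)
    rw [Set.ncard_univ, Set.ncard_singleton] at h3
    omega
  obtain ⟨k, hk, γ, -, -, hS, hX, h1, -, h3, -⟩ := InputF4End.root_pair hf hq hD.tight hD.even hD.std hD.core hp hS' hS'L
  obtain ⟨t, t', ht, ht1, ht', ht1', hne⟩ := Input.exists_two_elts hD.nrk hp.sylQ
  rw [← SE_eq] at hS
  rw [← XE_eq hμ hf] at hX h1
  exact mixed (setup_id hμ hf) (std1 hD) hp.sylQ.le hp.sylQ.two (fun D h1 h2 h3 => hp.sylQ.max D h3 h1 h2)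
    (hC1 hD hp.sylQ) ht ht1 ht' ht1' hne hS hX h1 h3

end

/-- the embedding with image `K` -/
theorem exists_emb {G : Type*} [Group G] {K : Subgroup G} {Y : Type*} [Group Y] (e : ↥K ≃* Y) :
    ∃ f : Y →* G, Function.Injective f ∧ f.range = K := by
  refine ⟨K.subtype.comp e.symm.toMonoidHom, K.subtype_injective.comp e.symm.injective, ?_⟩
  rw [MonoidHom.range_comp, MonoidHom.range_eq_top.2 e.symm.surjective, ← MonoidHom.range_eq_map]
  exact K.range_subtype

theorem field_of {F : Type*} [Field F] [Fintype F] {a : ℕ} (ha : 2 ≤ a) (hc : Fintype.card F = 2 ^ a) :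
    CharP F 2 ∧ 2 < Nat.card F := by
  have : Fact (Nat.Prime 2) := ⟨Nat.prime_two⟩
  refine ⟨charP_of_card_eq_prime_pow hc, ?_⟩
  rw [Nat.card_eq_fintype_card, hc]
  calc 2 < 2 ^ 2 := by norm_num
    _ ≤ 2 ^ a := Nat.pow_le_pow_right (by norm_num) ha

/-- **The row `F₄(q)`, `q ≥ 4` even**, from `Free.BFacts`. -/
theorem row_f4e (h1173 : Start.P1173.{v}) (hFT : StartQ.FTT.{v})
    (hB : ∀ (F : Type) [Field F] [Fintype F] [CharP F 2], 2 < Nat.card F → ∀ (G : Type v) [Group G] [Finite G]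
      (K : Subgroup G), ↥K ≃* ↥(chevF4.group F) → Free.BFacts K) :
    Cut.Row1.{v} (fun K _ => Cut.F4e K) := by
  refine StartQ.row_of_free' h1173 hFT ?_ ?_ ?_
  · rintro X _ _ _ ⟨F, _, _, a, ha, hc, ⟨e⟩⟩
    obtain ⟨h1, h2⟩ := field_of ha hc
    exact innSyl h2 e
  · rintro G _ hG K hK hD ⟨F, _, _, a, ha, hc, ⟨e⟩⟩
    have := hG.fin
    obtain ⟨h1, h2⟩ := field_of ha hc
    obtain ⟨f, hf, rfl⟩ := exists_emb e
    intro L Q U hp S' hS' hS'L
    exact no_full h2 hf hD hp hS' hS'L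
  · rintro G _ hG K hK hD ⟨F, _, _, a, ha, hc, ⟨e⟩⟩ g
    have := hG.fin
    obtain ⟨h1, h2⟩ := field_of ha hc
    exact hB F h2 G (CommConj.cj g K)
      ((K.equivMapOfInjective (MulAut.conj g).toMonoidHom (MulAut.conj g).injective).symm.trans e)

/-- **The row `F₄(q)`, `q ≥ 4` even**, from `Free.AFacts`. -/
theorem row_f4e' (h1173 : Start.P1173.{v}) (hFT : StartQ.FTT.{v})
    (hA : ∀ (F : Type) [Field F] [Fintype F] [CharP F 2], 2 < Nat.card F →
      ∃ T : Sylow 2 ↥(chevF4.group F), Free.AFacts T) :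
    Cut.Row1.{v} (fun K _ => Cut.F4e K) :=
  row_f4e h1173 hFT fun F _ _ _ hq _ _ _ _ e => by
    obtain ⟨T, hT⟩ := hA F hq
    exact hT.bfacts e.symm

end Cfsg.Agent.OddHalf.D4F4
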