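import Cfsg.Agent.OddHalf.D4F4.Setup
import Cfsg.Agent.Schreier.Chev

/-!
# ODD, D4, `F₄(q)`, `q ≥ 4` even: no commuting pair of root type

* **`row`** : `f : F₄(q) →* G` injective with image `K`, `E` a Sylow 2-subgroup of `C_G(K)` of order at least 4:
  there is no commuting pair of root type (long or short).
-/

set_option autoImplicit false
set_option linter.unusedSectionVars false

namespace Cfsg.Agent.OddHalf.D4F4

open Subgroup Cfsg.Agent.OddHalf.D7F4Ex Cfsg.Agent.OddHalf.D7F4Ex.Loc Cfsg.Agent.OddHalf.DblR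
  Cfsg.Agent.OddHalf.D7F4.Model
open CoxeterSystem Cfsg.Agent.ChevalleyStructure.CoxeterGeom Cfsg.Agent.Tits.Roots Cfsg.Agent.Tits.Core
open Cfsg.Lie Cfsg.Agent.ChevalleyStructure Cfsg.Agent.ChevalleyStructure.Elts
  Cfsg.Agent.ChevalleyStructure.RootVec Cfsg.Agent.ChevalleyStructure.CoxeterGeomTypes
open Cfsg.Agent.Nodes Cfsg.Agent.Nodes.Reps Cfsg.Agent.Nodes.BNOf Cfsg.Agent.Nodes.RGDChev Cfsg.Agent.Nodes.Coroot
  Cfsg.Agent.Nodes.KindF Cfsg.Agent.KFacts.ChevTwo Cfsg.Agent.KFacts.ChevTwoTab Cfsg.Agent.KFacts.ChevTwoInst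
  Cfsg.Agent.KFacts.F4Star Cfsg.Agent.KFacts.F4Cent Cfsg.Agent.KFacts.F4Pair Cfsg.Agent.KFacts.F4Torus
  Cfsg.Agent.KFacts.F4Perf Cfsg.Agent.KFacts.F4AutPair Cfsg.Agent.KFacts.RgdTI
open Cfsg.Agent.KFacts.F4Model (cF)
open scoped commutatorElement

universe u

theorem two_rfl : ∀ a ∈ rts, B a a = 2 → ∃ b ∈ rts, ∃ c ∈ rts, rfl' c (rfl' b a) = s0 := by decide +kernel

variable {F : Type u} [Field F] [Finite F] [CharP F 2] {G : Type*} [Group G]

namespace Setup

variable {f : ↥(chevF4.group F) →* G} {δ : (Fin 4 → ℤ) → (Fin 4 → ℤ)} {E : (Fin 4 → ℤ) → F → G}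
  {T : (Fin 4 → Fˣ) →* G} (S : Setup f δ E T)

include S

theorem map_X {a : Fin 4 → ℤ} (ha : a ∈ rts) : (XF F (δ a)).map f = Xs (E a) := by
  ext g
  rw [mem_Xs_iff S.ch ha]
  constructor
  · rintro ⟨x, hx, rfl⟩
    exact S.e' a ha x hx
  · rintro ⟨u, rfl⟩
    obtain ⟨x, hx, h⟩ := S.e a ha u
    exact ⟨x, hx, h.symm⟩

/-- an element of `K` conjugating `E a` to `E s0` -/
theorem exists_cj {a : Fin 4 → ℤ} (ha : a ∈ rts) (h : B a a = 2) :
    ∃ m ∈ f.range, cj m (Xs (E a)) = Xs (E s0) := by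
  obtain ⟨b, hb, c, hc, e⟩ := two_rfl a ha h
  refine ⟨nE E c * nE E b, mul_mem (S.kc.nK hc (k_neg c hc).1) (S.kc.nK hb (k_neg b hb).1), ?_⟩
  rw [cj_mul, cj_X S.ch hb ha, cj_X S.ch hc (rfl_mem b hb a ha), e]

end Setup

/-- **No commuting pair of root type**, for one chart. -/
theorem Setup.row [Finite G] [IsSimpleGroup ↥(chevF4.group F)] {f : ↥(chevF4.group F) →* G}
    {δ : (Fin 4 → ℤ) → (Fin 4 → ℤ)} {E : (Fin 4 → ℤ) → F → G} {T : (Fin 4 → Fˣ) →* G} (S : Setup f δ E T)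
    (St : Std1 f.range) {R : Subgroup G} (hE : R ≤ Subgroup.centralizer (f.range : Set G)) (hE2 : IsPGroup 2 ↥R)
    (hEmax : ∀ D : Subgroup G, R ≤ D → D ≤ Subgroup.centralizer (f.range : Set G) → IsPGroup 2 ↥D → D ≤ R)
    (hC1 : ∀ H : Subgroup G, H ≤ C1 f.range R → H ≤ ⁅H, H⁆ → H = ⊥)
    {t t' : G} (ht : t ∈ R) (ht1 : t ≠ 1) (ht' : t' ∈ R) (ht1' : t' ≠ 1) (hne : t' ≠ t)
    {γ k : G} (hk : k ∈ f.range) (hg1 : cj γ R ≤ R ⊔ Xs (E s0))
    (hg2 : R ≤ cj γ (R ⊔ cj k (Xs (E s0)))) (hg3 : ¬ cj γ R ≤ R) : False := by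
  have hXK : Xs (E s0) ≤ f.range := XE_le S.kc
  have hKc : ∀ e ∈ R, ∀ y ∈ f.range, e * y = y * e := fun e he y hy =>
    ((Subgroup.mem_centralizer_iff.1 (hE he)) y hy).symm
  have hsplit : ∀ x ∈ R ⊔ Xs (E s0), ∃ e ∈ R, ∃ u ∈ Xs (E s0), x = e * u := by
    intro x h4
    have h8 : x ∈ ((R ⊔ Xs (E s0) : Subgroup G) : Set G) := h4
    have h7 : Xs (E s0) ≤ Subgroup.normalizer (R : Set G) := by
      intro u hu
      rw [Subgroup.mem_normalizer_iff]
      intro e
      constructor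
      · intro he
        have := hKc e he u (hXK hu)
        have e2 : u * e * u⁻¹ = e := by rw [← this]; group
        rwa [e2]
      · intro he
        have := hKc _ he u (hXK hu)
        have e2 : e = u * e * u⁻¹ := by
          calc e = u⁻¹ * ((u * e * u⁻¹) * u) := by group
            _ = u⁻¹ * (u * (u * e * u⁻¹)) := by rw [this]
            _ = _ := by group
        rw [e2]; exact he
    rw [Subgroup.coe_mul_of_right_le_normalizer_left _ _ h7] at h8
    obtain ⟨e, he, u, hu, e3⟩ := h8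
    exact ⟨e, he, u, hu, e3.symm⟩
  -- `R` and `cj γ R` have trivial intersection
  have hEγ : ∀ y ∈ cj γ R, y ∈ R → y = 1 := by
    intro y hy hyE
    by_contra hy1
    obtain ⟨m, hm⟩ := hE2 ⟨y, hyE⟩
    have hm' : y ^ 2 ^ m = 1 := congrArg Subtype.val hm
    obtain ⟨j, hj1, hj2⟩ : ∃ j : ℕ, y ^ 2 ^ j ≠ 1 ∧ y ^ 2 ^ (j + 1) = 1 := by
      by_contra hcon
      push Not at hcon
      have key : ∀ j : ℕ, y ^ 2 ^ j ≠ 1 := by
        intro j
        induction j with
        | zero => simpa using hy1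
        | succ j ih => exact hcon j ih
      exact key m hm'
    set z := y ^ 2 ^ j with hz
    have hzz : z * z = 1 := by
      rw [hz, ← pow_two, ← pow_mul, ← pow_succ]; exact hj2
    have hzE : z ∈ R := pow_mem hyE _
    have hzγ : z ∈ cj γ R := pow_mem hy _
    rw [mem_cj] at hzγ
    have h1 : (γ⁻¹ * z * γ) * (γ⁻¹ * z * γ) = 1 := by
      calc (γ⁻¹ * z * γ) * (γ⁻¹ * z * γ) = γ⁻¹ * (z * z) * γ := by group
        _ = 1 := by rw [hzz]; group
    have h2 : γ⁻¹ * z * γ ≠ 1 := by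
      intro h0
      apply hj1
      calc z = γ * (γ⁻¹ * z * γ) * γ⁻¹ := by group
        _ = 1 := by rw [h0]; group
    have h3 : cj γ f.range = f.range := by
      apply St.te _ (hE hzγ) h1 h2 γ
      have : γ * (γ⁻¹ * z * γ) * γ⁻¹ = z := by group
      rw [this]
      exact hE hzE
    apply hg3
    intro x hx
    obtain ⟨e, he, u, hu, rfl⟩ := hsplit x (hg1 hx)
    have h5 : e * u ∈ Subgroup.centralizer (f.range : Set G) := by
      rw [← h3, ← cj_centralizer]
      exact cj_mono γ hE hx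
    have h6 : u ∈ Subgroup.centralizer (f.range : Set G) := by
      have : u = e⁻¹ * (e * u) := by group
      rw [this]
      exact mul_mem (inv_mem (hE he)) h5
    have h7 : u = 1 := St.ctr u (hXK hu) fun x hx => ((Subgroup.mem_centralizer_iff.1 h6) x hx).symm
    rw [h7, mul_one]; exact he
  -- `R` is elementary abelian
  have hEE : ∀ x ∈ R, x * x = 1 := by
    intro x hx
    have h1 : γ * x * γ⁻¹ ∈ cj γ R := conj_mem_cj.2 hx
    obtain ⟨e, he, u, hu, e1⟩ := hsplit _ (hg1 h1)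
    have h2 := hKc e he u (hXK hu)
    have h3 : u * u = 1 := by
      obtain ⟨a, rfl⟩ := (mem_Xs_iff S.ch s0_mem).1 hu
      rw [← S.ch.add s0 s0_mem, S.ch.two]
      have := S.ch.add s0 s0_mem 0 0
      rw [add_zero] at this
      exact (mul_eq_left.1 this.symm)
    have h4 : (γ * x * γ⁻¹) * (γ * x * γ⁻¹) = e * e := by
      rw [e1]
      calc e * u * (e * u) = e * (u * e) * u := by group
        _ = e * e * (u * u) := by rw [← h2]; group
        _ = e * e := by rw [h3, mul_one]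
    have h5 := hEγ _ (mul_mem h1 h1) (by rw [h4]; exact mul_mem he he)
    calc x * x = γ⁻¹ * ((γ * x * γ⁻¹) * (γ * x * γ⁻¹)) * γ := by group
      _ = 1 := by rw [h5]; group
  have amb : Amb f.range R := ⟨hEE, hKc, fun t ht ht1 g hg k hk => St.nor t (hE ht) (hEE t ht) ht1 g hg k hk, St.ctr⟩
  have two : ∀ c ∈ C1 f.range R, IsPGroup 2 (Subgroup.zpowers c) → c ∈ R := by
    intro c hc hc2
    have h1 := mem_C1.1 hc
    have h2 : Subgroup.zpowers c ≤ Subgroup.normalizer (R : Set G) := by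
      rw [Subgroup.zpowers_le, mem_normalizer_iff_cj]
      have key : ∀ c : G, (∀ t ∈ R, c * t = t * c) → cj c R ≤ R := by
        intro c hc x hx
        rw [mem_cj] at hx
        have h3 := hc _ hx
        have : x = c⁻¹ * x * c := by
          calc x = (c * (c⁻¹ * x * c)) * c⁻¹ := by group
            _ = ((c⁻¹ * x * c) * c) * c⁻¹ := by rw [h3]
            _ = _ := by group
        rw [this]; exact hx
      exact cj_eq_of_le' (key c h1.2) (key c⁻¹ fun t ht => comm_inv (h1.2 t ht))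
    have h3 : IsPGroup 2 ↥(R ⊔ Subgroup.zpowers c) := hE2.to_sup_of_normal_left' hc2 h2
    refine hEmax _ le_sup_left ?_ h3 (Subgroup.mem_sup_right (Subgroup.mem_zpowers c))
    refine sup_le hE ?_
    rw [Subgroup.zpowers_le, Subgroup.mem_centralizer_iff]
    exact fun y hy => (h1.1 y hy).symm
  -- elements of `C_G(R)` normalise `K`
  have hnorm : ∀ c : G, (∀ a ∈ R, c * a = a * c) → c ∈ Subgroup.normalizer (f.range : Set G) := by
    intro c hc
    rw [mem_normalizer_iff_cj]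
    have key : ∀ c : G, (∀ a ∈ R, c * a = a * c) → cj c f.range ≤ f.range := by
      intro c hc x hx
      rw [mem_cj] at hx
      have := amb.nor t ht ht1 c (hc t ht) _ hx
      have e2 : c * (c⁻¹ * x * c) * c⁻¹ = x := by group
      rwa [e2] at this
    exact cj_eq_of_le' (key c hc) (key c⁻¹ fun t ht => comm_inv (hc t ht))
  refine S.kp.no_pair amb (S.cf amb hnorm) two ?_ hC1 ht ht1 ht' ht1' hne hk hg1 hg2 hg3
  -- Schreier
  intro H hHN hHp x hx
  let e : ↥(chevF4.group F) ≃* ↥f.range := MonoidHom.ofInjective S.inj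
  let φ : ↥(Subgroup.normalizer (f.range : Set G)) →* MulAut ↥(chevF4.group F) :=
    (MulAut.congr e.symm).toMonoidHom.comp (Subgroup.normalizerMonoidHom f.range)
  have hφ : ∀ (c : ↥(Subgroup.normalizer (f.range : Set G))) (y : ↥(chevF4.group F)), f (φ c y) = c * f y * (c : G)⁻¹ := by
    intro c y
    have h1 : φ c y = e.symm (Subgroup.normalizerMonoidHom f.range c (e y)) := rfl
    have h2 : ∀ z : ↥f.range, f (e.symm z) = z := by
      intro z
      have : ((e (e.symm z) : ↥f.range) : G) = z := by rw [MulEquiv.apply_symm_apply]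
      exact this
    rw [h1, h2]
    rfl
  have h1 : ((H.subgroupOf (Subgroup.normalizer (f.range : Set G))).map φ) ≤
      ⁅(H.subgroupOf (Subgroup.normalizer (f.range : Set G))).map φ,
        (H.subgroupOf (Subgroup.normalizer (f.range : Set G))).map φ⁆ := by
    rw [← Subgroup.map_commutator]
    apply Subgroup.map_mono
    intro y hy
    have hy' : (y : G) ∈ ⁅H, H⁆ := hHp (Subgroup.mem_subgroupOf.1 hy)
    have h2 : ⁅H, H⁆ = ⁅H.subgroupOf (Subgroup.normalizer (f.range : Set G)),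
        H.subgroupOf (Subgroup.normalizer (f.range : Set G))⁆.map (Subgroup.normalizer (f.range : Set G)).subtype := by
      rw [Subgroup.map_commutator, Subgroup.map_subgroupOf_eq_of_le hHN]
    rw [h2] at hy'
    obtain ⟨y', hy1, hy2⟩ := hy'
    have : y' = y := Subtype.ext hy2
    rwa [← this]
  have h2 : φ ⟨x, hHN hx⟩ ∈ (H.subgroupOf (Subgroup.normalizer (f.range : Set G))).map φ :=
    ⟨⟨x, hHN hx⟩, hx, rfl⟩
  obtain ⟨y, hy⟩ := Cfsg.Agent.Schreier.Chev.sch_f4 F _ (le_antisymm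
    (Subgroup.commutator_le_self _) h1) h2
  refine ⟨f y, ⟨y, rfl⟩, (f y)⁻¹ * x, ?_, by group⟩
  rintro _ ⟨z, rfl⟩
  have h3 := hφ ⟨x, hHN hx⟩ z
  rw [← hy] at h3
  have h4 : f y * f z * (f y)⁻¹ = x * f z * x⁻¹ := by
    rw [← map_inv, ← map_mul, ← map_mul]
    exact h3
  calc (f y)⁻¹ * x * f z = (f y)⁻¹ * (x * f z * x⁻¹) * x := by group
    _ = f z * ((f y)⁻¹ * x) := by rw [← h4]; group

/-- **No commuting pair of root type**, for an arbitrary root `r`. -/
theorem row [Finite G] [IsSimpleGroup ↥(chevF4.group F)] (hq : ∃ μ : Fˣ, μ ≠ 1) {f : ↥(chevF4.group F) →* G}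
    (hf : Function.Injective f) {K : Subgroup G} (hK : f.range = K)
    (St : Std1 K) {R : Subgroup G} (hE : R ≤ Subgroup.centralizer (K : Set G)) (hE2 : IsPGroup 2 ↥R)
    (hEmax : ∀ D : Subgroup G, R ≤ D → D ≤ Subgroup.centralizer (K : Set G) → IsPGroup 2 ↥D → D ≤ R)
    (hC1 : ∀ H : Subgroup G, H ≤ C1 K R → H ≤ ⁅H, H⁆ → H = ⊥)
    {t t' : G} (ht : t ∈ R) (ht1 : t ≠ 1) (ht' : t' ∈ R) (ht1' : t' ≠ 1) (hne : t' ≠ t)
    {r : Fin 4 → ℤ} (hr : IsRoot cF isType.isCartan r) {γ k : G} (hk : k ∈ K)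
    (hg1 : cj γ R ≤ R ⊔ (XF F r).map f) (hg2 : R ≤ cj γ (R ⊔ cj k ((XF F r).map f))) (hg3 : ¬ cj γ R ≤ R) :
    False := by
  subst hK
  -- reduction to `s0` in a chart
  have key : ∀ (δ : (Fin 4 → ℤ) → (Fin 4 → ℤ)) (E : (Fin 4 → ℤ) → F → G) (T : (Fin 4 → Fˣ) →* G),
      Setup f δ E T → B (δ r) (δ r) = 2 → False := by
    intro δ E T S h2
    have hr' : r ∈ rts := root_iff.1 hr
    have hd := S.del.dm r hr'
    have hX := S.map_X hd
    rw [S.del.dd r hr'] at hX
    obtain ⟨m, hm, hmX⟩ := S.exists_cj hd h2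
    have hmR : cj m R = R := by
      have h1 : ∀ m ∈ f.range, cj m R ≤ R := by
        intro m hm x hx
        rw [mem_cj] at hx
        have h1 := ((Subgroup.mem_centralizer_iff.1 (hE hx)) m hm)
        have : x = m⁻¹ * x * m := by
          calc x = m * (m⁻¹ * x * m) * m⁻¹ := by group
            _ = (m⁻¹ * x * m) * m * m⁻¹ := by rw [← h1]
            _ = _ := by group
        rw [this]; exact hx
      exact cj_eq_of_le' (h1 m hm) (h1 m⁻¹ (inv_mem hm))
    refine S.row St hE hE2 hEmax hC1 ht ht1 ht' ht1' hne (γ := m * γ) (k := k * m⁻¹) (mul_mem hk (inv_mem hm)) ?_ ?_ ?_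
    · rw [cj_mul]
      have := cj_mono m hg1
      rwa [cj_sup, hmR, hX, hmX] at this
    · rw [cj_mul]
      have := cj_mono m hg2
      rw [hmR, hX] at this
      have h1 : cj (k * m⁻¹) (Xs (E s0)) = cj k (Xs (E (δ r))) := by
        rw [cj_mul, ← hmX, cj_inv_cj]
      rw [h1]; exact this
    · intro h
      apply hg3
      rw [cj_mul] at h
      have := cj_mono m⁻¹ h
      rwa [cj_inv_cj, cj_inv_eq' hmR] at this
  have hr' : r ∈ rts := root_iff.1 hr
  rcases norm r hr' with h | h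
  · exact key _ _ _ (setup_id hq hf) h
  · obtain ⟨rt, hrt⟩ := exists_rt (F := F)
    refine key _ _ _ (setup_dual hq hf hrt) ?_
    rcases k_norm r hr' with h' | h' <;> omega

end Cfsg.Agent.OddHalf.D4F4
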