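import Cfsg.Agent.OddHalf.D4F4.Swap
import Cfsg.Agent.OddHalf.D4F4.Row

/-!
# ODD, D4, `F₄(q)`, `q ≥ 4` even: the elements of `Z(S) = X_σ X_ρ` of mixed type

* `NX E R g` : `R ^ g ≤ R X`, `X ^ g = X`;
* `type` : if `R ^ g ∋ c x`, `x ∈ X_σ`, then `R ^ g ≤ R X_σ` (same for `ρ`);
* **`mixed`** : there is no `γ` with `S ^ γ = S`, `X ^ γ = X`, `R ^ γ ≤ R X`, `R ^ γ ≠ R`.
-/

set_option autoImplicit false
set_option linter.unusedSectionVars false

namespace Cfsg.Agent.OddHalf.D4F4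

open Subgroup Cfsg.Agent.OddHalf.D7F4Ex Cfsg.Agent.OddHalf.D7F4Ex.Loc Cfsg.Agent.OddHalf.DblR
  Cfsg.Agent.OddHalf.D7F4 Cfsg.Agent.OddHalf.D7F4.Model
open CoxeterSystem Cfsg.Agent.ChevalleyStructure.CoxeterGeom Cfsg.Agent.Tits.Roots Cfsg.Agent.Tits.Core
open Cfsg.Lie Cfsg.Agent.ChevalleyStructure Cfsg.Agent.ChevalleyStructure.Elts
  Cfsg.Agent.ChevalleyStructure.RootVec Cfsg.Agent.ChevalleyStructure.CoxeterGeomTypes
open Cfsg.Agent.Nodes Cfsg.Agent.Nodes.Reps Cfsg.Agent.Nodes.BNOf Cfsg.Agent.Nodes.RGDChev Cfsg.Agent.Nodes.Coroot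
  Cfsg.Agent.Nodes.KindF Cfsg.Agent.KFacts.ChevTwo Cfsg.Agent.KFacts.ChevTwoTab Cfsg.Agent.KFacts.ChevTwoInst
  Cfsg.Agent.KFacts.F4Star Cfsg.Agent.KFacts.F4Cent Cfsg.Agent.KFacts.F4Pair
open Cfsg.Agent.KFacts.F4Model (cF)
open scoped commutatorElement

universe u

/-- `{p, q} = {σ, ρ}` -/
def PQ (p q : Fin 4 → ℤ) : Prop := (p = s0 ∧ q = r0) ∨ (p = r0 ∧ q = s0)

theorem PQ.symm {p q : Fin 4 → ℤ} (h : PQ p q) : PQ q p := by
  rcases h with ⟨rfl, rfl⟩ | ⟨rfl, rfl⟩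
  · exact Or.inr ⟨rfl, rfl⟩
  · exact Or.inl ⟨rfl, rfl⟩

theorem PQ.mem {p q : Fin 4 → ℤ} (h : PQ p q) : p ∈ rts := by
  rcases h with ⟨rfl, rfl⟩ | ⟨rfl, rfl⟩
  · exact s0_mem
  · exact r0_mem

theorem dd_r0 : dd r0 = ![2, 2, 0, 0] := by decide +kernel

section Gen

variable {F : Type*} [Field F] {G : Type*} [Group G] {E : (Fin 4 → ℤ) → F → G} {T : (Fin 4 → Fˣ) →* G}

theorem PQ.sup {p q : Fin 4 → ℤ} (h : PQ p q) : XE E = Xs (E p) ⊔ Xs (E q) := by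
  rcases h with ⟨rfl, rfl⟩ | ⟨rfl, rfl⟩
  · rfl
  · exact sup_comm _ _

theorem PQ.comm {p q : Fin 4 → ℤ} (h : PQ p q) (C : Chart E T) (a b : F) : E p a * E q b = E q b * E p a := by
  rcases h with ⟨rfl, rfl⟩ | ⟨rfl, rfl⟩
  · exact XX_comm C _ (EX a) _ (EX b)
  · exact (XX_comm C _ (EX b) _ (EX a)).symm

theorem PQ.mem_XE {p q : Fin 4 → ℤ} (h : PQ p q) (C : Chart E T) {x : G} : x ∈ XE E ↔ ∃ a b, x = E p a * E q b := by
  rcases h with ⟨rfl, rfl⟩ | ⟨rfl, rfl⟩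
  · exact D4F4.mem_XE C
  · rw [D4F4.mem_XE C]
    constructor
    · rintro ⟨a, b, rfl⟩
      exact ⟨b, a, XX_comm C _ (EX a) _ (EX b)⟩
    · rintro ⟨a, b, rfl⟩
      exact ⟨b, a, (XX_comm C _ (EX b) _ (EX a)).symm⟩

theorem PQ.zero {p q : Fin 4 → ℤ} (h : PQ p q) (C : Chart E T) {a b : F} (e : E p a * E q b = 1) : a = 0 ∧ b = 0 := by
  rcases h with ⟨rfl, rfl⟩ | ⟨rfl, rfl⟩
  · exact XE_zero C e
  · rw [← XX_comm C _ (EX b) _ (EX a)] at e
    exact (XE_zero C e).symm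

theorem E_zero (C : Chart E T) {a : Fin 4 → ℤ} (ha : a ∈ rts) : E a 0 = 1 := by
  have := C.add _ ha 0 0
  rw [add_zero] at this
  exact mul_eq_left.1 this.symm

theorem E_inv (C : Chart E T) {a : Fin 4 → ℤ} (ha : a ∈ rts) (u : F) : (E a u)⁻¹ = E a u := by
  rw [inv_eq_iff_mul_eq_one, ← C.add _ ha, C.two, E_zero C ha]

theorem chd_r0 (ν : Fin 4 → Fˣ) : chd ν r0 = ν 0 ^ 2 * ν 1 ^ 2 := by
  unfold chd
  rw [dd_r0, Fin.prod_univ_four]
  simp

/-- the torus on `X` -/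
theorem PQ.exists_t [Finite F] {p q : Fin 4 → ℤ} (h : PQ p q) (C : Chart E T) (α β : Fˣ) :
    ∃ ν, (∀ a, T ν * E p a * (T ν)⁻¹ = E p (α * a)) ∧ ∀ b, T ν * E q b * (T ν)⁻¹ = E q (β * b) := by
  have key : ∀ α β : Fˣ, ∃ ν, (∀ a, T ν * E s0 a * (T ν)⁻¹ = E s0 (α * a)) ∧
      ∀ b, T ν * E r0 b * (T ν)⁻¹ = E r0 (β * b) := by
    intro α β
    obtain ⟨x, hx⟩ := C.loc.exists_sqrt_unit α
    obtain ⟨y, hy⟩ := C.loc.exists_sqrt_unit (α⁻¹ * β)
    refine ⟨![x, y, 1, 1], fun a => ?_, fun b => ?_⟩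
    · rw [C.tor _ s0_mem, chd_s0]
      congr 2
      rw [← hx]; rfl
    · rw [C.tor _ r0_mem, chd_r0]
      congr 2
      have : (![x, y, 1, 1] : Fin 4 → Fˣ) 0 ^ 2 * (![x, y, 1, 1] : Fin 4 → Fˣ) 1 ^ 2 = β := by
        show x ^ 2 * y ^ 2 = β
        rw [hx, hy]; group
      rw [this]
  rcases h with ⟨rfl, rfl⟩ | ⟨rfl, rfl⟩
  · exact key α β
  · obtain ⟨ν, h1, h2⟩ := key β α
    exact ⟨ν, h2, h1⟩

/-- `R ^ g ≤ R X`, `X ^ g = X` -/
structure NX (E : (Fin 4 → ℤ) → F → G) (R : Subgroup G) (g : G) : Prop where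
  hR : cj g R ≤ R ⊔ XE E
  hX : cj g (XE E) = XE E

variable {R : Subgroup G}

theorem NX.mul {g h : G} (hg : NX E R g) (hh : NX E R h) : NX E R (g * h) := by
  refine ⟨?_, ?_⟩
  · rw [cj_mul]
    refine (cj_mono g hh.hR).trans ?_
    rw [cj_sup, hg.hX]
    exact sup_le hg.hR le_sup_right
  · rw [cj_mul, hh.hX, hg.hX]

theorem NX.sup_eq [Finite G] {g : G} (hg : NX E R g) : cj g (R ⊔ XE E) = R ⊔ XE E := by
  refine Subgroup.eq_of_le_of_card_ge ?_ (by rw [card_cj_eq])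
  rw [cj_sup, hg.hX]
  exact sup_le hg.hR le_sup_right

theorem NX.inv [Finite G] {g : G} (hg : NX E R g) : NX E R g⁻¹ := by
  refine ⟨?_, cj_inv_eq' hg.hX⟩
  have h1 : cj g⁻¹ (R ⊔ XE E) = R ⊔ XE E := cj_inv_eq' hg.sup_eq
  refine le_trans (cj_mono g⁻¹ le_sup_left) h1.le

end Gen

variable {F : Type u} [Field F] [Finite F] [CharP F 2] {G : Type*} [Group G]
  {f : ↥(chevF4.group F) →* G} {E : (Fin 4 → ℤ) → F → G} {T : (Fin 4 → Fˣ) →* G} {R : Subgroup G}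

theorem XE_le_K (S : Setup f id E T) : XE E ≤ f.range :=
  (XE_le_SE S.ch).trans (SupE_le fun _ hc u => S.E_range hc.1 u)

theorem RK_comm (hE : R ≤ Subgroup.centralizer (f.range : Set G)) : ∀ e ∈ R, ∀ y ∈ f.range, e * y = y * e :=
  fun _ he y hy => ((Subgroup.mem_centralizer_iff.1 (hE he)) y hy).symm

theorem inf_R (S : Setup f id E T) (St : Std1 f.range) (hE : R ≤ Subgroup.centralizer (f.range : Set G)) {y : G}
    (hy : y ∈ R) (hX : y ∈ XE E) : y = 1 :=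
  St.ctr y (XE_le_K S hX) fun x hx => RK_comm hE y hy x hx

theorem NX.inf (S : Setup f id E T) (St : Std1 f.range) (hE : R ≤ Subgroup.centralizer (f.range : Set G)) {g : G}
    (hg : NX E R g) {y : G} (hy : y ∈ cj g R) (hX : y ∈ XE E) : y = 1 := by
  rw [← hg.hX] at hX
  rw [mem_cj] at hy hX
  have := inf_R S St hE hy hX
  calc y = g * (g⁻¹ * y * g) * g⁻¹ := by group
    _ = 1 := by rw [this]; group

/-- elements of `R X` in coordinates -/
theorem PQ.split {p q : Fin 4 → ℤ} (h : PQ p q) (S : Setup f id E T)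
    (hE : R ≤ Subgroup.centralizer (f.range : Set G)) {d : G} (hd : d ∈ R ⊔ XE E) :
    ∃ c ∈ R, ∃ a b, d = c * (E p a * E q b) := by
  obtain ⟨c, hc, x, hx, rfl⟩ := mem_sup_comm (fun e he y hy => RK_comm hE e he y (XE_le_K S hy)) hd
  obtain ⟨a, b, rfl⟩ := (h.mem_XE S.ch).1 hx
  exact ⟨c, hc, a, b, rfl⟩

/-- tight embedding -/
theorem ti (S : Setup f id E T) (St : Std1 f.range) (hE : R ≤ Subgroup.centralizer (f.range : Set G))
    (hE2 : IsPGroup 2 ↥R) {γ : G} (hγ : cj γ R ≤ R ⊔ XE E) {y : G} (hy : y ∈ cj γ R) (hyE : y ∈ R) (hy1 : y ≠ 1) :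
    cj γ R ≤ R := by
  obtain ⟨m, hm⟩ := hE2 ⟨y, hyE⟩
  have hm' : y ^ 2 ^ m = 1 := congrArg Subtype.val hm
  obtain ⟨j, hj1, hj2⟩ : ∃ j : ℕ, y ^ 2 ^ j ≠ 1 ∧ y ^ 2 ^ (j + 1) = 1 := by
    by_contra hcon
    push Not at hcon
    have key : ∀ j : ℕ, y ^ 2 ^ j ≠ 1 := by
      intro j
      induction j with
      | zero => simpa using hy1
      | succ j ih => exact hcon j ih
    exact key m hm'
  set z := y ^ 2 ^ j with hz
  have hzz : z * z = 1 := by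
    rw [hz, ← pow_two, ← pow_mul, ← pow_succ]; exact hj2
  have hzE : z ∈ R := pow_mem hyE _
  have hzγ : z ∈ cj γ R := pow_mem hy _
  rw [mem_cj] at hzγ
  have h1 : (γ⁻¹ * z * γ) * (γ⁻¹ * z * γ) = 1 := by
    calc (γ⁻¹ * z * γ) * (γ⁻¹ * z * γ) = γ⁻¹ * (z * z) * γ := by group
      _ = 1 := by rw [hzz]; group
  have h2 : γ⁻¹ * z * γ ≠ 1 := by
    intro h0
    apply hj1
    calc z = γ * (γ⁻¹ * z * γ) * γ⁻¹ := by group
      _ = 1 := by rw [h0]; group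
  have h3 : cj γ f.range = f.range := by
    apply St.te _ (hE hzγ) h1 h2 γ
    have : γ * (γ⁻¹ * z * γ) * γ⁻¹ = z := by group
    rw [this]
    exact hE hzE
  intro x hx
  obtain ⟨e, he, u, hu, rfl⟩ := mem_sup_comm (fun e he y hy => RK_comm hE e he y (XE_le_K S hy)) (hγ hx)
  have h5 : e * u ∈ Subgroup.centralizer (f.range : Set G) := by
    rw [← h3, ← cj_centralizer]
    exact cj_mono γ hE hx
  have h6 : u ∈ Subgroup.centralizer (f.range : Set G) := by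
    have : u = e⁻¹ * (e * u) := by group
    rw [this]
    exact mul_mem (inv_mem (hE he)) h5
  have h7 : u = 1 := St.ctr u (XE_le_K S hu) fun x hx => ((Subgroup.mem_centralizer_iff.1 h6) x hx).symm
  rw [h7, mul_one]; exact he

/-- the elements of `K` normalise `R` -/
theorem cj_K (hE : R ≤ Subgroup.centralizer (f.range : Set G)) {m : G} (hm : m ∈ f.range) : cj m R = R := by
  have h1 : ∀ m ∈ f.range, cj m R ≤ R := by
    intro m hm x hx
    rw [mem_cj] at hx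
    have h1 := RK_comm hE _ hx m hm
    have : x = m⁻¹ * x * m := by
      calc x = m * (m⁻¹ * x * m) * m⁻¹ := by group
        _ = (m⁻¹ * x * m) * m * m⁻¹ := by rw [← h1]
        _ = _ := by group
    rw [this]; exact hx
  exact cj_eq_of_le' (h1 m hm) (h1 m⁻¹ (inv_mem hm))

theorem PQ.cj_T {p q : Fin 4 → ℤ} (h : PQ p q) (S : Setup f id E T) (ν : Fin 4 → Fˣ) :
    cj (T ν) (Xs (E p)) = Xs (E p) := by
  have key : ∀ ν, cj (T ν) (Xs (E p)) ≤ Xs (E p) := by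
    intro ν x hx
    rw [mem_cj] at hx
    obtain ⟨u, hu⟩ := (mem_Xs_iff S.ch h.mem).1 hx
    have : x = T ν * E p u * (T ν)⁻¹ := by rw [← hu]; group
    rw [this, S.ch.tor _ h.mem]
    exact EX _
  refine cj_eq_of_le' (key ν) ?_
  have := key ν⁻¹
  rwa [map_inv] at this

theorem NX_T (S : Setup f id E T) (hE : R ≤ Subgroup.centralizer (f.range : Set G)) (ν : Fin 4 → Fˣ) :
    NX E R (T ν) := by
  have h : PQ s0 r0 := Or.inl ⟨rfl, rfl⟩
  refine ⟨?_, ?_⟩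
  · rw [cj_K hE (S.TE ν)]; exact le_sup_left
  · rw [XE, cj_sup, h.cj_T S, h.symm.cj_T S]

/-- `T ν` moves the elements of `cj g R` -/
theorem moved {p q : Fin 4 → ℤ} (h : PQ p q) (S : Setup f id E T) (St : Std1 f.range)
    (hE : R ≤ Subgroup.centralizer (f.range : Set G)) {g : G} (hg : NX E R g) {ν : Fin 4 → Fˣ} {μ : Fˣ} (hμ : μ ≠ 1)
    (h1 : ∀ a, T ν * E p a * (T ν)⁻¹ = E p ((1 : Fˣ) * a)) (h2 : ∀ b, T ν * E q b * (T ν)⁻¹ = E q (μ * b))
    (hi : cj (T ν) (cj g R) ≤ cj g R) : cj g R ≤ R ⊔ Xs (E p) := by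
  have C := S.ch
  intro d hd
  obtain ⟨c, hc, a, b, rfl⟩ := h.split S hE (hg.hR hd)
  have h3 : T ν * (c * (E p a * E q b)) * (T ν)⁻¹ ∈ cj g R := hi (conj_mem_cj.2 hd)
  have h4 := RK_comm hE c hc _ (S.TE ν)
  have h5 : T ν * (c * (E p a * E q b)) * (T ν)⁻¹ = c * (E p a * E q (μ * b)) := by
    calc T ν * (c * (E p a * E q b)) * (T ν)⁻¹
        = c * (T ν * (E p a * E q b) * (T ν)⁻¹) := by rw [← mul_assoc (T ν), ← h4]; group
      _ = c * ((T ν * E p a * (T ν)⁻¹) * (T ν * E q b * (T ν)⁻¹)) := by group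
      _ = _ := by rw [h1, h2, Units.val_one, one_mul]
  rw [h5] at h3
  have h6 : (c * (E p a * E q b))⁻¹ * (c * (E p a * E q (μ * b))) = E q (b + μ * b) := by
    rw [C.add _ h.symm.mem]
    calc (c * (E p a * E q b))⁻¹ * (c * (E p a * E q (μ * b))) = (E q b)⁻¹ * E q (μ * b) := by group
      _ = _ := by rw [E_inv C h.symm.mem]
  have h7 : E q (b + μ * b) ∈ cj g R := by
    rw [← h6]; exact mul_mem (inv_mem hd) h3
  have h8 := hg.inf S St hE h7 ((h.mem_XE C).2 ⟨0, _, by rw [E_zero C h.mem, one_mul]⟩)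
  have h9 := C.inj _ h.symm.mem _ h8
  have h10 : b = 0 := by
    by_contra hb
    apply hμ
    have h11 : (1 + (μ : F)) * b = 0 := by rw [add_mul, one_mul]; exact h9
    rcases mul_eq_zero.1 h11 with h12 | h12
    · apply Units.ext
      rw [Units.val_one]
      exact (Cfsg.Agent.OddHalf.D7F4Ex.Loc.add_eq_zero C.loc h12).symm
    · exact absurd h12 hb
  rw [h10, E_zero C h.symm.mem, mul_one]
  exact mul_mem (mem_sup_left hc) (mem_sup_right (EX a))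

/-- **Type.** -/
theorem type [Finite G] {p q : Fin 4 → ℤ} (h : PQ p q) (S : Setup f id E T) (St : Std1 f.range)
    (hE : R ≤ Subgroup.centralizer (f.range : Set G)) (hE2 : IsPGroup 2 ↥R) {g : G} (hg : NX E R g)
    {c : G} (hc : c ∈ R) {a : F} (hd : c * E p a ∈ cj g R) (hd1 : c * E p a ≠ 1) : cj g R ≤ R ⊔ Xs (E p) := by
  have C := S.ch
  obtain ⟨μ, hμ⟩ := C.big
  obtain ⟨ν, h1, h2⟩ := h.exists_t C 1 μ
  refine moved h S St hE hg hμ h1 h2 ?_
  have hn : NX E R (g⁻¹ * T ν * g) := (hg.inv.mul (NX_T S hE ν)).mul hg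
  have h4 := RK_comm hE c hc _ (S.TE ν)
  have h5 : T ν * (c * E p a) * (T ν)⁻¹ = c * E p a := by
    calc T ν * (c * E p a) * (T ν)⁻¹ = c * (T ν * E p a * (T ν)⁻¹) := by rw [← mul_assoc (T ν), ← h4]; group
      _ = _ := by rw [h1, Units.val_one, one_mul]
  have h6 : (T ν)⁻¹ * (c * E p a) * T ν = c * E p a := by
    calc (T ν)⁻¹ * (c * E p a) * T ν = (T ν)⁻¹ * (T ν * (c * E p a) * (T ν)⁻¹) * T ν := by rw [h5]
      _ = _ := by group
  have h7 := ti S St hE hE2 hn.hR (y := g⁻¹ * (c * E p a) * g) (by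
    rw [mem_cj]
    have e : (g⁻¹ * T ν * g)⁻¹ * (g⁻¹ * (c * E p a) * g) * (g⁻¹ * T ν * g) =
        g⁻¹ * ((T ν)⁻¹ * (c * E p a) * T ν) * g := by group
    rw [e, h6]
    exact mem_cj.1 hd) (mem_cj.1 hd) (by
    intro h0
    apply hd1
    calc c * E p a = g * (g⁻¹ * (c * E p a) * g) * g⁻¹ := by group
      _ = 1 := by rw [h0]; group)
  have h8 := cj_mono g h7
  rw [← cj_mul] at h8
  have e : g * (g⁻¹ * T ν * g) = T ν * g := by group
  rw [e, cj_mul] at h8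
  exact h8

section Final

variable [Finite G] [IsSimpleGroup ↥(chevF4.group F)] (S : Setup f id E T) (St : Std1 f.range)
  (hE : R ≤ Subgroup.centralizer (f.range : Set G)) (hE2 : IsPGroup 2 ↥R)
  (hEmax : ∀ D : Subgroup G, R ≤ D → D ≤ Subgroup.centralizer (f.range : Set G) → IsPGroup 2 ↥D → D ≤ R)
  (hC1 : ∀ H : Subgroup G, H ≤ C1 f.range R → H ≤ ⁅H, H⁆ → H = ⊥)
  {t t' : G} (ht : t ∈ R) (ht1 : t ≠ 1) (ht' : t' ∈ R) (ht1' : t' ≠ 1) (hne : t' ≠ t)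

include S St hE hE2 hEmax hC1 ht ht1 ht' ht1' hne

/-- root type, the root group is stabilised -/
theorem root_false {p q : Fin 4 → ℤ} (h : PQ p q) {g : G} (h1 : cj g R ≤ R ⊔ Xs (E p))
    (h2 : cj g (Xs (E p)) = Xs (E p)) (h3 : ¬ cj g R ≤ R) : False := by
  have hX : (XF F p).map f = Xs (E p) := S.map_X h.mem
  refine row S.ch.big S.inj rfl St hE hE2 hEmax hC1 ht ht1 ht' ht1' hne (root_iff.2 h.mem) (k := 1) (one_mem _)
    (by rw [hX]; exact h1) ?_ h3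
  rw [hX, cj_one]
  have h4 : cj g (R ⊔ Xs (E p)) = R ⊔ Xs (E p) := by
    refine Subgroup.eq_of_le_of_card_ge ?_ (by rw [card_cj_eq])
    rw [cj_sup, h2]
    exact sup_le h1 le_sup_right
  rw [h4]; exact le_sup_left

/-- root type, the two root groups are exchanged -/
theorem root_false' {p q : Fin 4 → ℤ} (h : PQ p q) {g : G} (hg : NX E R g) (h1 : cj g R ≤ R ⊔ Xs (E p))
    (h2' : cj g (Xs (E q)) = Xs (E p)) (h3 : ¬ cj g R ≤ R) : False := by
  have C := S.ch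
  have hXK : Xs (E p) ≤ XE E := by rw [h.sup]; exact le_sup_left
  -- `R ≤ R ^ g X_p`
  have h4 : R ≤ cj g R ⊔ Xs (E p) := by
    intro c hc
    have h5 : c ∈ cj g (R ⊔ XE E) := by rw [hg.sup_eq]; exact mem_sup_left hc
    rw [cj_sup, hg.hX] at h5
    have hcm : ∀ a ∈ cj g R, ∀ d ∈ XE E, a * d = d * a := by
      intro a ha d hd
      rw [← hg.hX] at hd
      rw [mem_cj] at ha hd
      have := RK_comm hE _ ha _ (XE_le_K S hd)
      calc a * d = g * ((g⁻¹ * a * g) * (g⁻¹ * d * g)) * g⁻¹ := by group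
        _ = g * ((g⁻¹ * d * g) * (g⁻¹ * a * g)) * g⁻¹ := by rw [this]
        _ = d * a := by group
    obtain ⟨d, hd, x, hx, e⟩ := mem_sup_comm hcm h5
    obtain ⟨c', hc', x', hx', e'⟩ := mem_sup_comm (fun e he y hy => RK_comm hE e he y (XE_le_K S (hXK hy))) (h1 hd)
    have h6 : c'⁻¹ * c = x' * x := by rw [e, e']; group
    have h7 : x' * x = 1 := by
      apply inf_R S St hE
      · rw [← h6]; exact mul_mem (inv_mem hc') hc
      · exact mul_mem (hXK hx') hx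
    have h8 : x = x'⁻¹ := by rw [eq_comm, inv_eq_iff_mul_eq_one]; exact h7
    rw [e, h8]
    exact mul_mem (mem_sup_left hd) (mem_sup_right (inv_mem hx'))
  have h5 : cj g⁻¹ R ≤ R ⊔ Xs (E q) := by
    have h6 := cj_mono g⁻¹ h4
    rw [cj_sup, cj_inv_cj, ← h2', cj_inv_cj] at h6
    exact h6
  obtain ⟨μ, hμ⟩ := C.big
  obtain ⟨ν, h7, h8⟩ := h.exists_t C 1 μ
  refine root_false S St hE hE2 hEmax hC1 ht ht1 ht' ht1' hne h (g := g * T ν * g⁻¹) ?_ ?_ ?_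
  · rw [cj_mul, cj_mul]
    have h9 : cj (T ν) (cj g⁻¹ R) ≤ R ⊔ Xs (E q) := by
      have := cj_mono (T ν) h5
      rwa [cj_sup, cj_K hE (S.TE ν), h.symm.cj_T S] at this
    have h10 := cj_mono g h9
    rw [cj_sup, h2'] at h10
    exact h10.trans (sup_le h1 le_sup_right)
  · rw [cj_mul, cj_mul]
    have h9 : cj g⁻¹ (Xs (E p)) = Xs (E q) := by rw [← h2', cj_inv_cj]
    rw [h9, h.symm.cj_T S, h2']
  · intro h0
    rw [cj_mul, cj_mul] at h0
    have h9 := cj_mono g⁻¹ h0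
    rw [cj_inv_cj] at h9
    -- `T ν` normalises `R ^ g⁻¹`
    have h10 := moved h S St hE hg.inv hμ h7 h8 h9
    -- so `R ^ g⁻¹ ≤ R`
    apply h3
    have h11 : cj g⁻¹ R ≤ R := by
      intro d hd
      obtain ⟨c, hc, x, hx, e⟩ := mem_sup_comm (fun e he y hy => RK_comm hE e he y (XE_le_K S (hXK hy))) (h10 hd)
      have hXK' : Xs (E q) ≤ XE E := by rw [h.sup]; exact le_sup_right
      obtain ⟨c', hc', x', hx', e'⟩ := mem_sup_comm
        (fun e he y hy => RK_comm hE e he y (XE_le_K S (hXK' hy))) (h5 hd)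
      have h12 : c'⁻¹ * c = x' * x⁻¹ := by
        have h13 : c' * x' = c * x := by rw [← e, ← e']
        calc c'⁻¹ * c = c'⁻¹ * (c * x) * x⁻¹ := by group
          _ = c'⁻¹ * (c' * x') * x⁻¹ := by rw [h13]
          _ = _ := by group
      have h13 : x' * x⁻¹ = 1 := by
        apply inf_R S St hE
        · rw [← h12]; exact mul_mem (inv_mem hc') hc
        · exact mul_mem (hXK' hx') (inv_mem (hXK hx))
      have h14 : x' = x := mul_inv_eq_one.1 h13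
      obtain ⟨a, rfl⟩ := (mem_Xs_iff C h.mem).1 hx
      obtain ⟨b, rfl⟩ := (mem_Xs_iff C h.symm.mem).1 hx'
      have h15 : a = 0 := by
        have h16 : E p a * E q b = 1 := by
          rw [h14, ← C.add _ h.mem, C.two, E_zero C h.mem]
        exact (h.zero C h16).1
      rw [e, h15, E_zero C h.mem, mul_one]; exact hc
    have h12 : Nat.card ↥(cj g⁻¹ R) = Nat.card ↥R := card_cj_eq _ _
    have h13 : cj g⁻¹ R = R := Subgroup.eq_of_le_of_card_ge h11 h12.ge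
    conv_lhs => rw [← h13]
    rw [cj_cj_inv]

/-- **No `γ`.** -/
theorem mixed {γ : G} (hS : cj γ (SE E) = SE E) (hX : cj γ (XE E) = XE E) (h1 : cj γ R ≤ R ⊔ XE E)
    (h3 : ¬ cj γ R ≤ R) : False := by
  have C := S.ch
  have hg : NX E R γ := ⟨h1, hX⟩
  have h0 : PQ s0 r0 := Or.inl ⟨rfl, rfl⟩
  have hsw := swap S hS hX
  -- root type
  have hroot : ∀ {p q : Fin 4 → ℤ}, PQ p q → ∀ c ∈ R, ∀ a, c * E p a ∈ cj γ R → c * E p a ≠ 1 → False := by
    intro p q h c hc a hd hd1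
    have h4 := type h S St hE hE2 hg hc hd hd1
    rcases hsw with ⟨h5, h6⟩ | ⟨h5, h6⟩
    · refine root_false S St hE hE2 hEmax hC1 ht ht1 ht' ht1' hne h h4 ?_ h3
      rcases h with ⟨rfl, rfl⟩ | ⟨rfl, rfl⟩
      · exact h5
      · exact h6
    · have h7 : cj γ (Xs (E p)) = Xs (E q) ∧ cj γ (Xs (E q)) = Xs (E p) := by
        rcases h with ⟨rfl, rfl⟩ | ⟨rfl, rfl⟩
        · exact ⟨h5, h6⟩
        · exact ⟨h6, h5⟩
      exact root_false' S St hE hE2 hEmax hC1 ht ht1 ht' ht1' hne h hg h4 h7.2 h3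
  -- an element of `R ^ γ` with component `t`
  have hcm : ∀ a ∈ cj γ R, ∀ d ∈ XE E, a * d = d * a := by
    intro a ha d hd
    rw [← hg.hX] at hd
    rw [mem_cj] at ha hd
    have := RK_comm hE _ ha _ (XE_le_K S hd)
    calc a * d = γ * ((γ⁻¹ * a * γ) * (γ⁻¹ * d * γ)) * γ⁻¹ := by group
      _ = γ * ((γ⁻¹ * d * γ) * (γ⁻¹ * a * γ)) * γ⁻¹ := by rw [this]
      _ = d * a := by group
  have hcomp : ∀ c ∈ R, c ≠ 1 → ∃ a b, c * (E s0 a * E r0 b) ∈ cj γ R ∧ a ≠ 0 ∧ b ≠ 0 := by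
    intro c hc hc1
    have h5 : c ∈ cj γ (R ⊔ XE E) := by rw [hg.sup_eq]; exact mem_sup_left hc
    rw [cj_sup, hg.hX] at h5
    obtain ⟨d, hd, x, hx, e⟩ := mem_sup_comm hcm h5
    obtain ⟨a, b, e'⟩ := (mem_XE C).1 (inv_mem hx)
    have h6 : c * (E s0 a * E r0 b) = d := by rw [← e', e]; group
    have h7 : c * (E s0 a * E r0 b) ∈ cj γ R := by rw [h6]; exact hd
    refine ⟨a, b, h7, ?_, ?_⟩
    · rintro rfl
      rw [E_zero C s0_mem, one_mul] at h7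
      refine hroot h0.symm c hc b h7 ?_
      intro h8
      apply hc1
      apply inf_R S St hE hc
      have : c = (E r0 b)⁻¹ := eq_inv_of_mul_eq_one_left h8
      rw [this]
      exact inv_mem (mem_sup_right (EX b))
    · rintro rfl
      rw [E_zero C r0_mem, mul_one] at h7
      refine hroot h0 c hc a h7 ?_
      intro h8
      apply hc1
      apply inf_R S St hE hc
      have : c = (E s0 a)⁻¹ := eq_inv_of_mul_eq_one_left h8
      rw [this]
      exact inv_mem (mem_sup_left (EX a))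
  obtain ⟨a, b, hd, ha, hb⟩ := hcomp t ht ht1
  obtain ⟨μ, hμ⟩ := C.big
  -- `w`
  set w := E s0 ((μ : F) * a) * E r0 b with hw
  have hμa : (μ : F) * a ≠ 0 := mul_ne_zero μ.ne_zero ha
  have hwX : w ∈ XE E := (mem_XE C).2 ⟨_, _, rfl⟩
  set d := t * (E s0 a * E r0 b) with hdd
  have hdw : d * w = t * E s0 (a + μ * a) := by
    rw [hdd, hw, C.add _ s0_mem]
    have e1 := XX_comm C _ (EX ((μ : F) * a)) _ (EX b)
    have e2 : E r0 b * E r0 b = 1 := by rw [← C.add _ r0_mem, C.two, E_zero C r0_mem]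
    calc t * (E s0 a * E r0 b) * (E s0 (μ * a) * E r0 b)
        = t * E s0 a * E r0 b * (E s0 (μ * a) * E r0 b) := by group
      _ = t * E s0 a * E r0 b * (E r0 b * E s0 (μ * a)) := by rw [e1]
      _ = t * E s0 a * (E r0 b * E r0 b) * E s0 (μ * a) := by group
      _ = _ := by rw [e2]; group
  -- its preimage
  have hc' : γ⁻¹ * d * γ ∈ R := mem_cj.1 hd
  have hc1' : γ⁻¹ * d * γ ≠ 1 := by
    intro h4
    have h5 : d = 1 := by
      calc d = γ * (γ⁻¹ * d * γ) * γ⁻¹ := by group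
        _ = 1 := by rw [h4]; group
    apply ht1
    apply inf_R S St hE ht
    have h6 : t = (E s0 a * E r0 b)⁻¹ := eq_inv_of_mul_eq_one_left h5
    rw [h6]
    exact inv_mem ((mem_XE C).2 ⟨_, _, rfl⟩)
  have hw' : γ⁻¹ * w * γ ∈ XE E := by
    rw [← mem_cj, hX]; exact hwX
  obtain ⟨x, y, hxy⟩ := (mem_XE C).1 hw'
  -- `w'` is mixed
  have hnot : ∀ V : Subgroup G, cj γ V = Xs (E s0) ∨ cj γ V = Xs (E r0) → γ⁻¹ * w * γ ∉ V := by
    intro V hV h4
    rw [← mem_cj] at h4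
    rcases hV with hV | hV <;> rw [hV] at h4
    · obtain ⟨v, hv⟩ := (mem_Xs_iff C s0_mem).1 h4
      have h5 : E s0 (μ * a + v) * E r0 b = 1 := by
        have e1 := XX_comm C _ (EX v) _ (EX b)
        rw [C.add _ s0_mem]
        calc E s0 (μ * a) * E s0 v * E r0 b = E s0 (μ * a) * (E s0 v * E r0 b) := by group
          _ = (E s0 (μ * a) * E r0 b) * E s0 v := by rw [e1]; group
          _ = E s0 v * E s0 v := by rw [← hw, hv]
          _ = 1 := by rw [← C.add _ s0_mem, C.two, E_zero C s0_mem]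
      exact hb (XE_zero C h5).2
    · obtain ⟨v, hv⟩ := (mem_Xs_iff C r0_mem).1 h4
      have h5 : E s0 (μ * a) * E r0 (b + v) = 1 := by
        rw [C.add _ r0_mem]
        calc E s0 (μ * a) * (E r0 b * E r0 v) = (E s0 (μ * a) * E r0 b) * E r0 v := by group
          _ = E r0 v * E r0 v := by rw [← hw, hv]
          _ = 1 := by rw [← C.add _ r0_mem, C.two, E_zero C r0_mem]
      exact hμa (XE_zero C h5).1
  have hx : x ≠ 0 := by
    rintro rfl
    rw [E_zero C s0_mem, one_mul] at hxy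
    refine hnot (Xs (E r0)) ?_ (by rw [hxy]; exact EX y)
    rcases hsw with ⟨-, h5⟩ | ⟨-, h5⟩
    · exact Or.inr h5
    · exact Or.inl h5
  have hy : y ≠ 0 := by
    rintro rfl
    rw [E_zero C r0_mem, mul_one] at hxy
    refine hnot (Xs (E s0)) ?_ (by rw [hxy]; exact EX x)
    rcases hsw with ⟨h5, -⟩ | ⟨h5, -⟩
    · exact Or.inl h5
    · exact Or.inr h5
  -- an element of `R ^ γ` with component `c' = γ⁻¹ d γ`
  obtain ⟨a', b', hd', ha', hb'⟩ := hcomp _ hc' hc1'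
  obtain ⟨ν, hν1, hν2⟩ := h0.exists_t C (Units.mk0 x hx * (Units.mk0 a' ha')⁻¹) (Units.mk0 y hy * (Units.mk0 b' hb')⁻¹)
  have hT : T ν * (γ⁻¹ * d * γ * (E s0 a' * E r0 b')) * (T ν)⁻¹ = γ⁻¹ * (d * w) * γ := by
    have h4 := RK_comm hE _ hc' _ (S.TE ν)
    have e1 : ((Units.mk0 x hx * (Units.mk0 a' ha')⁻¹ : Fˣ) : F) * a' = x := by
      rw [Units.val_mul, Units.val_inv_eq_inv_val, Units.val_mk0, Units.val_mk0, mul_assoc, inv_mul_cancel₀ ha', mul_one]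
    have e2 : ((Units.mk0 y hy * (Units.mk0 b' hb')⁻¹ : Fˣ) : F) * b' = y := by
      rw [Units.val_mul, Units.val_inv_eq_inv_val, Units.val_mk0, Units.val_mk0, mul_assoc, inv_mul_cancel₀ hb', mul_one]
    calc T ν * (γ⁻¹ * d * γ * (E s0 a' * E r0 b')) * (T ν)⁻¹
        = (T ν * (γ⁻¹ * d * γ)) * (E s0 a' * E r0 b') * (T ν)⁻¹ := by group
      _ = (γ⁻¹ * d * γ) * ((T ν * E s0 a' * (T ν)⁻¹) * (T ν * E r0 b' * (T ν)⁻¹)) := by rw [← h4]; group
      _ = (γ⁻¹ * d * γ) * (γ⁻¹ * w * γ) := by rw [hν1, hν2, e1, e2, ← hxy]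
      _ = _ := by group
  -- `d w ∈ R ^ n`, `n = γ t γ`
  have hn : d * w ∈ cj (γ * T ν * γ) R := by
    rw [cj_mul, cj_mul, mem_cj, ← hT]
    exact conj_mem_cj.2 hd'
  rw [hdw] at hn
  have hnN : NX E R (γ * T ν * γ) := (hg.mul (NX_T S hE ν)).mul hg
  have h4 : a + μ * a ≠ 0 := by
    intro h5
    apply hμ
    have h6 : (1 + (μ : F)) * a = 0 := by rw [add_mul, one_mul]; exact h5
    rcases mul_eq_zero.1 h6 with h7 | h7
    · apply Units.ext
      rw [Units.val_one]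
      exact (Cfsg.Agent.OddHalf.D7F4Ex.Loc.add_eq_zero C.loc h7).symm
    · exact absurd h7 ha
  have h5 : t * E s0 (a + μ * a) ∉ R := by
    intro h6
    have h7 : E s0 (a + μ * a) ∈ R := by
      have : E s0 (a + μ * a) = t⁻¹ * (t * E s0 (a + μ * a)) := by group
      rw [this]
      exact mul_mem (inv_mem ht) h6
    exact h4 (C.inj _ s0_mem _ (inf_R S St hE h7 (mem_sup_left (EX _))))
  have h6 := type h0 S St hE hE2 hnN ht hn fun h7 => h5 (by rw [h7]; exact one_mem _)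
  refine root_false S St hE hE2 hEmax hC1 ht ht1 ht' ht1' hne h0 h6 ?_ (fun h7 => h5 (h7 hn))
  rw [cj_mul, cj_mul]
  rcases hsw with ⟨h7, h8⟩ | ⟨h7, h8⟩
  · rw [h7, h0.cj_T S, h7]
  · rw [h7, h0.symm.cj_T S, h8]

end Final

end Cfsg.Agent.OddHalf.D4F4
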