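import Cfsg.Agent.OddHalf.D7F4Ex.Chain
import Cfsg.Agent.OddHalf.DblR.Exist

/-!
# ODD, D4, `F₄(q)`: the chain `X ≤ V ≤ Q ≤ P` for a group `R` instead of one involution

`R` an elementary abelian 2-group centralised by `K ≥ P`, the rest as in `D7F4Ex.Chain`.

* `RChain` : the hypotheses;
* `RChain.exists_move` : if some `g` normalising `P`, `Q`, `X` and `R X` moves `R` then an element of `D` moves `R`;
* **`RChain.exists_b`** : then some `b` centralises `Q` and `A`, with `[b, P] ≤ V`, `[b, R] ≤ X`, `[b, R] ≠ 1`.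
-/

set_option autoImplicit false
set_option linter.style.haveILetI false

namespace Cfsg.Agent.OddHalf.D4F4

open Subgroup Cfsg.Agent.OddHalf.D7F4Ex
open scoped commutatorElement

variable {G : Type*} [Group G]

/-- The local hypotheses. -/
structure RChain (R X V Q P H : Subgroup G) : Prop where
  Rsq : ∀ t ∈ R, t * t = 1
  X2 : ∀ x ∈ X, x * x = 1
  XV : X ≤ V
  VQ : V ≤ Q
  QP : Q ≤ P
  V2 : ∀ v ∈ V, v * v = 1
  Q2 : ∀ q ∈ Q, q * q ∈ V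
  RP : ∀ t ∈ R, ∀ p ∈ P, t * p = p * t
  XP : ∀ x ∈ X, ∀ p ∈ P, x * p = p * x
  VQc : ∀ v ∈ V, ∀ q ∈ Q, v * q = q * v
  PQ : ∀ p ∈ P, ∀ q ∈ Q, p * q * p⁻¹ ∈ Q
  PV : ∀ p ∈ P, ∀ v ∈ V, p * v * p⁻¹ ∈ V
  RH : ∀ t ∈ R, ∀ h ∈ H, t * h = h * t
  HX : ∀ h ∈ H, ∀ x ∈ X, h * x * h⁻¹ ∈ X
  /-- an element normalising `X` with `[n, R] ≤ X` normalises `P`, `Q`, `V` -/
  nP : ∀ n : G, (∀ x ∈ X, n * x * n⁻¹ ∈ X) → (∀ t ∈ R, t * (n * t * n⁻¹) ∈ X) →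
    (∀ p ∈ P, n * p * n⁻¹ ∈ P) ∧ (∀ q ∈ Q, n * q * n⁻¹ ∈ Q) ∧ (∀ v ∈ V, n * v * n⁻¹ ∈ V)
  XQQ : X ≤ ⁅Q, Q⁆
  QQ : ∀ v ∈ Q, ∀ w ∈ Q, v * w * v⁻¹ * w⁻¹ ∈ X
  ZQ : ∀ q ∈ Q, (∀ v ∈ Q, q * v = v * q) → q ∈ V
  /-- `P` is irreducible on `Q / V` and on `V / X` -/
  irrQ : ∀ R : Subgroup G, V ≤ R → R ≤ Q → (∀ p ∈ P, ∀ r ∈ R, p * r * p⁻¹ ∈ R) → R = V ∨ R = Q
  irrV : ∀ R : Subgroup G, X ≤ R → R ≤ V → (∀ p ∈ P, ∀ r ∈ R, p * r * p⁻¹ ∈ R) → R = X ∨ R = V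
  neQ : ∃ q ∈ Q, q ∉ V
  neV : ∃ v ∈ V, v ∉ X
  /-- `Hom_P(Q/V, V/X) = 0` (for actions of elements of `G`) -/
  hQ : ∀ d : G, (∀ p ∈ P, d * p * d⁻¹ * p⁻¹ ∈ Q) → (∀ q ∈ Q, d * q * d⁻¹ * q⁻¹ ∈ V) →
    (∀ v ∈ V, d * v * d⁻¹ * v⁻¹ ∈ X) → ∃ q ∈ Q, q ∉ V ∧ d * q * d⁻¹ * q⁻¹ ∈ X
  /-- `Hom_P(V/X, X) = 0` -/
  hV : ∀ d : G, (∀ p ∈ P, d * p * d⁻¹ * p⁻¹ ∈ Q) → (∀ v ∈ V, d * v * d⁻¹ * v⁻¹ ∈ X) →
    (∀ x ∈ X, d * x = x * d) → ∃ v ∈ V, v ∉ X ∧ d * v = v * d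
  /-- `H^0(P, Hom(Q/V, X) / Inn Q) = 0` -/
  E2 : ∀ f : G → G, (∀ v ∈ Q, f v ∈ X) → (∀ v ∈ Q, ∀ w ∈ Q, f (v * w) = f v * f w) → (∀ x ∈ V, f x = 1) →
    (∀ p ∈ P, ∃ q ∈ Q, ∀ v ∈ Q, f (p * v * p⁻¹) = f v * (q * v * q⁻¹ * v⁻¹)) →
    ∃ q ∈ Q, ∀ v ∈ Q, f v = q * v * q⁻¹ * v⁻¹

namespace RChain

variable {R X V Q P H : Subgroup G}

theorem t_inv (S : RChain R X V Q P H) {t : G} (ht : t ∈ R) : t⁻¹ = t := inv_eq_of_mul_eq_one_left (S.Rsq t ht)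

theorem XQ (S : RChain R X V Q P H) : X ≤ Q := S.XV.trans S.VQ

theorem tx (S : RChain R X V Q P H) {t x : G} (ht : t ∈ R) (hx : x ∈ X) : t * x = x * t := S.RP t ht x (S.QP (S.XQ hx))

theorem inv_X (S : RChain R X V Q P H) {x : G} (hx : x ∈ X) : x⁻¹ = x := inv_eq_of_mul_eq_one_left (S.X2 x hx)

/-- The elements `n` normalising `X` with `[n, R] ≤ X`. -/
def N (S : RChain R X V Q P H) : Subgroup G where
  carrier := {n | (∀ x ∈ X, n * x * n⁻¹ ∈ X) ∧ (∀ x ∈ X, n⁻¹ * x * n ∈ X) ∧ ∀ t ∈ R, t * (n * t * n⁻¹) ∈ X}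
  one_mem' := ⟨fun x hx => by simpa using hx, fun x hx => by simpa using hx, fun t ht => by
    rw [one_mul, inv_one, mul_one, S.Rsq t ht]; exact one_mem _⟩
  mul_mem' := by
    rintro a b ⟨ha1, ha2, ha3⟩ ⟨hb1, hb2, hb3⟩
    refine ⟨fun x hx => ?_, fun x hx => ?_, fun t ht => ?_⟩
    · have := ha1 _ (hb1 x hx)
      have e : a * b * x * (a * b)⁻¹ = a * (b * x * b⁻¹) * a⁻¹ := by group
      rwa [e]
    · have := hb2 _ (ha2 x hx)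
      have e : (a * b)⁻¹ * x * (a * b) = b⁻¹ * (a⁻¹ * x * a) * b := by group
      rwa [e]
    · have h1 := mul_mem (ha3 t ht) (ha1 _ (hb3 t ht))
      have e : t * (a * b * t * (a * b)⁻¹) = t * (a * t * a⁻¹) * (a * (t * (b * t * b⁻¹)) * a⁻¹) := by
        calc t * (a * b * t * (a * b)⁻¹) = t * a * 1 * b * t * b⁻¹ * a⁻¹ := by group
          _ = t * a * (t * t) * b * t * b⁻¹ * a⁻¹ := by rw [S.Rsq t ht]
          _ = _ := by group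
      rwa [e]
  inv_mem' := by
    rintro a ⟨ha1, ha2, ha3⟩
    refine ⟨fun x hx => by simpa using ha2 x hx, fun x hx => by simpa using ha1 x hx, fun t ht => ?_⟩
    have h1 := inv_mem (ha2 _ (ha3 t ht))
    have e : t * (a⁻¹ * t * a⁻¹⁻¹) = (a⁻¹ * (t * (a * t * a⁻¹)) * a)⁻¹ := by
      calc t * (a⁻¹ * t * a⁻¹⁻¹) = t⁻¹ * (a⁻¹ * t⁻¹ * a) := by rw [S.t_inv ht, inv_inv]
        _ = _ := by group
    rwa [e]

theorem mem_N (S : RChain R X V Q P H) {n : G} :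
    n ∈ S.N ↔ (∀ x ∈ X, n * x * n⁻¹ ∈ X) ∧ (∀ x ∈ X, n⁻¹ * x * n ∈ X) ∧ ∀ t ∈ R, t * (n * t * n⁻¹) ∈ X := Iff.rfl

theorem N_P (S : RChain R X V Q P H) {n : G} (hn : n ∈ S.N) {p : G} (hp : p ∈ P) : n * p * n⁻¹ ∈ P :=
  (S.nP n hn.1 hn.2.2).1 p hp

theorem N_Q (S : RChain R X V Q P H) {n : G} (hn : n ∈ S.N) {q : G} (hq : q ∈ Q) : n * q * n⁻¹ ∈ Q :=
  (S.nP n hn.1 hn.2.2).2.1 q hq

theorem N_V (S : RChain R X V Q P H) {n : G} (hn : n ∈ S.N) {q : G} (hq : q ∈ V) : n * q * n⁻¹ ∈ V :=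
  (S.nP n hn.1 hn.2.2).2.2 q hq

/-- The elements of `N` trivial on `P/Q`. -/
def C4 (S : RChain R X V Q P H) : Subgroup G where
  carrier := {n | n ∈ S.N ∧ ∀ p ∈ P, n * p * n⁻¹ * p⁻¹ ∈ Q}
  one_mem' := ⟨one_mem _, fun p _ => by
    rw [one_mul, inv_one, mul_one, mul_inv_cancel]; exact one_mem _⟩
  mul_mem' := by
    rintro a b ⟨ha, ha2⟩ ⟨hb, hb2⟩
    refine ⟨mul_mem ha hb, fun p hp => ?_⟩
    have h1 := mul_mem (S.N_Q ha (hb2 p hp)) (ha2 p hp)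
    have e : a * b * p * (a * b)⁻¹ * p⁻¹ = a * (b * p * b⁻¹ * p⁻¹) * a⁻¹ * (a * p * a⁻¹ * p⁻¹) := by group
    rwa [e]
  inv_mem' := by
    rintro a ⟨ha, ha2⟩
    refine ⟨inv_mem ha, fun p hp => ?_⟩
    have h1 := inv_mem (S.N_Q (inv_mem ha) (ha2 p hp))
    have e : a⁻¹ * p * a⁻¹⁻¹ * p⁻¹ = (a⁻¹ * (a * p * a⁻¹ * p⁻¹) * a⁻¹⁻¹)⁻¹ := by group
    rwa [e]

theorem C4_le (S : RChain R X V Q P H) : S.C4 ≤ S.N := fun _ h => h.1

/-- `C4` is normal in `N`. -/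
theorem conj_C4 (S : RChain R X V Q P H) {n c : G} (hn : n ∈ S.N) (hc : c ∈ S.C4) : n * c * n⁻¹ ∈ S.C4 := by
  refine ⟨mul_mem (mul_mem hn hc.1) (inv_mem hn), fun p hp => ?_⟩
  have h1 := S.N_Q hn (hc.2 _ (S.N_P (inv_mem hn) hp))
  have e : n * c * n⁻¹ * p * (n * c * n⁻¹)⁻¹ * p⁻¹ =
    n * (c * (n⁻¹ * p * n⁻¹⁻¹) * c⁻¹ * (n⁻¹ * p * n⁻¹⁻¹)⁻¹) * n⁻¹ := by group
  rwa [e]

/-- The elements of `N` trivial on `P/Q`, `Q/V` and on `V/X`. -/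
def D (S : RChain R X V Q P H) : Subgroup G where
  carrier := {n | n ∈ S.C4 ∧ (∀ q ∈ Q, n * q * n⁻¹ * q⁻¹ ∈ V) ∧ ∀ v ∈ V, n * v * n⁻¹ * v⁻¹ ∈ X}
  one_mem' := ⟨one_mem _, fun p _ => by
    rw [one_mul, inv_one, mul_one, mul_inv_cancel]; exact one_mem _, fun p _ => by
    rw [one_mul, inv_one, mul_one, mul_inv_cancel]; exact one_mem _⟩
  mul_mem' := by
    rintro a b ⟨ha, ha2, ha3⟩ ⟨hb, hb2, hb3⟩
    refine ⟨mul_mem ha hb, fun p hp => ?_, fun p hp => ?_⟩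
    · have h1 := mul_mem (S.N_V ha.1 (hb2 p hp)) (ha2 p hp)
      have e : a * b * p * (a * b)⁻¹ * p⁻¹ = a * (b * p * b⁻¹ * p⁻¹) * a⁻¹ * (a * p * a⁻¹ * p⁻¹) := by group
      rwa [e]
    · have h1 := mul_mem (ha.1.1 _ (hb3 p hp)) (ha3 p hp)
      have e : a * b * p * (a * b)⁻¹ * p⁻¹ = a * (b * p * b⁻¹ * p⁻¹) * a⁻¹ * (a * p * a⁻¹ * p⁻¹) := by group
      rwa [e]
  inv_mem' := by
    rintro a ⟨ha, ha2, ha3⟩
    refine ⟨inv_mem ha, fun p hp => ?_, fun p hp => ?_⟩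
    · have h1 := inv_mem (S.N_V (inv_mem ha.1) (ha2 p hp))
      have e : a⁻¹ * p * a⁻¹⁻¹ * p⁻¹ = (a⁻¹ * (a * p * a⁻¹ * p⁻¹) * a⁻¹⁻¹)⁻¹ := by group
      rwa [e]
    · have h1 := inv_mem (ha.1.2.1 _ (ha3 p hp))
      have e : a⁻¹ * p * a⁻¹⁻¹ * p⁻¹ = (a⁻¹ * (a * p * a⁻¹ * p⁻¹) * a)⁻¹ := by group
      rwa [e]

theorem D_le (S : RChain R X V Q P H) : S.D ≤ S.C4 := fun _ h => h.1

theorem conj_D (S : RChain R X V Q P H) {n c : G} (hn : n ∈ S.N) (hc : c ∈ S.D) : n * c * n⁻¹ ∈ S.D := by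
  refine ⟨S.conj_C4 hn hc.1, fun q hq => ?_, fun q hq => ?_⟩
  · have h1 := S.N_V hn (hc.2.1 _ (S.N_Q (inv_mem hn) hq))
    have e : n * c * n⁻¹ * q * (n * c * n⁻¹)⁻¹ * q⁻¹ =
      n * (c * (n⁻¹ * q * n⁻¹⁻¹) * c⁻¹ * (n⁻¹ * q * n⁻¹⁻¹)⁻¹) * n⁻¹ := by group
    rwa [e]
  · have h1 := hn.1 _ (hc.2.2 _ (S.N_V (inv_mem hn) hq))
    have e : n * c * n⁻¹ * q * (n * c * n⁻¹)⁻¹ * q⁻¹ =
      n * (c * (n⁻¹ * q * n⁻¹⁻¹) * c⁻¹ * (n⁻¹ * q * n⁻¹⁻¹)⁻¹) * n⁻¹ := by group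
    rwa [e]

theorem QV (S : RChain R X V Q P H) {a b : G} (ha : a ∈ Q) (hb : b ∈ Q) : a * b * a⁻¹ * b⁻¹ ∈ V :=
  S.XV (S.QQ a ha b hb)

/-- The conjugate of a commutator by an element which is trivial on `P/Q`. -/
theorem comm_conj {d p q q1 r : G} (h1 : d * p * d⁻¹ * p⁻¹ = q1) (h2 : d * q * d⁻¹ * q⁻¹ = r) :
    d * (p * q * p⁻¹) * d⁻¹ * (p * q * p⁻¹)⁻¹ =
      q1 * (p * r * p⁻¹) * q1⁻¹ * (q1 * (p * q * p⁻¹) * q1⁻¹ * (p * q * p⁻¹)⁻¹) := by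
  have e1 : d * p = q1 * p * d := by rw [← h1]; group
  have e2 : d * q = r * q * d := by rw [← h2]; group
  calc d * (p * q * p⁻¹) * d⁻¹ * (p * q * p⁻¹)⁻¹ = (d * p) * q * (d * p)⁻¹ * (p * q * p⁻¹)⁻¹ := by group
    _ = q1 * p * (d * q) * d⁻¹ * p⁻¹ * q1⁻¹ * (p * q * p⁻¹)⁻¹ := by rw [e1]; group
    _ = _ := by rw [e2]; group

/-- A 2-element of `C4` lies in `D`. -/
theorem mem_D_of_two (S : RChain R X V Q P H) {n : G} (hn : n ∈ S.C4) {k : ℕ} (h2 : n ^ 2 ^ k = 1) : n ∈ S.D := by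
  have hnN := hn.1
  refine ⟨hn, ?_, ?_⟩
  · -- the fixed points on `Q / V`
    let R0 : Subgroup G :=
      { carrier := {q | q ∈ Q ∧ n * q * n⁻¹ * q⁻¹ ∈ V}
        one_mem' := ⟨one_mem _, by rw [mul_one, mul_inv_cancel, inv_one, mul_one]; exact one_mem _⟩
        mul_mem' := by
          rintro a b ⟨ha, ha2⟩ ⟨hb, hb2⟩
          refine ⟨mul_mem ha hb, ?_⟩
          have h3 := S.VQc _ hb2 a⁻¹ (inv_mem ha)
          have e : n * (a * b) * n⁻¹ * (a * b)⁻¹ = (n * a * n⁻¹) * ((n * b * n⁻¹ * b⁻¹) * a⁻¹) := by group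
          rw [e, h3]
          have h4 := mul_mem ha2 hb2
          have e2 : n * a * n⁻¹ * (a⁻¹ * (n * b * n⁻¹ * b⁻¹)) = n * a * n⁻¹ * a⁻¹ * (n * b * n⁻¹ * b⁻¹) := by group
          rwa [e2]
        inv_mem' := by
          rintro a ⟨ha, ha2⟩
          refine ⟨inv_mem ha, ?_⟩
          have h3 := inv_mem ha2
          have h4 := S.VQc _ h3 a ha
          have e : n * a⁻¹ * n⁻¹ * a⁻¹⁻¹ = a⁻¹ * ((n * a * n⁻¹ * a⁻¹)⁻¹ * a) := by group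
          rw [e, h4]
          have e2 : a⁻¹ * (a * (n * a * n⁻¹ * a⁻¹)⁻¹) = (n * a * n⁻¹ * a⁻¹)⁻¹ := by group
          rwa [e2] }
    have hR : R0 = V ∨ R0 = Q := by
      refine S.irrQ R0 (fun v hv => ⟨S.VQ hv, mul_mem (S.N_V hnN hv) (inv_mem hv)⟩) (fun _ h => h.1) ?_
      rintro p hp q ⟨hq, hq2⟩
      refine ⟨S.PQ p hp q hq, ?_⟩
      rw [comm_conj rfl rfl]
      refine mul_mem ?_ (S.QV (hn.2 p hp) (S.PQ p hp q hq))
      have h3 := S.PV p hp _ hq2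
      rw [← S.VQc _ h3 _ (hn.2 p hp), mul_inv_cancel_right]
      exact h3
    obtain ⟨q0, hq0, hq0V⟩ := S.neQ
    obtain ⟨c, hc, hcV, hcn⟩ := exists_fixed_two S.VQ S.Q2 (fun a ha b hb => S.QV ha hb) k n h2
      (fun a ha => S.N_Q hnN ha) (fun a ha => S.N_V hnN ha) q0 hq0 hq0V
    rcases hR with h | h
    · exfalso; apply hcV
      rw [← h]; exact ⟨hc, hcn⟩
    · intro q hq
      rw [← h] at hq
      exact hq.2
  · let R0 : Subgroup G :=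
      { carrier := {q | q ∈ V ∧ n * q * n⁻¹ * q⁻¹ ∈ X}
        one_mem' := ⟨one_mem _, by rw [mul_one, mul_inv_cancel, inv_one, mul_one]; exact one_mem _⟩
        mul_mem' := by
          rintro a b ⟨ha, ha2⟩ ⟨hb, hb2⟩
          refine ⟨mul_mem ha hb, ?_⟩
          have h3 := S.XP _ hb2 a⁻¹ (S.QP (S.VQ (inv_mem ha)))
          have e : n * (a * b) * n⁻¹ * (a * b)⁻¹ = (n * a * n⁻¹) * ((n * b * n⁻¹ * b⁻¹) * a⁻¹) := by group
          rw [e, h3]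
          have h4 := mul_mem ha2 hb2
          have e2 : n * a * n⁻¹ * (a⁻¹ * (n * b * n⁻¹ * b⁻¹)) = n * a * n⁻¹ * a⁻¹ * (n * b * n⁻¹ * b⁻¹) := by group
          rwa [e2]
        inv_mem' := by
          rintro a ⟨ha, ha2⟩
          refine ⟨inv_mem ha, ?_⟩
          have h3 := inv_mem ha2
          have h4 := S.XP _ h3 a (S.QP (S.VQ ha))
          have e : n * a⁻¹ * n⁻¹ * a⁻¹⁻¹ = a⁻¹ * ((n * a * n⁻¹ * a⁻¹)⁻¹ * a) := by group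
          rw [e, h4]
          have e2 : a⁻¹ * (a * (n * a * n⁻¹ * a⁻¹)⁻¹) = (n * a * n⁻¹ * a⁻¹)⁻¹ := by group
          rwa [e2] }
    have hR : R0 = X ∨ R0 = V := by
      refine S.irrV R0 (fun v hv => ⟨S.XV hv, mul_mem (hnN.1 v hv) (inv_mem hv)⟩) (fun _ h => h.1) ?_
      rintro p hp q ⟨hq, hq2⟩
      refine ⟨S.PV p hp q hq, ?_⟩
      rw [comm_conj rfl rfl]
      refine mul_mem ?_ ?_
      · have h3 : p * (n * q * n⁻¹ * q⁻¹) * p⁻¹ = n * q * n⁻¹ * q⁻¹ := by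
          rw [← S.XP _ hq2 p hp, mul_inv_cancel_right]
        rw [h3, ← S.XP _ hq2 _ (S.QP (hn.2 p hp)), mul_inv_cancel_right]
        exact hq2
      · rw [← S.VQc _ (S.PV p hp q hq) _ (hn.2 p hp)]
        have : p * q * p⁻¹ * (n * p * n⁻¹ * p⁻¹) * (n * p * n⁻¹ * p⁻¹)⁻¹ * (p * q * p⁻¹)⁻¹ = 1 := by group
        rw [this]; exact one_mem _
    obtain ⟨q0, hq0, hq0V⟩ := S.neV
    obtain ⟨c, hc, hcV, hcn⟩ := exists_fixed_two S.XV (fun v hv => by rw [S.V2 v hv]; exact one_mem _)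
      (fun a ha b hb => by
        rw [S.VQc a ha b (S.VQ hb)]
        have : b * a * a⁻¹ * b⁻¹ = 1 := by group
        rw [this]; exact one_mem _) k n h2
      (fun a ha => S.N_V hnN ha) (fun a ha => hnN.1 a ha) q0 hq0 hq0V
    rcases hR with h | h
    · exfalso; apply hcV
      rw [← h]; exact ⟨hc, hcn⟩
    · intro q hq
      rw [← h] at hq
      exact hq.2

/-- `D` centralises `X`. -/
theorem D_X (S : RChain R X V Q P H) {n : G} (hn : n ∈ S.D) {x : G} (hx : x ∈ X) : n * x = x * n := by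
  have hle : ⁅Q, Q⁆ ≤ centralizer ({n} : Set G) := by
    rw [commutator_le]
    intro a ha b hb
    rw [mem_centralizer_singleton_iff]
    have ha' := hn.2.1 a ha
    have hb' := hn.2.1 b hb
    set x := n * a * n⁻¹ * a⁻¹ with hx
    set y := n * b * n⁻¹ * b⁻¹ with hy
    have ea : n * a * n⁻¹ = x * a := by rw [hx]; group
    have eb : n * b * n⁻¹ = y * b := by rw [hy]; group
    have c1 : ∀ q ∈ Q, x * q = q * x := fun q hq => S.VQc x ha' q hq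
    have c2 : ∀ q ∈ Q, y * q = q * y := fun q hq => S.VQc y hb' q hq
    have e : n * ⁅a, b⁆ * n⁻¹ = ⁅a, b⁆ := by
      have e1 : n * ⁅a, b⁆ * n⁻¹ = (n * a * n⁻¹) * (n * b * n⁻¹) * (n * a * n⁻¹)⁻¹ * (n * b * n⁻¹)⁻¹ := by
        rw [commutatorElement_def]; group
      rw [e1, ea, eb, commutatorElement_def]
      calc x * a * (y * b) * (x * a)⁻¹ * (y * b)⁻¹
          = x * (a * (y * b)) * (a⁻¹ * x⁻¹) * (b⁻¹ * y⁻¹) := by group
        _ = x * (a * (y * b) * a⁻¹) * x⁻¹ * (b⁻¹ * y⁻¹) := by group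
        _ = (a * (y * b) * a⁻¹) * x * x⁻¹ * (b⁻¹ * y⁻¹) := by
          rw [c1 (a * (y * b) * a⁻¹) (mul_mem (mul_mem ha (mul_mem (S.VQ hb') hb)) (inv_mem ha))]
        _ = a * y * (b * a⁻¹ * b⁻¹) * y⁻¹ := by group
        _ = y * (a * (b * a⁻¹ * b⁻¹)) * y⁻¹ := by rw [← c2 a ha]; group
        _ = a * (b * a⁻¹ * b⁻¹) := by
          rw [c2 _ (mul_mem ha (mul_mem (mul_mem hb (inv_mem ha)) (inv_mem hb)))]; group
        _ = a * b * a⁻¹ * b⁻¹ := by group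
    calc ⁅a, b⁆ * n = n * ⁅a, b⁆ * n⁻¹ * n := by rw [e]
      _ = n * ⁅a, b⁆ := by group
  exact (mem_centralizer_singleton_iff.1 (hle (S.XQQ hx))).symm

/-- `D` acts trivially on `Q / X`. -/
theorem D_Q (S : RChain R X V Q P H) {n : G} (hn : n ∈ S.D) {q : G} (hq : q ∈ Q) : n * q * n⁻¹ * q⁻¹ ∈ X := by
  let R0 : Subgroup G :=
    { carrier := {q | q ∈ Q ∧ n * q * n⁻¹ * q⁻¹ ∈ X}
      one_mem' := ⟨one_mem _, by rw [mul_one, mul_inv_cancel, inv_one, mul_one]; exact one_mem _⟩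
      mul_mem' := by
        rintro a b ⟨ha, ha2⟩ ⟨hb, hb2⟩
        refine ⟨mul_mem ha hb, ?_⟩
        have h3 := S.XP _ hb2 a⁻¹ (S.QP (inv_mem ha))
        have e : n * (a * b) * n⁻¹ * (a * b)⁻¹ = (n * a * n⁻¹) * ((n * b * n⁻¹ * b⁻¹) * a⁻¹) := by group
        rw [e, h3]
        have h4 := mul_mem ha2 hb2
        have e2 : n * a * n⁻¹ * (a⁻¹ * (n * b * n⁻¹ * b⁻¹)) = n * a * n⁻¹ * a⁻¹ * (n * b * n⁻¹ * b⁻¹) := by group
        rwa [e2]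
      inv_mem' := by
        rintro a ⟨ha, ha2⟩
        refine ⟨inv_mem ha, ?_⟩
        have h3 := inv_mem ha2
        have h4 := S.XP _ h3 a (S.QP ha)
        have e : n * a⁻¹ * n⁻¹ * a⁻¹⁻¹ = a⁻¹ * ((n * a * n⁻¹ * a⁻¹)⁻¹ * a) := by group
        rw [e, h4]
        have e2 : a⁻¹ * (a * (n * a * n⁻¹ * a⁻¹)⁻¹) = (n * a * n⁻¹ * a⁻¹)⁻¹ := by group
        rwa [e2] }
  have hR : R0 = V ∨ R0 = Q := by
    refine S.irrQ R0 (fun v hv => ⟨S.VQ hv, hn.2.2 v hv⟩) (fun _ h => h.1) ?_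
    rintro p hp q ⟨hq, hq2⟩
    refine ⟨S.PQ p hp q hq, ?_⟩
    have hq1 := hn.1.2 p hp
    rw [comm_conj rfl rfl]
    refine mul_mem ?_ (S.QQ _ hq1 _ (S.PQ p hp q hq))
    have h3 : p * (n * q * n⁻¹ * q⁻¹) * p⁻¹ = n * q * n⁻¹ * q⁻¹ := by
      rw [← S.XP _ hq2 p hp, mul_inv_cancel_right]
    rw [h3, ← S.XP _ hq2 _ (S.QP hq1), mul_inv_cancel_right]
    exact hq2
  rcases hR with h | h
  · exfalso
    obtain ⟨c, hc, hcV, hcX⟩ := S.hQ n hn.1.2 hn.2.1 hn.2.2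
    apply hcV
    rw [← h]; exact ⟨hc, hcX⟩
  · rw [← h] at hq
    exact hq.2

/-- `D` centralises `V`. -/
theorem D_V (S : RChain R X V Q P H) {n : G} (hn : n ∈ S.D) {v : G} (hv : v ∈ V) : n * v = v * n := by
  let R0 : Subgroup G :=
    { carrier := {q | q ∈ V ∧ n * q = q * n}
      one_mem' := ⟨one_mem _, by rw [mul_one, one_mul]⟩
      mul_mem' := by
        rintro a b ⟨ha, ha2⟩ ⟨hb, hb2⟩
        exact ⟨mul_mem ha hb, by rw [← mul_assoc, ha2, mul_assoc, hb2, mul_assoc]⟩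
      inv_mem' := by
        rintro a ⟨ha, ha2⟩
        refine ⟨inv_mem ha, ?_⟩
        rw [mul_inv_eq_iff_eq_mul, mul_assoc, ha2, inv_mul_cancel_left] }
  have hR : R0 = X ∨ R0 = V := by
    refine S.irrV R0 (fun v hv => ⟨S.XV hv, S.D_X hn hv⟩) (fun _ h => h.1) ?_
    rintro p hp q ⟨hq, hq2⟩
    refine ⟨S.PV p hp q hq, ?_⟩
    have hq1 := hn.1.2 p hp
    set q1 := n * p * n⁻¹ * p⁻¹ with hq1d
    have e1 : n * p = q1 * p * n := by rw [hq1d]; group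
    have h3 := S.VQc _ (S.PV p hp q hq) q1 hq1
    calc n * (p * q * p⁻¹) = (n * p) * q * (n * p)⁻¹ * n := by group
      _ = q1 * p * (n * q) * n⁻¹ * p⁻¹ * q1⁻¹ * n := by rw [e1]; group
      _ = q1 * (p * q * p⁻¹) * q1⁻¹ * n := by rw [hq2]; group
      _ = p * q * p⁻¹ * n := by rw [← h3, mul_inv_cancel_right]
  rcases hR with h | h
  · exfalso
    obtain ⟨c, hc, hcV, hcX⟩ := S.hV n hn.1.2 hn.2.2 (fun x hx => S.D_X hn hx)
    apply hcV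
    rw [← h]; exact ⟨hc, hcX⟩
  · rw [← h] at hv
    exact hv.2

/-- **Lemma B**: an element of `D` agrees on `t` with an element centralising `Q` and `P/V`. -/
theorem exists_cent (S : RChain R X V Q P H) {n : G} (hn : n ∈ S.D) :
    ∃ b : G, (∀ q ∈ Q, b * q = q * b) ∧ (∀ p ∈ P, b * p * b⁻¹ * p⁻¹ ∈ V) ∧
      ∀ t ∈ R, b * t * b⁻¹ = n * t * n⁻¹ := by
  obtain ⟨q, hq, hf⟩ := S.E2 (fun v => n * v * n⁻¹ * v⁻¹) (fun v hv => S.D_Q hn hv)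
    (by
      intro v hv w hw
      have hx := S.D_Q hn hw
      calc n * (v * w) * n⁻¹ * (v * w)⁻¹ = (n * v * n⁻¹) * ((n * w * n⁻¹ * w⁻¹) * v⁻¹) := by group
        _ = (n * v * n⁻¹) * (v⁻¹ * (n * w * n⁻¹ * w⁻¹)) := by
          rw [S.XP _ hx v⁻¹ (S.QP (inv_mem hv))]
        _ = n * v * n⁻¹ * v⁻¹ * (n * w * n⁻¹ * w⁻¹) := by group)
    (by
      intro x hx
      show n * x * n⁻¹ * x⁻¹ = 1
      rw [S.D_V hn hx]; group)
    (by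
      intro p hp
      have hq1 := hn.1.2 p hp
      set q1 := n * p * n⁻¹ * p⁻¹ with hq1d
      have hpq : p⁻¹ * q1 * p ∈ Q := by simpa using S.PQ p⁻¹ (inv_mem hp) q1 hq1
      refine ⟨p⁻¹ * q1 * p, hpq, fun v hv => ?_⟩
      have hxv := S.D_Q hn hv
      set x := n * v * n⁻¹ * v⁻¹ with hxd
      have e1 : n * p = q1 * p * n := by rw [hq1d]; group
      have e2 : n * v = x * v * n := by rw [hxd]; group
      have c1 : ∀ p ∈ P, x * p = p * x := fun p hp => S.XP x hxv p hp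
      have hq1P := S.QP hq1
      calc n * (p * v * p⁻¹) * n⁻¹ * (p * v * p⁻¹)⁻¹
          = (n * p) * v * (n * p)⁻¹ * (p * v * p⁻¹)⁻¹ := by group
        _ = q1 * p * (n * v) * n⁻¹ * p⁻¹ * q1⁻¹ * (p * v * p⁻¹)⁻¹ := by rw [e1]; group
        _ = (q1 * p) * x * v * p⁻¹ * q1⁻¹ * (p * v * p⁻¹)⁻¹ := by rw [e2]; group
        _ = x * (q1 * p) * v * p⁻¹ * q1⁻¹ * (p * v * p⁻¹)⁻¹ := by rw [c1 _ (mul_mem hq1P hp)]
        _ = x * p * ((p⁻¹ * q1 * p) * v * (p⁻¹ * q1 * p)⁻¹ * v⁻¹) * p⁻¹ := by group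
        _ = x * (p * ((p⁻¹ * q1 * p) * v * (p⁻¹ * q1 * p)⁻¹ * v⁻¹) * p⁻¹) := by group
        _ = x * ((p⁻¹ * q1 * p) * v * (p⁻¹ * q1 * p)⁻¹ * v⁻¹) := by
          congr 1
          have h3 : (p⁻¹ * q1 * p) * v * (p⁻¹ * q1 * p)⁻¹ * v⁻¹ ∈ X := S.QQ _ hpq v hv
          rw [← S.XP _ h3 p hp]; group)
  have hqP := S.QP hq
  -- `b = q⁻¹ n` centralises `Q`
  have hbQ : ∀ v ∈ Q, (q⁻¹ * n) * v * (q⁻¹ * n)⁻¹ = v := by
    intro v hv
    have h1 : n * v * n⁻¹ = q * v * q⁻¹ := mul_right_cancel (hf v hv)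
    calc (q⁻¹ * n) * v * (q⁻¹ * n)⁻¹ = q⁻¹ * (n * v * n⁻¹) * q := by group
      _ = v := by rw [h1]; group
  refine ⟨q⁻¹ * n, fun v hv => ?_, fun p hp => ?_, fun t ht => ?_⟩
  · calc q⁻¹ * n * v = ((q⁻¹ * n) * v * (q⁻¹ * n)⁻¹) * (q⁻¹ * n) := by group
      _ = _ := by rw [hbQ v hv]
  · have h1 : (q⁻¹ * n) * p * (q⁻¹ * n)⁻¹ * p⁻¹ ∈ Q := by
      have h2 := hn.1.2 p hp
      have e : (q⁻¹ * n) * p * (q⁻¹ * n)⁻¹ * p⁻¹ = q⁻¹ * (n * p * n⁻¹ * p⁻¹) * (p * q * p⁻¹) := by group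
      rw [e]
      exact mul_mem (mul_mem (inv_mem hq) h2) (S.PQ p hp q hq)
    apply S.ZQ _ h1
    intro v hv
    have h2 := hbQ _ (S.PQ p⁻¹ (inv_mem hp) v hv)
    rw [inv_inv] at h2
    have h3 := hbQ v hv
    set b := q⁻¹ * n with hb
    calc b * p * b⁻¹ * p⁻¹ * v = (b * p * b⁻¹) * (p⁻¹ * v * p) * p⁻¹ := by group
      _ = (b * p * b⁻¹) * (b * (p⁻¹ * v * p) * b⁻¹) * p⁻¹ := by rw [h2]
      _ = b * (v * p) * b⁻¹ * p⁻¹ := by group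
      _ = (b * v * b⁻¹) * (b * p * b⁻¹ * p⁻¹) := by group
      _ = v * (b * p * b⁻¹ * p⁻¹) := by rw [h3]
  · have hx : t * (n * t * n⁻¹) ∈ X := hn.1.1.2.2 t ht
    have e : n * t * n⁻¹ = t * (t * (n * t * n⁻¹)) := by rw [← mul_assoc, S.Rsq t ht, one_mul]
    have c1 : (t * (t * (n * t * n⁻¹))) * q = q * (t * (t * (n * t * n⁻¹))) := by
      rw [mul_assoc, S.XP _ hx q hqP, ← mul_assoc, S.RP t ht q hqP, mul_assoc]
    calc q⁻¹ * n * t * (q⁻¹ * n)⁻¹ = q⁻¹ * ((n * t * n⁻¹) * q) := by group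
      _ = q⁻¹ * (q * (n * t * n⁻¹)) := by rw [e, c1]
      _ = n * t * n⁻¹ := by group

/-- Averaging: modulo `V` the element centralises a subgroup `A ≤ P` of odd order. -/
theorem exists_avg (S : RChain R X V Q P H) {A : Subgroup G} [Finite A] (hAP : A ≤ P) (hodd : Odd (Nat.card A))
    {b : G} (hbQ : ∀ q ∈ Q, b * q = q * b) (hbP : ∀ p ∈ P, b * p * b⁻¹ * p⁻¹ ∈ V) :
    ∃ b' : G, (∀ q ∈ Q, b' * q = q * b') ∧ (∀ p ∈ P, b' * p * b'⁻¹ * p⁻¹ ∈ V) ∧ (∀ a ∈ A, b' * a = a * b') ∧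
      (∀ t ∈ R, b' * t * b'⁻¹ = b * t * b⁻¹) ∧ b'⁻¹ * b ∈ V := by
  classical
  haveI : Fintype A := Fintype.ofFinite A
  letI : CommGroup V := { (inferInstance : Group V) with
    mul_comm := fun x y => Subtype.ext (S.VQc x x.2 y (S.VQ y.2)) }
  let δ : A → V := fun a => ⟨b * a * b⁻¹ * (a : G)⁻¹, hbP a (hAP a.2)⟩
  let v0 : V := ∏ a : A, δ a
  -- conjugation by `g ∈ A` as a homomorphism of `V`
  let cg : A → V →* V := fun g =>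
    { toFun := fun v => ⟨g * v * (g : G)⁻¹, S.PV g (hAP g.2) v v.2⟩
      map_one' := Subtype.ext (by show (g : G) * 1 * (g : G)⁻¹ = 1; group)
      map_mul' := fun x y => Subtype.ext (by
        show (g : G) * (x * y) * (g : G)⁻¹ = g * x * (g : G)⁻¹ * (g * y * (g : G)⁻¹)
        group) }
  have hδ : ∀ g a : A, δ (g * a) = δ g * cg g (δ a) := by
    intro g a
    apply Subtype.ext
    show b * ((g : G) * a) * b⁻¹ * ((g : G) * a)⁻¹ =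
      b * g * b⁻¹ * (g : G)⁻¹ * (g * (b * a * b⁻¹ * (a : G)⁻¹) * (g : G)⁻¹)
    group
  have hsq : ∀ v : V, v ^ 2 = 1 := fun v => Subtype.ext (by
    show (v : G) ^ 2 = 1
    rw [pow_two]; exact S.V2 v v.2)
  have hv0 : ∀ g : A, v0 = δ g * cg g v0 := by
    intro g
    have h1 : v0 = ∏ a : A, δ (g * a) := (Equiv.prod_comp (Equiv.mulLeft g) δ).symm
    have h2 : ∏ a : A, δ (g * a) = δ g ^ Fintype.card A * cg g v0 := by
      rw [map_prod, ← Finset.card_univ, ← Finset.prod_const, ← Finset.prod_mul_distrib]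
      exact Finset.prod_congr rfl fun a _ => hδ g a
    have h3 : δ g ^ Fintype.card A = δ g := by
      rw [Nat.card_eq_fintype_card] at hodd
      obtain ⟨k, hk⟩ := hodd
      rw [hk, pow_succ, pow_mul, hsq, one_pow, one_mul]
    rw [h3] at h2
    exact h1.trans h2
  have hv0V : (v0 : G) ∈ V := v0.2
  have hinvV : (v0 : G)⁻¹ = v0 := inv_eq_of_mul_eq_one_left (S.V2 _ v0.2)
  refine ⟨(v0 : G)⁻¹ * b, fun q hq => ?_, fun p hp => ?_, fun a ha => ?_, fun t ht => ?_, ?_⟩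
  · rw [mul_assoc, hbQ q hq, ← mul_assoc, S.VQc _ (inv_mem hv0V) q hq, mul_assoc]
  · have h1 := mul_mem (mul_mem (inv_mem hv0V) (hbP p hp)) (S.PV p hp _ hv0V)
    have e : (v0 : G)⁻¹ * b * p * ((v0 : G)⁻¹ * b)⁻¹ * p⁻¹ =
      (v0 : G)⁻¹ * (b * p * b⁻¹ * p⁻¹) * (p * v0 * p⁻¹) := by group
    rwa [e]
  · have h1 := congrArg Subtype.val (hv0 ⟨a, ha⟩)
    have h2 : (v0 : G) = b * a * b⁻¹ * a⁻¹ * (a * v0 * a⁻¹) := h1
    have h3 : b * a = (v0 : G) * a * (v0 : G)⁻¹ * b := by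
      calc b * a = (b * a * b⁻¹ * a⁻¹ * (a * v0 * a⁻¹)) * (a * (v0 : G)⁻¹ * a⁻¹) * a * b := by group
        _ = v0 * (a * (v0 : G)⁻¹ * a⁻¹) * a * b := by rw [← h2]
        _ = _ := by group
    calc (v0 : G)⁻¹ * b * a = (v0 : G)⁻¹ * (b * a) := by group
      _ = (v0 : G)⁻¹ * ((v0 : G) * a * (v0 : G)⁻¹ * b) := by rw [h3]
      _ = a * ((v0 : G)⁻¹ * b) := by group
  · -- `b t b⁻¹` commutes with `v0`: `b` commutes with `v0`, `t` too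
    have h1 := hbQ _ (S.VQ (inv_mem hv0V))
    have h2 := S.RP t ht _ (S.QP (S.VQ (inv_mem hv0V)))
    calc (v0 : G)⁻¹ * b * t * ((v0 : G)⁻¹ * b)⁻¹ = ((v0 : G)⁻¹ * b) * t * b⁻¹ * v0 := by group
      _ = b * ((v0 : G)⁻¹ * t) * b⁻¹ * v0 := by rw [← h1]; group
      _ = b * t * ((v0 : G)⁻¹ * b⁻¹) * v0 := by rw [← h2]; group
      _ = b * t * (b⁻¹ * (v0 : G)⁻¹) * v0 := by
        congr 2
        have h3 := hbQ _ (S.VQ hv0V)
        rw [← mul_inv_rev, h3, mul_inv_rev]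
      _ = b * t * b⁻¹ := by group
  · have h1 := hbQ _ (S.VQ hv0V)
    have e : ((v0 : G)⁻¹ * b)⁻¹ * b = v0 := by
      calc ((v0 : G)⁻¹ * b)⁻¹ * b = b⁻¹ * (v0 * b) := by group
        _ = v0 := by rw [← h1, inv_mul_cancel_left]
    rw [e]; exact hv0V


/-- An odd power of each element of `C4` lies in `D`; the index is odd. -/
theorem odd_relIndex (S : RChain R X V Q P H) [Finite G] : Odd (S.D.relIndex S.C4) := by
  classical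
  haveI : Fact (Nat.Prime 2) := ⟨Nat.prime_two⟩
  let R1 : Sylow 2 S.C4 := default
  have h1 : (R1 : Subgroup S.C4) ≤ S.D.subgroupOf S.C4 := by
    intro g hg
    rw [mem_subgroupOf]
    obtain ⟨k, hk⟩ := (IsPGroup.iff_orderOf.1 R1.isPGroup') ⟨g, hg⟩
    have h2 : (g : G) ^ 2 ^ k = 1 := by
      have h3 : (⟨g, hg⟩ : (R1 : Subgroup S.C4)) ^ 2 ^ k = 1 := by rw [← hk, pow_orderOf_eq_one]
      have h4 := congrArg (fun z : (R1 : Subgroup S.C4) => ((z : S.C4) : G)) h3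
      exact h4
    exact S.mem_D_of_two g.2 h2
  have h5 : (S.D.subgroupOf S.C4).index ∣ (R1 : Subgroup S.C4).index := index_dvd_of_le h1
  have h6 : ¬ 2 ∣ (R1 : Subgroup S.C4).index := R1.not_dvd_index
  rw [relIndex, ← Nat.not_even_iff_odd, even_iff_two_dvd]
  exact fun h => h6 (h.trans h5)

/-- If `D` centralises `R` and some element of `H` is trivial on `P/Q` and fixed point free on `X`, then `C4`
centralises `R`. -/
theorem C4_cent (S : RChain R X V Q P H) [Finite G] (hD : ∀ d ∈ S.D, ∀ a ∈ R, d * a = a * d) {h1 : G} (hh1 : h1 ∈ H)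
    (h1P : ∀ p ∈ P, h1 * p * h1⁻¹ * p⁻¹ ∈ Q) (hfp : ∀ x ∈ X, h1 * x = x * h1 → x = 1) :
    ∀ c ∈ S.C4, ∀ a ∈ R, c * a = a * c := by
  classical
  intro c0 hc0 a ha
  have haa := S.Rsq a ha
  have hax : ∀ {x : G}, x ∈ X → a * x = x * a := fun hx => S.tx ha hx
  have hXX : ∀ {x y : G}, x ∈ X → y ∈ X → x * y = y * x := fun hx hy => S.XP _ hx _ (S.QP (S.XQ hy))
  letI : CommGroup X := { (inferInstance : Group X) with
    mul_comm := fun x y => Subtype.ext (hXX x.2 y.2) }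
  let D' : Subgroup S.C4 := S.D.subgroupOf S.C4
  haveI hDn : D'.Normal := ⟨by
    intro c hc g
    rw [mem_subgroupOf] at hc ⊢
    exact S.conj_D (S.C4_le g.2) hc⟩
  haveI : Fintype (S.C4 ⧸ D') := Fintype.ofFinite _
  let δ : S.C4 → X := fun c => ⟨a * (c * a * (c : G)⁻¹), (S.C4_le c.2).2.2 a ha⟩
  let F : S.C4 ⧸ D' → X := fun q => δ q.out
  have hF : ∀ c : S.C4, F (QuotientGroup.mk c) = δ c := by
    intro c
    obtain ⟨d, hd⟩ := QuotientGroup.mk_out_eq_mul D' c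
    apply Subtype.ext
    show a * (((QuotientGroup.mk c : S.C4 ⧸ D').out : S.C4) * a * (((QuotientGroup.mk c : S.C4 ⧸ D').out : S.C4) : G)⁻¹)
      = a * (c * a * (c : G)⁻¹)
    rw [hd]
    have h2 : ((d : S.C4) : G) * a = a * ((d : S.C4) : G) := hD _ (mem_subgroupOf.1 d.2) a ha
    show a * ((c * ((d : S.C4) : G)) * a * (c * ((d : S.C4) : G))⁻¹) = _
    calc a * ((c * ((d : S.C4) : G)) * a * (c * ((d : S.C4) : G))⁻¹)
        = a * (c * (((d : S.C4) : G) * a) * ((d : S.C4) : G)⁻¹ * (c : G)⁻¹) := by group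
      _ = a * (c * a * (c : G)⁻¹) := by rw [h2]; group
  -- conjugation by `c ∈ C4` as a homomorphism of `X`
  let cg : S.C4 → X →* X := fun g =>
    { toFun := fun v => ⟨g * v * (g : G)⁻¹, (S.C4_le g.2).1 v v.2⟩
      map_one' := Subtype.ext (by show (g : G) * 1 * (g : G)⁻¹ = 1; group)
      map_mul' := fun x y => Subtype.ext (by
        show (g : G) * (x * y) * (g : G)⁻¹ = g * x * (g : G)⁻¹ * (g * y * (g : G)⁻¹)
        group) }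
  have hδ : ∀ g c : S.C4, δ (g * c) = δ g * cg g (δ c) := by
    intro g c
    apply Subtype.ext
    show a * ((g : G) * c * a * ((g : G) * c)⁻¹) = a * (g * a * (g : G)⁻¹) * (g * (a * (c * a * (c : G)⁻¹)) * (g : G)⁻¹)
    calc a * ((g : G) * c * a * ((g : G) * c)⁻¹) = a * g * 1 * c * a * (c : G)⁻¹ * (g : G)⁻¹ := by group
      _ = a * g * (a * a) * c * a * (c : G)⁻¹ * (g : G)⁻¹ := by rw [haa]
      _ = _ := by group
  have hsq : ∀ v : X, v ^ 2 = 1 := fun v => Subtype.ext (by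
    show (v : G) ^ 2 = 1
    rw [pow_two]; exact S.X2 v v.2)
  let x0 : X := ∏ q : S.C4 ⧸ D', F q
  have hodd : Odd (Fintype.card (S.C4 ⧸ D')) := by
    have := S.odd_relIndex
    rw [relIndex, index, Nat.card_eq_fintype_card] at this
    exact this
  have hx0 : ∀ g : S.C4, x0 = δ g * cg g x0 := by
    intro g
    have e1 : x0 = ∏ q : S.C4 ⧸ D', F (QuotientGroup.mk g * q) :=
      (Equiv.prod_comp (Equiv.mulLeft (QuotientGroup.mk g : S.C4 ⧸ D')) F).symm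
    have e2 : ∏ q : S.C4 ⧸ D', F (QuotientGroup.mk g * q) = δ g ^ Fintype.card (S.C4 ⧸ D') * cg g x0 := by
      rw [map_prod, ← Finset.card_univ, ← Finset.prod_const, ← Finset.prod_mul_distrib]
      refine Finset.prod_congr rfl fun q _ => ?_
      obtain ⟨c, rfl⟩ := QuotientGroup.mk_surjective q
      rw [← QuotientGroup.mk_mul, hF, hF, hδ]
    have e3 : δ g ^ Fintype.card (S.C4 ⧸ D') = δ g := by
      obtain ⟨k, hk⟩ := hodd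
      rw [hk, pow_succ, pow_mul, hsq, one_pow, one_mul]
    rw [e3] at e2
    exact e1.trans e2
  -- `h1` fixes `x0`
  have hh1C : h1 ∈ S.C4 := by
    refine ⟨⟨S.HX h1 hh1, fun x hx => by simpa using S.HX h1⁻¹ (inv_mem hh1) x hx, fun t ht => ?_⟩, h1P⟩
    rw [← S.RH t ht h1 hh1]
    have : t * (t * h1 * h1⁻¹) = t * t := by group
    rw [this, S.Rsq t ht]; exact one_mem _
  have hx01 : (x0 : G) = 1 := by
    apply hfp _ x0.2
    have e1 := congrArg Subtype.val (hx0 ⟨h1, hh1C⟩)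
    have e2 : (x0 : G) = a * (h1 * a * h1⁻¹) * (h1 * x0 * h1⁻¹) := e1
    have e3 : a * (h1 * a * h1⁻¹) = 1 := by
      rw [← S.RH a ha h1 hh1]
      have : a * (a * h1 * h1⁻¹) = a * a := by group
      rw [this, haa]
    rw [e3, one_mul] at e2
    calc h1 * (x0 : G) = (h1 * x0 * h1⁻¹) * h1 := by group
      _ = x0 * h1 := by rw [← e2]
  have e1 := congrArg Subtype.val (hx0 ⟨c0, hc0⟩)
  have e2 : (x0 : G) = a * (c0 * a * c0⁻¹) * (c0 * x0 * c0⁻¹) := e1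
  rw [hx01] at e2
  have e3 : a * (c0 * a * c0⁻¹) = 1 := by
    calc a * (c0 * a * c0⁻¹) = a * (c0 * a * c0⁻¹) * (c0 * 1 * c0⁻¹) := by group
      _ = 1 := e2.symm
  have e4 : c0 * a * c0⁻¹ = a := by
    calc c0 * a * c0⁻¹ = (a * a) * (c0 * a * c0⁻¹) := by rw [haa, one_mul]
      _ = a * (a * (c0 * a * c0⁻¹)) := by group
      _ = a := by rw [e3, mul_one]
  calc c0 * a = (c0 * a * c0⁻¹) * c0 := by group
    _ = a * c0 := by rw [e4]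

/-- **`D` moves `R`**, if some `g` normalising `P`, `Q`, `X` and `R X` moves `R`. -/
theorem exists_move (S : RChain R X V Q P H) [Finite G] {h1 : G} (hh1 : h1 ∈ H)
    (h1P : ∀ p ∈ P, h1 * p * h1⁻¹ * p⁻¹ ∈ Q) (hfp : ∀ x ∈ X, h1 * x = x * h1 → x = 1)
    {g : G} (gP : ∀ p ∈ P, g * p * g⁻¹ ∈ P) (gQ : ∀ p ∈ Q, g * p * g⁻¹ ∈ Q) (gX : ∀ x ∈ X, g * x * g⁻¹ ∈ X)
    (gR : ∀ a ∈ R, ∃ b ∈ R, ∃ x ∈ X, g * a * g⁻¹ = b * x) (hg : ∃ a ∈ R, g * a * g⁻¹ ∉ R) :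
    ∃ d ∈ S.D, ∃ a ∈ R, d * a ≠ a * d := by
  by_contra hcon
  push Not at hcon
  have hC := S.C4_cent hcon hh1 h1P hfp
  have gX' := DblR.Exist.conj_inv_mem gX
  have gP' := DblR.Exist.conj_inv_mem gP
  set e := g * h1 * g⁻¹ with he
  obtain ⟨a, ha, haR⟩ := hg
  obtain ⟨b, hb, x, hx, hab⟩ := gR a ha
  have hxne : x ≠ 1 := by
    rintro rfl
    rw [mul_one] at hab
    exact haR (by rw [hab]; exact hb)
  have hea : ∀ a ∈ R, e * (g * a * g⁻¹) = (g * a * g⁻¹) * e := by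
    intro a ha
    have := S.RH a ha h1 hh1
    calc e * (g * a * g⁻¹) = g * (h1 * a) * g⁻¹ := by rw [he]; group
      _ = g * (a * h1) * g⁻¹ := by rw [this]
      _ = (g * a * g⁻¹) * e := by rw [he]; group
  have heX : ∀ x ∈ X, e * x * e⁻¹ ∈ X := by
    intro x hx
    have := gX _ (S.HX h1 hh1 _ (gX' x hx))
    rwa [show g * (h1 * (g⁻¹ * x * g) * h1⁻¹) * g⁻¹ = e * x * e⁻¹ by rw [he]; group] at this
  have heX' : ∀ x ∈ X, e⁻¹ * x * e ∈ X := DblR.Exist.conj_inv_mem heX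
  have hePQ : ∀ p ∈ P, e * p * e⁻¹ * p⁻¹ ∈ Q := by
    intro p hp
    have := gQ _ (h1P _ (gP' p hp))
    rwa [show g * (h1 * (g⁻¹ * p * g) * h1⁻¹ * (g⁻¹ * p * g)⁻¹) * g⁻¹ = e * p * e⁻¹ * p⁻¹ by rw [he]; group] at this
  -- `RX` is normalised by `g`
  let RX : Subgroup G :=
    { carrier := {z | ∃ s ∈ R, ∃ y ∈ X, z = s * y}
      one_mem' := ⟨1, one_mem _, 1, one_mem _, by group⟩
      mul_mem' := by
        rintro _ _ ⟨s, hs, y, hy, rfl⟩ ⟨s', hs', y', hy', rfl⟩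
        refine ⟨s * s', mul_mem hs hs', y * y', mul_mem hy hy', ?_⟩
        have := S.tx hs' hy
        calc s * y * (s' * y') = s * (y * s') * y' := by group
          _ = s * (s' * y) * y' := by rw [this]
          _ = _ := by group
      inv_mem' := by
        rintro _ ⟨s, hs, y, hy, rfl⟩
        refine ⟨s⁻¹, inv_mem hs, y⁻¹, inv_mem hy, ?_⟩
        rw [mul_inv_rev, S.tx (inv_mem hs) (inv_mem hy)] }
  have hRX : ∀ z ∈ RX, g * z * g⁻¹ ∈ RX := by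
    rintro _ ⟨s, hs, y, hy, rfl⟩
    obtain ⟨b, hb, x, hx, h⟩ := gR s hs
    refine ⟨b, hb, x * (g * y * g⁻¹), mul_mem hx (gX y hy), ?_⟩
    calc g * (s * y) * g⁻¹ = (g * s * g⁻¹) * (g * y * g⁻¹) := by group
      _ = b * (x * (g * y * g⁻¹)) := by rw [h]; group
  have heR : ∀ r ∈ R, r * (e * r * e⁻¹) ∈ X := by
    intro r hr
    obtain ⟨s, hs, y, hy, h⟩ := DblR.Exist.conj_inv_mem hRX r ⟨r, hr, 1, one_mem _, by group⟩
    have hrs : r = (g * s * g⁻¹) * (g * y * g⁻¹) := by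
      calc r = g * (g⁻¹ * r * g) * g⁻¹ := by group
        _ = (g * s * g⁻¹) * (g * y * g⁻¹) := by rw [h]; group
    have hy' := gX y hy
    set y' := g * y * g⁻¹ with hy'd
    have e2 := hea s hs
    have e0 : g * s * g⁻¹ = r * y'⁻¹ := by rw [hrs]; group
    have e3 : e * r * e⁻¹ = (g * s * g⁻¹) * (e * y' * e⁻¹) := by
      rw [hrs]
      calc e * (g * s * g⁻¹ * y') * e⁻¹ = (e * (g * s * g⁻¹)) * y' * e⁻¹ := by group
        _ = (g * s * g⁻¹) * (e * y' * e⁻¹) := by rw [e2]; group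
    rw [e3, e0]
    have e4 : r * (r * y'⁻¹ * (e * y' * e⁻¹)) = y'⁻¹ * (e * y' * e⁻¹) := by
      calc r * (r * y'⁻¹ * (e * y' * e⁻¹)) = (r * r) * (y'⁻¹ * (e * y' * e⁻¹)) := by group
        _ = _ := by rw [S.Rsq r hr, one_mul]
    rw [e4]
    exact mul_mem (inv_mem hy') (heX _ hy')
  have heC : e ∈ S.C4 := ⟨⟨heX, heX', heR⟩, hePQ⟩
  have h2 := hC e heC b hb
  have h3 := hea a ha
  rw [hab] at h3
  have h4 : e * x = x * e := by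
    calc e * x = e * (b⁻¹ * (b * x)) := by group
      _ = (e * b⁻¹) * (b * x) := by group
      _ = (b⁻¹ * (b * e) * b⁻¹) * (b * x) := by group
      _ = (b⁻¹ * (e * b) * b⁻¹) * (b * x) := by rw [h2]
      _ = b⁻¹ * (e * (b * x)) := by group
      _ = b⁻¹ * ((b * x) * e) := by rw [h3]
      _ = x * e := by group
  -- `h1` commutes with `g⁻¹ x g`
  have h5 : g⁻¹ * x * g = 1 := by
    apply hfp _ (gX' x hx)
    calc h1 * (g⁻¹ * x * g) = g⁻¹ * (e * x) * g := by rw [he]; group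
      _ = g⁻¹ * (x * e) * g := by rw [h4]
      _ = g⁻¹ * x * g * h1 := by rw [he]; group
  apply hxne
  calc x = g * (g⁻¹ * x * g) * g⁻¹ := by group
    _ = 1 := by rw [h5]; group

/-- **Existence.** -/
theorem exists_b (S : RChain R X V Q P H) [Finite G] {h1 : G} (hh1 : h1 ∈ H)
    (h1P : ∀ p ∈ P, h1 * p * h1⁻¹ * p⁻¹ ∈ Q) (hfp : ∀ x ∈ X, h1 * x = x * h1 → x = 1)
    {g : G} (gP : ∀ p ∈ P, g * p * g⁻¹ ∈ P) (gQ : ∀ p ∈ Q, g * p * g⁻¹ ∈ Q) (gX : ∀ x ∈ X, g * x * g⁻¹ ∈ X)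
    (gR : ∀ a ∈ R, ∃ b ∈ R, ∃ x ∈ X, g * a * g⁻¹ = b * x) (hg : ∃ a ∈ R, g * a * g⁻¹ ∉ R)
    {A : Subgroup G} (hAP : A ≤ P) (hodd : Odd (Nat.card A)) :
    ∃ b : G, (∀ q ∈ Q, b * q = q * b) ∧ (∀ p ∈ P, b * p * b⁻¹ * p⁻¹ ∈ V) ∧ (∀ a ∈ A, b * a = a * b) ∧
      (∀ t ∈ R, t * (b * t * b⁻¹) ∈ X) ∧ ∃ t ∈ R, b * t ≠ t * b := by
  obtain ⟨d, hd, a, ha, hda⟩ := S.exists_move hh1 h1P hfp gP gQ gX gR hg
  obtain ⟨b, hb, hbP, hbt⟩ := S.exists_cent hd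
  obtain ⟨b', hb', hbP', hbA, hbt', -⟩ := S.exists_avg hAP hodd hb hbP
  have key : ∀ t ∈ R, b' * t * b'⁻¹ = d * t * d⁻¹ := fun t ht => by rw [hbt' t ht, hbt t ht]
  refine ⟨b', hb', hbP', hbA, fun t ht => ?_, a, ha, fun h => hda ?_⟩
  · rw [key t ht]; exact hd.1.1.2.2 t ht
  · have h2 := key a ha
    rw [h] at h2
    have h3 : d * a * d⁻¹ = a := by rw [← h2]; group
    calc d * a = (d * a * d⁻¹) * d := by group
      _ = a * d := by rw [h3]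

end RChain

end Cfsg.Agent.OddHalf.D4F4
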