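import Cfsg.Agent.KFacts.F4AutPair
import Cfsg.Agent.KFacts.F4Chart
import Cfsg.Agent.KFacts.RgdAutChev
import Cfsg.Agent.OddHalf.D7F4.KBridge
import Cfsg.Agent.OddHalf.D4F4.End
import Cfsg.Agent.OddHalf.DblR.Row

/-!
# ODD, D4, `F₄(q)`: the two charts of an embedded `F₄(q)`

* `Setup f δ E T` : a chart `E` of `f : F₄(q) → G` with `X_c` of the chart equal to `f (X_{δ c})`;
* `setup_id`, `setup_dual`;
* `Setup.kp` : `KP f.range E T`; `Setup.cf` : `CF f.range R E`.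
-/

set_option autoImplicit false
set_option linter.unusedSectionVars false

namespace Cfsg.Agent.OddHalf.D4F4

open Subgroup Cfsg.Agent.OddHalf.D7F4Ex Cfsg.Agent.OddHalf.D7F4Ex.Loc Cfsg.Agent.OddHalf.DblR
  Cfsg.Agent.OddHalf.D7F4 Cfsg.Agent.OddHalf.D7F4.Model
open CoxeterSystem Cfsg.Agent.ChevalleyStructure.CoxeterGeom Cfsg.Agent.Tits.Roots Cfsg.Agent.Tits.Core
open Cfsg.Lie Cfsg.Agent.ChevalleyStructure Cfsg.Agent.ChevalleyStructure.Elts
  Cfsg.Agent.ChevalleyStructure.RootVec Cfsg.Agent.ChevalleyStructure.CoxeterGeomTypes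
open Cfsg.Agent.Nodes Cfsg.Agent.Nodes.Reps Cfsg.Agent.Nodes.BNOf Cfsg.Agent.Nodes.RGDChev Cfsg.Agent.Nodes.Coroot
  Cfsg.Agent.Nodes.KindF Cfsg.Agent.KFacts.ChevTwo Cfsg.Agent.KFacts.ChevTwoTab Cfsg.Agent.KFacts.ChevTwoInst
  Cfsg.Agent.KFacts.F4Star Cfsg.Agent.KFacts.F4Cent Cfsg.Agent.KFacts.F4Pair Cfsg.Agent.KFacts.F4Torus
  Cfsg.Agent.KFacts.F4Perf Cfsg.Agent.KFacts.F4AutPair Cfsg.Agent.KFacts.RgdTI Cfsg.Agent.KFacts.RgdOdd
  Cfsg.Agent.Nodes.Bruhat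
open Cfsg.Agent.KFacts.F4Model (cF)
open scoped commutatorElement

universe u

/-! ### Tables -/

theorem t_ge : ∀ c ∈ rts, 0 ≤ B c s0 → c = s0 ∨ (∃ j, c = rv j) ∨ (∃ i, c = rz i) ∨ (∃ j, c = rc j) ∨
    ∃ j k : J, j.1 ≠ k.1 ∧ c = rl j k := by decide +kernel
theorem t_gt : ∀ c ∈ rts, 0 < B c s0 → c = s0 ∨ (∃ j, c = rv j) ∨ ∃ i, c = rz i := by decide +kernel
theorem u_s0 : 0 < B s0 s0 := by decide +kernel
theorem u_v : ∀ j, 0 < B (rv j) s0 := by decide +kernel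
theorem u_z : ∀ j, 0 < B (rz j) s0 := by decide +kernel
theorem u_c : ∀ j, 0 ≤ B (rc j) s0 := by decide +kernel
theorem u_l : ∀ j k : J, j.1 ≠ k.1 → 0 ≤ B (rl j k) s0 := by decide +kernel
theorem b_rd : B s0 rd = 1 := by decide +kernel
theorem b_dr : B rd s0 = 1 := by decide +kernel
theorem b_sd : B rs rd = 1 := by decide +kernel
theorem b_ds : B rd rs = 1 := by decide +kernel
theorem ne_n0 : s0 ≠ -s0 := by decide +kernel
theorem ne_nd : rd ≠ -s0 := by decide +kernel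
theorem ne_nsd : rd ≠ -rs := by decide +kernel

/-- what is used of `δ = id`, `dual` -/
structure IsDel (δ : (Fin 4 → ℤ) → (Fin 4 → ℤ)) : Prop where
  dm : ∀ a ∈ rts, δ a ∈ rts
  dd : ∀ a ∈ rts, δ (δ a) = a
  d0 : ∀ a ∈ rts, ∀ b ∈ rts, 0 ≤ B a b → 0 ≤ B (δ a) (δ b)
  d1 : ∀ a ∈ rts, ∀ b ∈ rts, 0 < B a b → 0 < B (δ a) (δ b)
  dn : ∀ a ∈ rts, B (δ s0) (δ s0) = B (δ a) (δ a) ↔ B a a = 2
  brd : B (δ s0) (δ rd) * 2 = B (δ s0) (δ s0) ∧ B (δ rd) (δ s0) * 2 = B (δ s0) (δ s0)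
  bsd : B (δ rs) (δ rd) * 2 = B (δ s0) (δ s0) ∧ B (δ rd) (δ rs) * 2 = B (δ s0) (δ s0)
  brs : B (δ s0) (δ rs) * 2 = -B (δ s0) (δ s0) ∧ B (δ rs) (δ s0) * 2 = -B (δ s0) (δ s0)
  ad : δ s0 + δ rs = δ rd
  ne : δ s0 ≠ δ rs

theorem isDel_id : IsDel id where
  dm := fun a ha => ha
  dd := fun a _ => rfl
  d0 := fun a _ b _ h => h
  d1 := fun a _ b _ h => h
  dn := fun a _ => by
    show B s0 s0 = B a a ↔ _
    rw [n_s0]; exact eq_comm
  brd := by decide +kernel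
  bsd := by decide +kernel
  brs := by decide +kernel
  ad := by decide +kernel
  ne := by decide +kernel

theorem isDel_dual : IsDel dual where
  dm := dual_mem
  dd := dual_dual
  d0 := by decide +kernel
  d1 := by decide +kernel
  dn := by decide +kernel
  brd := by decide +kernel
  bsd := by decide +kernel
  brs := by decide +kernel
  ad := by decide +kernel
  ne := by decide +kernel

/-! ### The setup -/

variable {F : Type u} [Field F] [Finite F] [CharP F 2] {G : Type*} [Group G]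

/-- A chart `E` of an embedded `F₄(q)` with `X_c` of the chart equal to `f (X_{δ c})`. -/
structure Setup (f : ↥(chevF4.group F) →* G) (δ : (Fin 4 → ℤ) → (Fin 4 → ℤ)) (E : (Fin 4 → ℤ) → F → G)
    (T : (Fin 4 → Fˣ) →* G) : Prop where
  inj : Function.Injective f
  del : IsDel δ
  ch : Chart E T
  TE : ∀ ν, T ν ∈ f.range
  e : ∀ a ∈ rts, ∀ u, ∃ x ∈ XF F (δ a), E a u = f x
  e' : ∀ a ∈ rts, ∀ x ∈ XF F (δ a), ∃ u, f x = E a u
  af : ∀ a ∈ rts, ∀ b ∈ rts, B a a = 2 → B b b = 2 → b ≠ -a → ∀ α : MulAut ↥(chevF4.group F),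
    (∀ c ∈ psi a ∩ psi b, ∀ x ∈ XF F (δ c), α x = x) →
    ∃ z ∈ RGD.Sup (XF F) (Cone cF (δ a) (δ b)), α = MulAut.conj z

theorem root_iff {a : Fin 4 → ℤ} : IsRoot cF isType.isCartan a ↔ a ∈ rts := KBridge.isRoot_iff' cF

theorem cpr0 {a b : Fin 4 → ℤ} (ha : a ∈ rts) (hb : b ∈ rts) : 0 ≤ cpr cF isType.isCartan a b ↔ 0 ≤ B a b := by
  rcases norm b hb with h | h
  · rw [KBridge.cpr_short cF ha hb h]
  · have := KBridge.cpr_long cF ha hb h
    omega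

theorem cpr1 {a b : Fin 4 → ℤ} (ha : a ∈ rts) (hb : b ∈ rts) : 1 ≤ cpr cF isType.isCartan a b ↔ 0 < B a b := by
  rcases norm b hb with h | h
  · rw [KBridge.cpr_short cF ha hb h]; omega
  · have := KBridge.cpr_long cF ha hb h
    omega

namespace Setup

variable {f : ↥(chevF4.group F) →* G} {δ : (Fin 4 → ℤ) → (Fin 4 → ℤ)} {E : (Fin 4 → ℤ) → F → G}
  {T : (Fin 4 → Fˣ) →* G} (S : Setup f δ E T)

include S

theorem d0' {a b : Fin 4 → ℤ} (ha : a ∈ rts) (hb : b ∈ rts) (h : 0 ≤ B (δ a) (δ b)) : 0 ≤ B a b := by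
  have := S.del.d0 _ (S.del.dm a ha) _ (S.del.dm b hb) h
  rwa [S.del.dd a ha, S.del.dd b hb] at this

theorem d1' {a b : Fin 4 → ℤ} (ha : a ∈ rts) (hb : b ∈ rts) (h : 0 < B (δ a) (δ b)) : 0 < B a b := by
  have := S.del.d1 _ (S.del.dm a ha) _ (S.del.dm b hb) h
  rwa [S.del.dd a ha, S.del.dd b hb] at this

theorem E_range {a : Fin 4 → ℤ} (ha : a ∈ rts) (u : F) : E a u ∈ f.range := by
  obtain ⟨x, -, h⟩ := S.e a ha u
  rw [h]; exact ⟨x, rfl⟩

/-- all root elements -/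
theorem exists_E {c : Fin 4 → ℤ} (hc : c ∈ rts) {x : ↥(chevF4.group F)} (hx : x ∈ XF F c) :
    ∃ u, f x = E (δ c) u := by
  apply S.e' _ (S.del.dm c hc)
  rwa [S.del.dd c hc]

theorem kc : KC f.range E T where
  ch := S.ch
  EK := fun a ha u => S.E_range ha u
  TK := S.TE
  ctr := by
    rintro _ ⟨y, rfl⟩ h
    have : y = 1 := by
      apply eq_one_of_comm cF
      intro x hx u
      rw [root_iff] at hx
      apply S.inj
      obtain ⟨u', hu'⟩ := S.exists_E hx (x := eF F x u) ((mem_XF_iff cF (root_iff.2 hx)).2 ⟨u, rfl⟩)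
      rw [map_mul, map_mul, hu']
      exact h _ (S.del.dm x hx) u'
    rw [this, map_one]

/-- the elements of `P_s` -/
theorem mem_PF {y : ↥(chevF4.group F)} (h : f y * E s0 1 = E s0 1 * f y) : y ∈ PF cF F (δ s0) := by
  obtain ⟨x, hx, e⟩ := S.e s0 s0_mem 1
  have hx1 : x ≠ 1 := by
    rintro rfl
    rw [map_one] at e
    exact one_ne_zero (S.ch.inj s0 s0_mem 1 e)
  refine cent_X cF (root_iff.2 (S.del.dm s0 s0_mem)) hx hx1 (S.inj ?_)
  rw [map_mul, map_mul, ← e]; exact h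

theorem PE_eq : PE E T = (PF cF F (δ s0)).map f := by
  apply le_antisymm
  · have key : ∀ c ∈ rts, 0 ≤ B c s0 → ∀ u, E c u ∈ (PF cF F (δ s0)).map f := by
      intro c hc h u
      obtain ⟨x, hx, e⟩ := S.e c hc u
      rw [e]
      have hm : δ c ∈ Ge cF isType.isCartan (δ s0) :=
        ⟨root_iff.2 (S.del.dm c hc), (cpr0 (S.del.dm c hc) (S.del.dm s0 s0_mem)).2 (S.del.d0 c hc s0 s0_mem h)⟩
      exact mem_map_of_mem f (RGD.le_Sup (X := XF F) hm hx)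
    rw [PE, Ps, closure_le]
    rintro g ((⟨b, rfl⟩ | ⟨j, b, rfl⟩) | ⟨i, b, rfl⟩ | ⟨j, b, rfl⟩ | ⟨j, k, b, h, rfl⟩ | ⟨ν, rfl⟩)
    · exact key _ s0_mem u_s0.le _
    · exact key _ (rv_mem j) (u_v j).le _
    · exact key _ (rz_mem i) (u_z i).le _
    · exact key _ (rc_mem j) (u_c j) _
    · exact key _ (rl_mem j k h) (u_l j k h) _
    · obtain ⟨y, hy⟩ := S.TE (consH ν)
      refine ⟨y, S.mem_PF ?_, hy⟩
      rw [hy]
      exact S.ch.loc.th_x0 ν 1
  · rw [map_le_iff_le_comap]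
    refine RGD.Sup_le fun c hc x hx => ?_
    have hcr := root_iff.1 hc.1
    obtain ⟨u, h⟩ := S.exists_E hcr hx
    rw [mem_comap, h]
    have h1 : 0 ≤ B (δ c) s0 := by
      have h2 := (cpr0 hcr (S.del.dm s0 s0_mem)).1 hc.2
      apply S.d0' (S.del.dm c hcr) s0_mem
      rwa [S.del.dd c hcr]
    rcases t_ge _ (S.del.dm c hcr) h1 with h2 | ⟨j, h2⟩ | ⟨i, h2⟩ | ⟨j, h2⟩ | ⟨j, k, h3, h2⟩
    · rw [h2]; exact subset_closure (Or.inl (Or.inl ⟨u, rfl⟩))
    · rw [h2]; exact subset_closure (Or.inl (Or.inr ⟨j, u, rfl⟩))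
    · rw [h2]; exact subset_closure (Or.inr (Or.inl ⟨i, u, rfl⟩))
    · rw [h2]; exact subset_closure (Or.inr (Or.inr (Or.inl ⟨j, u, rfl⟩)))
    · rw [h2]; exact subset_closure (Or.inr (Or.inr (Or.inr (Or.inl ⟨j, k, u, h3, rfl⟩))))

theorem QE_eq : QE E = (RGD.Sup (XF F) (Rad cF isType.isCartan (δ s0))).map f := by
  apply le_antisymm
  · have key : ∀ c ∈ rts, 0 < B c s0 → ∀ u, E c u ∈ (RGD.Sup (XF F) (Rad cF isType.isCartan (δ s0))).map f := by
      intro c hc h u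
      obtain ⟨x, hx, e⟩ := S.e c hc u
      rw [e]
      have hm : δ c ∈ Rad cF isType.isCartan (δ s0) :=
        ⟨root_iff.2 (S.del.dm c hc), (cpr1 (S.del.dm c hc) (S.del.dm s0 s0_mem)).2 (S.del.d1 c hc s0 s0_mem h)⟩
      exact mem_map_of_mem f (RGD.le_Sup (X := XF F) hm hx)
    rw [QE, Qs, closure_le]
    rintro g ((⟨b, rfl⟩ | ⟨j, b, rfl⟩) | ⟨i, b, rfl⟩)
    · exact key _ s0_mem u_s0 _
    · exact key _ (rv_mem j) (u_v j) _
    · exact key _ (rz_mem i) (u_z i) _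
  · rw [map_le_iff_le_comap]
    refine RGD.Sup_le fun c hc x hx => ?_
    have hcr := root_iff.1 hc.1
    obtain ⟨u, h⟩ := S.exists_E hcr hx
    rw [mem_comap, h]
    have h1 : 0 < B (δ c) s0 := by
      have h2 := (cpr1 hcr (S.del.dm s0 s0_mem)).1 hc.2
      apply S.d1' (S.del.dm c hcr) s0_mem
      rwa [S.del.dd c hcr]
    rcases t_gt _ (S.del.dm c hcr) h1 with h2 | ⟨j, h2⟩ | ⟨i, h2⟩
    · rw [h2]; exact subset_closure (Or.inl (Or.inl ⟨u, rfl⟩))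
    · rw [h2]; exact subset_closure (Or.inl (Or.inr ⟨j, u, rfl⟩))
    · rw [h2]; exact subset_closure (Or.inr ⟨i, u, rfl⟩)

theorem core [Finite G] {g : G} (hg : cj g (PE E T) = PE E T) : cj g (QE E) ≤ QE E := by
  have : Fact (Nat.Prime 2) := ⟨Nat.prime_two⟩
  have := Cfsg.Agent.KFacts.F4Model.finW
  set R' := RGDLib.rgd_map_of_injective (rgd (K := F) isType cF 2) f S.inj with hR'
  have hr : IsRoot cF isType.isCartan (δ s0) := root_iff.2 (S.del.dm s0 s0_mem)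
  have hP : PE E T = RGD.Sup (fun x => (XF F x).map f) (Ge cF isType.isCartan (δ s0)) := by
    rw [S.PE_eq, map_Sup]
  have hQ : QE E = RGD.Sup (fun x => (XF F x).map f) (Rad cF isType.isCartan (δ s0)) := by
    rw [S.QE_eq, map_Sup]
  have hPG : RGD.Sup (fun x => (XF F x).map f) (Ge cF isType.isCartan (δ s0)) ≤
      GG cF isType.isCartan ((TF F).map f) (fun x => (XF F x).map f) :=
    le_trans (RGD.Sup_mono fun x hx => hx.1) le_sup_right
  have hQP : QE E ≤ PE E T := Q_le_P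
  have QN : ∀ p ∈ PE E T, ∀ q ∈ QE E, p * q * p⁻¹ ∈ QE E := fun p hp q hq => S.ch.loc.PQ hp hq
  have hQn : ∀ p ∈ PE E T, cj p (QE E) = QE E := by
    intro p hp
    have key : ∀ p ∈ PE E T, cj p (QE E) ≤ QE E := by
      intro p hp x hx
      rw [mem_cj] at hx
      have := QN p hp _ hx
      have e : p * (p⁻¹ * x * p) * p⁻¹ = x := by group
      rwa [e] at this
    exact cj_eq_of_le' (key p hp) (key p⁻¹ (inv_mem hp))
  have h2 : IsPGroup 2 ↥(QE E) := by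
    rw [hQ]; exact isPGroup_rad R' hr
  rw [hQ]
  rw [hP] at hg
  refine Cfsg.Agent.KFacts.RgdEx.core_le R' hr ?_ ?_ ?_
  · rw [← hQ]
    refine le_trans (cj_mono g hQP) ?_
    rw [hP, hg]; exact hPG
  · rw [← hQ]; exact h2.map _
  · intro u hu
    rw [← hQ]
    have h1 : g⁻¹ * u * g ∈ PE E T := by
      rw [hP, ← mem_cj, hg]; exact hu
    have h2 : u * g = g * (g⁻¹ * u * g) := by group
    rw [← cj_mul, h2, cj_mul, hQn _ h1]

theorem kp [Finite G] : KP f.range E T where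
  toKC := S.kc
  perf := by
    rw [S.PE_eq, ← map_commutator]
    exact map_mono (perfect_P cF (root_iff.2 (S.del.dm s0 s0_mem))).ge
  cent := by
    rintro x hx hx1 _ ⟨y, rfl⟩ h
    obtain ⟨u, rfl⟩ := (mem_Xs_iff S.ch s0_mem).1 hx
    obtain ⟨x, hx, e⟩ := S.e s0 s0_mem u
    have hx1' : x ≠ 1 := by
      rintro rfl
      rw [map_one] at e
      exact hx1 e
    rw [S.PE_eq]
    refine mem_map_of_mem f (cent_X cF (root_iff.2 (S.del.dm s0 s0_mem)) hx hx1' (S.inj ?_))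
    rw [map_mul, map_mul, ← e]; exact h
  core := fun g hg => S.core hg

/-- `α` fixes the root groups of `psi a ∩ psi b`: up to `C(K)` an element of the cone. -/
theorem aut {R : Subgroup G} (A : Amb f.range R)
    (hnorm : ∀ c : G, (∀ a ∈ R, c * a = a * c) → c ∈ normalizer (f.range : Set G))
    {a b : Fin 4 → ℤ} (ha : a ∈ rts) (hb : b ∈ rts) (h1 : B a a = 2) (h2 : B b b = 2) (hab : b ≠ -a)
    {c : G} (hc : ∀ a ∈ R, c * a = a * c) (hc' : ∀ x ∈ psi a ∩ psi b, ∀ u, c * E x u = E x u * c) :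
    ∃ z ∈ RGD.Sup (XF F) (Cone cF (δ a) (δ b)), (f z)⁻¹ * c ∈ C1 f.range R := by
  obtain ⟨z, hz, hzc⟩ := Cfsg.Agent.KFacts.RgdAutChev.exists_of_aut f S.inj
    (S := {y | ∃ x ∈ psi a ∩ psi b, y ∈ XF F (δ x)})
    (Z := RGD.Sup (XF F) (Cone cF (δ a) (δ b)))
    (fun α hα => S.af a ha b hb h1 h2 hab α fun x hx y hy => hα y ⟨x, hx, hy⟩) (hnorm c hc)
    (by
      rintro x ⟨d, hd, hx⟩
      obtain ⟨u, hu⟩ := S.e' d hd.1.1 x hx
      rw [hu]; exact hc' d hd u)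
  refine ⟨z, hz, ?_⟩
  rw [mem_C1]
  refine ⟨?_, ?_⟩
  · rintro _ ⟨y, rfl⟩
    exact hzc y
  · intro a ha
    have h1 : (f z)⁻¹ * a = a * (f z)⁻¹ := by
      have := A.comm a ha (f z)⁻¹ ⟨z⁻¹, by rw [map_inv]⟩
      exact this.symm
    calc (f z)⁻¹ * c * a = (f z)⁻¹ * (c * a) := by group
      _ = ((f z)⁻¹ * a) * c := by rw [hc a ha]; group
      _ = a * ((f z)⁻¹ * c) := by rw [h1]; group

theorem cpr_one {a b : Fin 4 → ℤ} (ha : a ∈ rts) (hb : b ∈ rts)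
    (h : B (δ a) (δ b) * 2 = B (δ s0) (δ s0)) (hn : B (δ b) (δ b) = B (δ s0) (δ s0)) :
    cpr cF isType.isCartan (δ a) (δ b) = 1 := by
  have h1 := KBridge.cpr_eq cF (S.del.dm a ha) (S.del.dm b hb)
  have h2 := norm _ (S.del.dm b hb)
  rcases h2 with h2 | h2
  · rw [h2] at h1 hn; omega
  · rw [h2] at h1 hn; omega

theorem cpr_neg_one {a b : Fin 4 → ℤ} (ha : a ∈ rts) (hb : b ∈ rts)
    (h : B (δ a) (δ b) * 2 = -B (δ s0) (δ s0)) (hn : B (δ b) (δ b) = B (δ s0) (δ s0)) :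
    cpr cF isType.isCartan (δ a) (δ b) = -1 := by
  have h1 := KBridge.cpr_eq cF (S.del.dm a ha) (S.del.dm b hb)
  have h2 := norm _ (S.del.dm b hb)
  rcases h2 with h2 | h2
  · rw [h2] at h1 hn; omega
  · rw [h2] at h1 hn; omega

theorem nn {a : Fin 4 → ℤ} (ha : a ∈ rts) (h : B a a = 2) : B (δ a) (δ a) = B (δ s0) (δ s0) :=
  ((S.del.dn a ha).2 h).symm

theorem cone_one {a b : Fin 4 → ℤ} (ha : a ∈ rts) (hb : b ∈ rts) (h1 : B a a = 2) (h2 : B b b = 2)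
    (h : B (δ a) (δ b) * 2 = B (δ s0) (δ s0)) (h' : B (δ b) (δ a) * 2 = B (δ s0) (δ s0)) :
    ∀ z ∈ RGD.Sup (XF F) (Cone cF (δ a) (δ b)), ∃ u v, f z = E a u * E b v := by
  have e1 := S.cpr_one ha hb h (S.nn hb h2)
  have e2 := S.cpr_one hb ha h' (S.nn ha h1)
  have hs : RGD.Sup (XF F) (Cone cF (δ a) (δ b)) ≤ XF F (δ a) ⊔ XF F (δ b) ⊔ ⊥ := by
    refine RGD.Sup_le fun c hc => ?_
    obtain ⟨-, hc⟩ := hc
    rw [e1, e2] at hc
    rcases hc with h | h | h | h | h | h | h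
    · rw [h]; exact le_trans le_sup_left le_sup_left
    · rw [h]; exact le_trans le_sup_right le_sup_left
    all_goals exact absurd h.1 (by norm_num)
  intro z hz
  have hcm : ∀ x ∈ XF F (δ a), ∀ y ∈ XF F (δ b), x * y = y * x :=
    Cfsg.Agent.KFacts.F4Model.X0 (S.del.dm a ha) (S.del.dm b hb) (by
      rcases norm _ (S.del.dm s0 s0_mem) with h3 | h3 <;> rw [h3] at h <;> omega)
  obtain ⟨x, hx, y, hy, w, hw, rfl⟩ := Cfsg.Agent.KFacts.F4Model.mem_sup3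
    (fun x _ w hw => by rw [mem_bot] at hw; rw [hw, mul_one, one_mul])
    (fun x _ w hw => by rw [mem_bot] at hw; rw [hw, mul_one, one_mul])
    (fun x hx y hy => ⟨1, one_mem _, by rw [mul_one, hcm x hx y hy]⟩) (hs hz)
  rw [mem_bot] at hw
  obtain ⟨u, hu⟩ := S.e' a ha x hx
  obtain ⟨v, hv⟩ := S.e' b hb y hy
  exact ⟨u, v, by rw [hw, mul_one, map_mul, hu, hv]⟩

theorem cone_two : ∀ z ∈ RGD.Sup (XF F) (Cone cF (δ s0) (δ rs)), ∃ u v w, f z = E s0 u * E rs v * E rd w := by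
  have e1 := S.cpr_neg_one s0_mem rs_mem S.del.brs.1 (S.nn rs_mem n_rs)
  have e2 := S.cpr_neg_one rs_mem s0_mem S.del.brs.2 rfl
  have n0 := norm _ (S.del.dm s0 s0_mem)
  have hs : RGD.Sup (XF F) (Cone cF (δ s0) (δ rs)) ≤ XF F (δ s0) ⊔ XF F (δ rs) ⊔ XF F (δ rd) := by
    refine RGD.Sup_le fun c hc => ?_
    obtain ⟨-, hc⟩ := hc
    rw [e1, e2] at hc
    rcases hc with h | h | h | h | h | h | h
    · rw [h]; exact le_trans le_sup_left le_sup_left
    · rw [h]; exact le_trans le_sup_right le_sup_left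
    · rw [h.2.2, S.del.ad]; exact le_sup_right
    · exact absurd h.1 (by norm_num)
    · exact absurd h.2.1 (by norm_num)
    · exact absurd h.1 (by norm_num)
    · exact absurd h.1 (by norm_num)
  intro z hz
  have h0 := S.del.brd.1
  have h1 := S.del.bsd.1
  have h2 := S.del.brs.1
  obtain ⟨x, hx, y, hy, w, hw, rfl⟩ := Cfsg.Agent.KFacts.F4Model.mem_sup3
    (Cfsg.Agent.KFacts.F4Model.X0 (S.del.dm _ s0_mem) (S.del.dm _ rd_mem) (by
      rcases n0 with h3 | h3 <;> rw [h3] at h0 <;> omega))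
    (Cfsg.Agent.KFacts.F4Model.X0 (S.del.dm _ rs_mem) (S.del.dm _ rd_mem) (by
      rcases n0 with h3 | h3 <;> rw [h3] at h1 <;> omega))
    (fun x hx y hy => by
      obtain ⟨u, rfl⟩ := (mem_XF_iff cF (root_iff.2 (S.del.dm _ s0_mem))).1 hx
      obtain ⟨v, rfl⟩ := (mem_XF_iff cF (root_iff.2 (S.del.dm _ rs_mem))).1 hy
      have hne : δ s0 ≠ -δ rs := by
        intro h
        have h4 : δ rd = 0 := by rw [← S.del.ad, h, neg_add_cancel]
        have h5 := S.nn rd_mem n_rd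
        rw [h4] at h5
        have h6 : B 0 0 = 0 := by decide
        rw [h6] at h5
        rcases n0 with h3 | h3 <;> omega
      have hc := Cfsg.Agent.KFacts.F4Model.comm1 (K := F) (S.del.dm _ s0_mem) (S.del.dm _ rs_mem) (S.nn rs_mem n_rs).symm
        (by rcases n0 with h3 | h3 <;> rw [h3] at h2 <;> omega) hne u v
      rw [S.del.ad] at hc
      have hd1 := Cfsg.Agent.KFacts.F4Model.X0 (K := F) (S.del.dm _ s0_mem) (S.del.dm _ rd_mem) (by
        rcases n0 with h3 | h3 <;> rw [h3] at h0 <;> omega)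
      have hd2 := Cfsg.Agent.KFacts.F4Model.X0 (K := F) (S.del.dm _ rs_mem) (S.del.dm _ rd_mem) (by
        rcases n0 with h3 | h3 <;> rw [h3] at h1 <;> omega)
      have hw : eF F (δ rd) (u * v) ∈ XF F (δ rd) := (mem_XF_iff cF (root_iff.2 (S.del.dm _ rd_mem))).2 ⟨_, rfl⟩
      refine ⟨(eF F (δ rd) (u * v))⁻¹, inv_mem hw, ?_⟩
      have e3 := hd1 _ hx _ hw
      have e4 := hd2 _ hy _ hw
      rw [commutatorElement_def] at hc
      have e5 : eF F (δ s0) u * eF F (δ rs) v = eF F (δ rd) (u * v) * (eF F (δ rs) v * eF F (δ s0) u) := by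
        rw [← hc]; group
      calc eF F (δ rs) v * eF F (δ s0) u = (eF F (δ rs) v * eF F (δ s0) u * eF F (δ rd) (u * v)) *
            (eF F (δ rd) (u * v))⁻¹ := by group
        _ = (eF F (δ rd) (u * v) * (eF F (δ rs) v * eF F (δ s0) u)) * (eF F (δ rd) (u * v))⁻¹ := by
            rw [mul_assoc (eF F (δ rs) v), e3, ← mul_assoc (eF F (δ rs) v), e4, mul_assoc (eF F (δ rd) (u * v))]
        _ = _ := by rw [← e5])
    (hs hz)
  obtain ⟨u, hu⟩ := S.e' s0 s0_mem x hx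
  obtain ⟨v, hv⟩ := S.e' rs rs_mem y hy
  obtain ⟨w', hw'⟩ := S.e' rd rd_mem w hw
  exact ⟨u, v, w', by rw [map_mul, map_mul, hu, hv, hw']⟩

theorem cf {R : Subgroup G} (A : Amb f.range R)
    (hnorm : ∀ c : G, (∀ a ∈ R, c * a = a * c) → c ∈ normalizer (f.range : Set G)) : CF f.range R E where
  k3 := fun c hc hc' => by
    obtain ⟨z, hz, h⟩ := S.aut A hnorm s0_mem s0_mem n_s0 n_s0 ne_n0 hc
      (fun x hx u => hc' x hx.1 u)
    have h1 : z ∈ XF F (δ s0) := by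
      have h3 : RGD.Sup (XF F) (Cone cF (δ s0) (δ s0)) ≤ XF F (δ s0) := RGD.Sup_le fun x hx => by
        rw [Set.mem_singleton_iff.1 (cone_self cF (root_iff.2 (S.del.dm _ s0_mem)) hx)]
      exact h3 hz
    obtain ⟨u, hu⟩ := S.e' s0 s0_mem z h1
    exact ⟨u, by rwa [hu] at h⟩
  k2r := fun c hc hc' => by
    obtain ⟨z, hz, h⟩ := S.aut A hnorm s0_mem rd_mem n_s0 n_rd ne_nd hc hc'
    obtain ⟨u, v, hu⟩ := S.cone_one s0_mem rd_mem n_s0 n_rd S.del.brd.1 S.del.brd.2 z hz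
    exact ⟨u, v, by rwa [hu] at h⟩
  k2s := fun c hc hc' => by
    obtain ⟨z, hz, h⟩ := S.aut A hnorm rs_mem rd_mem n_rs n_rd ne_nsd hc hc'
    obtain ⟨u, v, hu⟩ := S.cone_one rs_mem rd_mem n_rs n_rd S.del.bsd.1 S.del.bsd.2 z hz
    exact ⟨u, v, by rwa [hu] at h⟩
  k1 := fun c hc hc' => by
    obtain ⟨z, hz, h⟩ := S.aut A hnorm s0_mem rs_mem n_s0 n_rs ne_sr hc hc'
    obtain ⟨u, v, w, hu⟩ := S.cone_two z hz
    exact ⟨u, v, w, by rwa [hu] at h⟩

end Setup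

/-! ### The two setups -/

theorem setup_id (hq : ∃ μ : Fˣ, μ ≠ 1) {f : ↥(chevF4.group F) →* G} (hf : Function.Injective f) :
    Setup f id (fun a u => f (eF F a u)) (f.comp (Cfsg.Agent.KFacts.F4Chart.torH F)) where
  inj := hf
  del := isDel_id
  ch := Cfsg.Agent.KFacts.F4Chart.chart hq hf
  TE := fun ν => ⟨_, rfl⟩
  e := fun a ha u => ⟨eF F a u, (mem_XF_iff cF (root_iff.2 ha)).2 ⟨u, rfl⟩, rfl⟩
  e' := fun a ha x hx => by
    obtain ⟨u, rfl⟩ := (mem_XF_iff cF (root_iff.2 ha)).1 hx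
    exact ⟨u, rfl⟩
  af := fun a ha b hb h1 h2 hab α hα => by
    refine aut_pairL cF (root_iff.2 ha) (root_iff.2 hb) hab (fun h => ?_) (fun h => ?_) (fun c hc => ?_)
    · have := ((KBridge.lg_iff cF).1 h).2; omega
    · have := ((KBridge.lg_iff cF).1 (h.2 ((KBridge.sh_iff cF).2 ⟨hb, h2⟩))).2; omega
    · rw [KBridge.psiL_iff cF ha hb] at hc
      apply hα c
      rcases hc with ⟨hc, h | h⟩
      · exact ⟨⟨hc, Or.inr ⟨h.1, h.2.1⟩⟩, ⟨hc, Or.inr ⟨h.1, h.2.2⟩⟩⟩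
      · exact ⟨⟨hc, Or.inl ⟨h.1, h.2.1⟩⟩, ⟨hc, Or.inl ⟨h.1, h.2.2⟩⟩⟩

theorem dual_neg' : ∀ a ∈ rts, dual (-a) = -dual a := fun a ha => (k_neg a ha).2.2

/-- the inverse Frobenius -/
theorem exists_rt : ∃ rt : F ≃+* F, ∀ u, rt u ^ 2 = u := by
  have : Fact (Nat.Prime 2) := ⟨Nat.prime_two⟩
  have := Fintype.ofFinite F
  refine ⟨(frobeniusEquiv F 2).symm, fun u => ?_⟩
  exact frobeniusEquiv_symm_pow_p (R := F) (p := 2) u

theorem setup_dual (hq : ∃ μ : Fˣ, μ ≠ 1) {f : ↥(chevF4.group F) →* G} (hf : Function.Injective f) {rt : F ≃+* F}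
    (hrt : ∀ u, rt u ^ 2 = u) :
    Setup f dual (dualE rt (fun a u => f (eF F a u))) ((f.comp (Cfsg.Agent.KFacts.F4Chart.torH F)).comp (dualH rt)) where
  inj := hf
  del := isDel_dual
  ch := Chart.dual rt hrt (Cfsg.Agent.KFacts.F4Chart.chart hq hf)
  TE := fun ν => ⟨_, rfl⟩
  e := fun a ha u => by
    rcases norm a ha with h | h
    · rw [dualE_short rt h]
      exact ⟨_, (mem_XF_iff cF (root_iff.2 (dual_mem a ha))).2 ⟨u, rfl⟩, rfl⟩
    · rw [dualE_long rt h]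
      exact ⟨_, (mem_XF_iff cF (root_iff.2 (dual_mem a ha))).2 ⟨rt u, rfl⟩, rfl⟩
  e' := fun a ha x hx => by
    obtain ⟨u, rfl⟩ := (mem_XF_iff cF (root_iff.2 (dual_mem a ha))).1 hx
    rcases norm a ha with h | h
    · exact ⟨u, by rw [dualE_short rt h]⟩
    · exact ⟨u ^ 2, by rw [dualE_long rt h, rt_sq rt hrt]⟩
  af := fun a ha b hb h1 h2 hab α hα => by
    have ha' := dual_mem a ha
    have hb' := dual_mem b hb
    have n1 : B (dual a) (dual a) = 4 := by rcases k_norm a ha with h | h <;> omega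
    have n2 : B (dual b) (dual b) = 4 := by rcases k_norm b hb with h | h <;> omega
    refine aut_pairS cF (root_iff.2 ha') (root_iff.2 hb') ?_ (fun h => ?_) (fun h => ?_) (fun c hc => ?_)
    · intro h
      apply hab
      rw [← dual_neg' a ha] at h
      have := congrArg dual h
      rwa [dual_dual b hb, dual_dual _ ((k_neg a ha).1)] at this
    · have := ((KBridge.sh_iff cF).1 h).2; omega
    · have := ((KBridge.sh_iff cF).1 (h.1 ((KBridge.lg_iff cF).2 ⟨ha', n1⟩))).2; omega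
    · rw [KBridge.psiS_iff cF ha' hb'] at hc
      obtain ⟨hc, h⟩ := hc
      have hcd := dual_mem c hc
      have key := hα (dual c)
      rw [dual_dual c hc] at key
      apply key
      have q0 : ∀ x ∈ rts, 0 ≤ B c (dual x) → 0 ≤ B (dual c) x := fun x hx h => by
        have := isDel_dual.d0 c hc _ (dual_mem x hx) h
        rwa [dual_dual x hx] at this
      have q1 : ∀ x ∈ rts, 0 < B c (dual x) → 0 < B (dual c) x := fun x hx h => by
        have := isDel_dual.d1 c hc _ (dual_mem x hx) h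
        rwa [dual_dual x hx] at this
      rcases h with h | h
      · have n3 : B (dual c) (dual c) = 4 := by rcases k_norm c hc with h' | h' <;> omega
        exact ⟨⟨hcd, Or.inr ⟨n3, q0 a ha h.2.1⟩⟩, ⟨hcd, Or.inr ⟨n3, q0 b hb h.2.2⟩⟩⟩
      · have n3 : B (dual c) (dual c) = 2 := by rcases k_norm c hc with h' | h' <;> omega
        exact ⟨⟨hcd, Or.inl ⟨n3, q1 a ha h.2.1⟩⟩, ⟨hcd, Or.inl ⟨n3, q1 b hb h.2.2⟩⟩⟩

end Cfsg.Agent.OddHalf.D4F4
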