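import Cfsg.Agent.OddHalf.D4F4.Setup

/-!
# ODD, D4, `F₄(q)`: the centre of a Sylow 2-subgroup

`X = X_σ × X_ρ` is the centre of `S = ⟨X_c : c > 0⟩` (`σ = s0` the highest short, `ρ = r0` the highest root).

* `z2` : an element `u ∈ S` with `[u, S] ≤ X` lies in `X_{c1} X_{c2} X`;
* **`swap`** : an element which normalises `S` and `X` stabilises or exchanges `X_σ`, `X_ρ`.
-/

set_option autoImplicit false
set_option linter.unusedSectionVars false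

namespace Cfsg.Agent.OddHalf.D4F4

open Subgroup Cfsg.Agent.OddHalf.D7F4Ex Cfsg.Agent.OddHalf.D7F4Ex.Loc Cfsg.Agent.OddHalf.DblR
  Cfsg.Agent.OddHalf.D7F4 Cfsg.Agent.OddHalf.D7F4.Model
open CoxeterSystem Cfsg.Agent.ChevalleyStructure.CoxeterGeom Cfsg.Agent.Tits.Roots Cfsg.Agent.Tits.Core
open Cfsg.Lie Cfsg.Agent.ChevalleyStructure Cfsg.Agent.ChevalleyStructure.Elts
  Cfsg.Agent.ChevalleyStructure.RootVec Cfsg.Agent.ChevalleyStructure.CoxeterGeomTypes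
open Cfsg.Agent.Nodes Cfsg.Agent.Nodes.Reps Cfsg.Agent.Nodes.BNOf Cfsg.Agent.Nodes.RGDChev Cfsg.Agent.Nodes.Coroot
  Cfsg.Agent.Nodes.KindF Cfsg.Agent.KFacts.ChevTwo Cfsg.Agent.KFacts.ChevTwoTab Cfsg.Agent.KFacts.ChevTwoInst
  Cfsg.Agent.KFacts.F4Star Cfsg.Agent.KFacts.F4Cent Cfsg.Agent.KFacts.F4Pair
open Cfsg.Agent.KFacts.F4Model (cF)
open scoped commutatorElement

universe u

/-- the highest root -/
def r0 : Fin 4 → ℤ := ![2, 4, 3, 2]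
/-- `e₁ + e₃` -/
def rc1 : Fin 4 → ℤ := ![2, 4, 3, 1]
/-- `½(1,1,1,1)` -/
def rc2 : Fin 4 → ℤ := ![1, 3, 2, 1]
/-- `e₂ - e₃` -/
def rb1 : Fin 4 → ℤ := ![0, 0, 0, 1]
/-- `½(1,-1,-1,-1)` -/
def rb2 : Fin 4 → ℤ := ![1, 0, 0, 0]

theorem dual_s0 : dual s0 = r0 := by decide +kernel
theorem r0_mem : r0 ∈ rts := by decide +kernel
theorem rc1_mem : rc1 ∈ rts := by decide +kernel
theorem rc2_mem : rc2 ∈ rts := by decide +kernel
theorem rb1_mem : rb1 ∈ rts := by decide +kernel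
theorem rb2_mem : rb2 ∈ rts := by decide +kernel
theorem p_s0 : ∀ i, 0 ≤ s0 i := by decide +kernel
theorem p_r0 : ∀ i, 0 ≤ r0 i := by decide +kernel
theorem p_c1 : ∀ i, 0 ≤ rc1 i := by decide +kernel
theorem p_c2 : ∀ i, 0 ≤ rc2 i := by decide +kernel
theorem p_b1 : ∀ i, 0 ≤ rb1 i := by decide +kernel
theorem p_b2 : ∀ i, 0 ≤ rb2 i := by decide +kernel
theorem t_s0 : ∀ c ∈ rts, (∀ i, 0 ≤ c i) → 0 ≤ B s0 c := by decide +kernel
theorem t_r0 : ∀ c ∈ rts, (∀ i, 0 ≤ c i) → 0 ≤ B r0 c := by decide +kernel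
theorem t_c1 : ∀ c ∈ rts, (∀ i, 0 ≤ c i) → c = rb1 ∨ 0 ≤ B rc1 c := by decide +kernel
theorem t_c2 : ∀ c ∈ rts, (∀ i, 0 ≤ c i) → c = rb2 ∨ 0 ≤ B rc2 c := by decide +kernel
theorem q_c1 : B rc1 rc1 = B rb1 rb1 ∧ B rc1 rb1 < 0 ∧ rc1 ≠ -rb1 ∧ rc1 + rb1 = r0 := by decide +kernel
theorem q_c2 : B rc2 rc2 = B rb2 rb2 ∧ B rc2 rb2 < 0 ∧ rc2 ≠ -rb2 ∧ rc2 + rb2 = s0 := by decide +kernel
theorem q_21 : 0 ≤ B rc2 rb1 := by decide +kernel
theorem q_12 : 0 ≤ B rc1 rb2 := by decide +kernel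
theorem q_cc : 0 ≤ B rc1 rc2 := by decide +kernel
theorem ne_s0r0 : s0 ≠ r0 := by decide +kernel
theorem ne_c1 : rc1 ≠ s0 ∧ rc1 ≠ r0 := by decide +kernel
theorem ne_c2 : rc2 ≠ s0 ∧ rc2 ≠ r0 := by decide +kernel

/-- the mask of the positive roots which are sums of two positive roots of the same length -/
def pM : ℕ := 279265283145728

theorem spanPM : spanM pM = true := by decide +kernel
theorem starPM : ∀ r ∈ List.range 48, (starM pM).testBit r = true →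
    KBridge.vv r = s0 ∨ KBridge.vv r = r0 ∨ KBridge.vv r = rc1 ∨ KBridge.vv r = rc2 := by decide +kernel
theorem sumPM : ∀ r ∈ List.range 48, pM.testBit r = true → ∃ a ∈ rts, ∃ b ∈ rts, (∀ i, 0 ≤ a i) ∧ (∀ i, 0 ≤ b i) ∧
    B a a = B b b ∧ B a b < 0 ∧ a ≠ -b ∧ a + b = KBridge.vv r := by decide +kernel

section Gen

variable {F : Type*} [Field F] {G : Type*} [Group G]

/-- `⟨X_c : c > 0⟩` -/
abbrev SE (E : (Fin 4 → ℤ) → F → G) : Subgroup G := SupE E {c | c ∈ rts ∧ ∀ i, 0 ≤ c i}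

/-- `X_σ X_ρ` -/
abbrev XE (E : (Fin 4 → ℤ) → F → G) : Subgroup G := Xs (E s0) ⊔ Xs (E r0)

theorem comm_closure {D : Set G} {V : Subgroup G} {x : G} (hc : ∀ z ∈ V, ∀ s ∈ closure D, z * s = s * z)
    (h : ∀ s ∈ D, x * s * x⁻¹ * s⁻¹ ∈ V) : ∀ s ∈ closure D, x * s * x⁻¹ * s⁻¹ ∈ V := by
  intro s hs
  induction hs using closure_induction with
  | mem s hs => exact h s hs
  | one => simp
  | mul s s' hs hs' h1 h2 =>
    have e : x * (s * s') * x⁻¹ * (s * s')⁻¹ = (x * s * x⁻¹ * s⁻¹) * (s * (x * s' * x⁻¹ * s'⁻¹) * s⁻¹) := by group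
    have h3 := hc _ h2 s hs
    have e2 : s * (x * s' * x⁻¹ * s'⁻¹) * s⁻¹ = x * s' * x⁻¹ * s'⁻¹ := by rw [← h3]; group
    rw [e, e2]
    exact mul_mem h1 h2
  | inv s hs h1 =>
    have h3 := hc _ (inv_mem h1) s⁻¹ (inv_mem hs)
    have e : x * s⁻¹ * x⁻¹ * s⁻¹⁻¹ = s⁻¹ * (x * s * x⁻¹ * s⁻¹)⁻¹ * s := by group
    rw [e, ← h3]
    have e2 : (x * s * x⁻¹ * s⁻¹)⁻¹ * s⁻¹ * s = (x * s * x⁻¹ * s⁻¹)⁻¹ := by group
    rw [e2]
    exact inv_mem h1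

/-- elements of the product of two commuting subgroups -/
theorem mem_sup_comm {A D : Subgroup G} (h : ∀ a ∈ A, ∀ d ∈ D, a * d = d * a) {g : G} (hg : g ∈ A ⊔ D) :
    ∃ a ∈ A, ∃ d ∈ D, g = a * d := by
  obtain ⟨a, ha, d, hd, w, hw, rfl⟩ := Cfsg.Agent.KFacts.F4Model.mem_sup3 (C := ⊥)
    (fun x _ w hw => by rw [mem_bot] at hw; rw [hw, mul_one, one_mul])
    (fun x _ w hw => by rw [mem_bot] at hw; rw [hw, mul_one, one_mul])
    (fun x hx y hy => ⟨1, one_mem _, by rw [mul_one, h x hx y hy]⟩) (show g ∈ A ⊔ D ⊔ ⊥ from mem_sup_left hg)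
  rw [mem_bot] at hw
  exact ⟨a, ha, d, hd, by rw [hw, mul_one]⟩

variable {E : (Fin 4 → ℤ) → F → G} {T : (Fin 4 → Fˣ) →* G}

theorem XX_comm (C : Chart E T) : ∀ a ∈ Xs (E s0), ∀ d ∈ Xs (E r0), a * d = d * a := by
  intro a ha d hd
  obtain ⟨u, rfl⟩ := (mem_Xs_iff C s0_mem).1 ha
  obtain ⟨v, rfl⟩ := (mem_Xs_iff C r0_mem).1 hd
  exact C.c0 _ s0_mem _ r0_mem (t_s0 _ r0_mem p_r0) u v

theorem mem_XE (C : Chart E T) {x : G} : x ∈ XE E ↔ ∃ a b, x = E s0 a * E r0 b := by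
  constructor
  · intro hx
    obtain ⟨a, ha, d, hd, rfl⟩ := mem_sup_comm (XX_comm C) hx
    obtain ⟨u, rfl⟩ := (mem_Xs_iff C s0_mem).1 ha
    obtain ⟨v, rfl⟩ := (mem_Xs_iff C r0_mem).1 hd
    exact ⟨u, v, rfl⟩
  · rintro ⟨a, b, rfl⟩
    exact mul_mem (mem_sup_left (EX a)) (mem_sup_right (EX b))

theorem XE_zero (C : Chart E T) {a b : F} (h : E s0 a * E r0 b = 1) : a = 0 ∧ b = 0 := by
  have h1 : E s0 a = E r0 b := by
    have h2 : (E r0 b)⁻¹ = E r0 b := by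
      rw [inv_eq_iff_mul_eq_one, ← C.add _ r0_mem, C.two]
      have := C.add _ r0_mem 0 0
      rw [add_zero] at this
      exact mul_eq_left.1 this.symm
    rw [← h2]; exact eq_inv_of_mul_eq_one_left h
  have hb := C.sep _ s0_mem _ r0_mem ne_s0r0 a b h1
  have ha := C.sep _ r0_mem _ s0_mem ne_s0r0.symm b a h1.symm
  exact ⟨ha, hb⟩

/-- `X` is central in `S` -/
theorem XS_comm (C : Chart E T) : ∀ z ∈ XE E, ∀ s ∈ SE E, z * s = s * z := by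
  intro z hz s hs
  obtain ⟨a, b, rfl⟩ := (mem_XE C).1 hz
  have key : SE E ≤ centralizer {E s0 a * E r0 b} := by
    refine SupE_le fun c hc u => ?_
    rw [mem_centralizer_singleton_iff]
    have h1 := C.c0 _ s0_mem _ hc.1 (t_s0 _ hc.1 hc.2) a u
    have h2 := C.c0 _ r0_mem _ hc.1 (t_r0 _ hc.1 hc.2) b u
    calc E c u * (E s0 a * E r0 b) = (E c u * E s0 a) * E r0 b := by group
      _ = E s0 a * (E c u * E r0 b) := by rw [← h1]; group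
      _ = _ := by rw [← h2]; group
  exact (mem_centralizer_singleton_iff.1 (key hs)).symm

theorem pos_mem {c : Fin 4 → ℤ} (hc : c ∈ rts) (h : ∀ i, 0 ≤ c i) (u : F) : E c u ∈ SE E :=
  mem_SupE (S := {c | c ∈ rts ∧ ∀ i, 0 ≤ c i}) ⟨hc, h⟩ u

theorem XE_le_SE (C : Chart E T) : XE E ≤ SE E := by
  intro x hx
  obtain ⟨a, b, rfl⟩ := (mem_XE C).1 hx
  exact mul_mem (pos_mem s0_mem p_s0 _) (pos_mem r0_mem p_r0 _)

theorem comm_c1 (C : Chart E T) (a : F) : ∀ s ∈ SE E, E rc1 a * s * (E rc1 a)⁻¹ * s⁻¹ ∈ Xs (E r0) := by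
  refine comm_closure (fun z hz s hs => XS_comm C z (mem_sup_right hz) s hs) ?_
  rintro _ ⟨c, hc, u, rfl⟩
  rcases t_c1 c hc.1 hc.2 with rfl | h
  · obtain ⟨h1, h2, h3, h4⟩ := q_c1
    rw [C.c1 _ rc1_mem _ rb1_mem h1 h2 h3, h4]
    exact EX _
  · have h1 := C.c0 _ rc1_mem _ hc.1 h a u
    have : E rc1 a * E c u * (E rc1 a)⁻¹ * (E c u)⁻¹ = 1 := by rw [h1]; group
    rw [this]; exact one_mem _

theorem comm_c2 (C : Chart E T) (a : F) : ∀ s ∈ SE E, E rc2 a * s * (E rc2 a)⁻¹ * s⁻¹ ∈ Xs (E s0) := by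
  refine comm_closure (fun z hz s hs => XS_comm C z (mem_sup_left hz) s hs) ?_
  rintro _ ⟨c, hc, u, rfl⟩
  rcases t_c2 c hc.1 hc.2 with rfl | h
  · obtain ⟨h1, h2, h3, h4⟩ := q_c2
    rw [C.c1 _ rc2_mem _ rb2_mem h1 h2 h3, h4]
    exact EX _
  · have h1 := C.c0 _ rc2_mem _ hc.1 h a u
    have : E rc2 a * E c u * (E rc2 a)⁻¹ * (E c u)⁻¹ = 1 := by rw [h1]; group
    rw [this]; exact one_mem _

/-- the commutators of `x_{c1}(a) x_{c2}(b) x` with `X_{b1}`, `X_{b2}` -/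
theorem comm_b1 (C : Chart E T) (a b : F) {x : G} (hx : x ∈ XE E) (s : F) :
    (E rc1 a * E rc2 b * x) * E rb1 s * (E rc1 a * E rc2 b * x)⁻¹ * (E rb1 s)⁻¹ = E r0 (a * s) := by
  have h1 := XS_comm C x hx _ (pos_mem rb1_mem p_b1 s)
  have h2 := C.c0 _ rc2_mem _ rb1_mem q_21 b s
  obtain ⟨h3, h4, h5, h6⟩ := q_c1
  have h7 := C.c1 _ rc1_mem _ rb1_mem h3 h4 h5 a s
  rw [h6] at h7
  calc (E rc1 a * E rc2 b * x) * E rb1 s * (E rc1 a * E rc2 b * x)⁻¹ * (E rb1 s)⁻¹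
      = E rc1 a * E rc2 b * (x * E rb1 s) * x⁻¹ * (E rc2 b)⁻¹ * (E rc1 a)⁻¹ * (E rb1 s)⁻¹ := by group
    _ = E rc1 a * (E rc2 b * E rb1 s) * (E rc2 b)⁻¹ * (E rc1 a)⁻¹ * (E rb1 s)⁻¹ := by rw [h1]; group
    _ = E rc1 a * E rb1 s * (E rc1 a)⁻¹ * (E rb1 s)⁻¹ := by rw [h2]; group
    _ = _ := h7

theorem comm_b2 (C : Chart E T) (a b : F) {x : G} (hx : x ∈ XE E) (s : F) :
    (E rc1 a * E rc2 b * x) * E rb2 s * (E rc1 a * E rc2 b * x)⁻¹ * (E rb2 s)⁻¹ = E s0 (b * s) := by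
  have h1 := XS_comm C x hx _ (pos_mem rb2_mem p_b2 s)
  have h2 := C.c0 _ rc1_mem _ rb2_mem q_12 a s
  obtain ⟨h3, h4, h5, h6⟩ := q_c2
  have h7 := C.c1 _ rc2_mem _ rb2_mem h3 h4 h5 b s
  rw [h6] at h7
  have h8 : E rc1 a * E s0 (b * s) = E s0 (b * s) * E rc1 a :=
    (C.c0 _ s0_mem _ rc1_mem (t_s0 _ rc1_mem p_c1) (b * s) a).symm
  calc (E rc1 a * E rc2 b * x) * E rb2 s * (E rc1 a * E rc2 b * x)⁻¹ * (E rb2 s)⁻¹
      = E rc1 a * E rc2 b * (x * E rb2 s) * x⁻¹ * (E rc2 b)⁻¹ * (E rc1 a)⁻¹ * (E rb2 s)⁻¹ := by group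
    _ = E rc1 a * (E rc2 b * E rb2 s * (E rc2 b)⁻¹ * (E rb2 s)⁻¹) * E rb2 s * (E rc1 a)⁻¹ * (E rb2 s)⁻¹ := by
        rw [h1]; group
    _ = E s0 (b * s) * (E rc1 a * E rb2 s) * (E rc1 a)⁻¹ * (E rb2 s)⁻¹ := by rw [h7, h8]; group
    _ = _ := by rw [h2]; group

end Gen

/-! ### The second centre -/

variable {F : Type u} [Field F] [Finite F] [CharP F 2] {G : Type*} [Group G]
  {f : ↥(chevF4.group F) →* G} {E : (Fin 4 → ℤ) → F → G} {T : (Fin 4 → Fˣ) →* G}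

/-- **`Z₂(S) ≤ X_{c1} X_{c2} X`** -/
theorem z2 (S : Setup f id E T) {u : G} (hu : u ∈ SE E) (h : ∀ s ∈ SE E, u * s * u⁻¹ * s⁻¹ ∈ XE E) :
    ∃ a b, ∃ x ∈ XE E, u = E rc1 a * E rc2 b * x := by
  have C := S.ch
  have hSK : SE E ≤ f.range := SupE_le fun c hc u => S.E_range hc.1 u
  obtain ⟨y, rfl⟩ := hSK hu
  -- `u` centralises `[S, S]`
  have key : ∀ s ∈ SE E, ∀ s' ∈ SE E, f y * (s * s' * s⁻¹ * s'⁻¹) = (s * s' * s⁻¹ * s'⁻¹) * f y := by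
    intro s hs s' hs'
    have h1 := h s hs
    have h2 := h s' hs'
    set z := f y * s * (f y)⁻¹ * s⁻¹ with hz
    set z' := f y * s' * (f y)⁻¹ * s'⁻¹ with hz'
    have e1 : f y * s * (f y)⁻¹ = z * s := by rw [hz]; group
    have e2 : f y * s' * (f y)⁻¹ = z' * s' := by rw [hz']; group
    have c1 := XS_comm C z h1 s hs
    have c2 := XS_comm C z h1 s' hs'
    have c3 := XS_comm C z' h2 s hs
    have c4 := XS_comm C z' h2 s' hs'
    have c5 := XS_comm C z h1 z' (XE_le_SE C h2)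
    have e3 : f y * (s * s' * s⁻¹ * s'⁻¹) * (f y)⁻¹ = s * s' * s⁻¹ * s'⁻¹ := by
      calc f y * (s * s' * s⁻¹ * s'⁻¹) * (f y)⁻¹
          = (f y * s * (f y)⁻¹) * (f y * s' * (f y)⁻¹) * (f y * s * (f y)⁻¹)⁻¹ * (f y * s' * (f y)⁻¹)⁻¹ := by group
        _ = (z * s) * (z' * s') * (z * s)⁻¹ * (z' * s')⁻¹ := by rw [e1, e2]
        _ = z * (s * z') * s' * s⁻¹ * z⁻¹ * s'⁻¹ * z'⁻¹ := by group
        _ = z * z' * (s * s' * s⁻¹) * z⁻¹ * s'⁻¹ * z'⁻¹ := by rw [← c3]; group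
        _ = z' * (z * (s * s' * s⁻¹) * z⁻¹) * s'⁻¹ * z'⁻¹ := by rw [c5]; group
        _ = z' * (s * s' * s⁻¹) * s'⁻¹ * z'⁻¹ := by
            rw [XS_comm C z h1 (s * s' * s⁻¹) (mul_mem (mul_mem hs hs') (inv_mem hs))]; group
        _ = z' * (s * s' * s⁻¹ * s'⁻¹) * z'⁻¹ := by group
        _ = _ := by
            rw [XS_comm C z' h2 (s * s' * s⁻¹ * s'⁻¹)
              (mul_mem (mul_mem (mul_mem hs hs') (inv_mem hs)) (inv_mem hs'))]; group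
    calc f y * (s * s' * s⁻¹ * s'⁻¹) = (f y * (s * s' * s⁻¹ * s'⁻¹) * (f y)⁻¹) * f y := by group
      _ = _ := by rw [e3]
  have hCm : Cm y (SetOf pM) := by
    rintro c ⟨r, hr, hr', rfl⟩
    obtain ⟨a, ha, b, hb, ha', hb', h1, h2, h3, h4⟩ := sumPM r (List.mem_range.2 hr) hr'
    rw [← KBridge.vv_eq] at h4
    have hv : v r ∈ rts := root_iff.1 (isRoot_v cF hr)
    have h5 := C.c1 _ ha _ hb h1 h2 h3 1 1
    rw [h4, mul_one] at h5
    obtain ⟨z, hz, hz'⟩ := S.e _ hv 1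
    refine ⟨z, hz, ?_, S.inj ?_⟩
    · rintro rfl
      rw [map_one] at hz'
      exact one_ne_zero (C.inj _ hv 1 hz')
    · rw [map_mul, map_mul, ← hz', ← h5]
      exact key _ (pos_mem ha ha' 1) _ (pos_mem hb hb' 1)
  have h1 := cent_mask spanPM hCm
  have h2 : RGD.Sup (XF F) (SetOf (starM pM)) ≤ (XF F rc1 ⊔ XF F rc2) ⊔ (XF F s0 ⊔ XF F r0) := by
    refine RGD.Sup_le ?_
    rintro c ⟨r, hr, hr', rfl⟩
    rw [KBridge.vv_eq]
    rcases starPM r (List.mem_range.2 hr) hr' with h | h | h | h <;> rw [h]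
    · exact le_sup_left.trans le_sup_right
    · exact le_sup_right.trans le_sup_right
    · exact le_sup_left.trans le_sup_left
    · exact le_sup_right.trans le_sup_left
  have X0 := fun {a b : Fin 4 → ℤ} (ha : a ∈ rts) (hb : b ∈ rts) (h : 0 ≤ B a b) =>
    Cfsg.Agent.KFacts.F4Model.X0 (K := F) ha hb h
  have h3 : ∀ a ∈ XF F rc1 ⊔ XF F rc2, ∀ d ∈ XF F s0 ⊔ XF F r0, a * d = d * a := by
    intro a ha d hd
    obtain ⟨a1, ha1, a2, ha2, rfl⟩ := mem_sup_comm (X0 rc1_mem rc2_mem q_cc) ha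
    obtain ⟨d1, hd1, d2, hd2, rfl⟩ := mem_sup_comm (X0 s0_mem r0_mem (t_s0 _ r0_mem p_r0)) hd
    have g1 := X0 s0_mem rc1_mem (t_s0 _ rc1_mem p_c1) d1 hd1 a1 ha1
    have g2 := X0 s0_mem rc2_mem (t_s0 _ rc2_mem p_c2) d1 hd1 a2 ha2
    have g3 := X0 r0_mem rc1_mem (t_r0 _ rc1_mem p_c1) d2 hd2 a1 ha1
    have g4 := X0 r0_mem rc2_mem (t_r0 _ rc2_mem p_c2) d2 hd2 a2 ha2
    calc a1 * a2 * (d1 * d2) = a1 * (a2 * d1) * d2 := by group
      _ = (a1 * d1) * a2 * d2 := by rw [← g2]; group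
      _ = d1 * a1 * (a2 * d2) := by rw [← g1]; group
      _ = d1 * (a1 * d2) * a2 := by rw [← g4]; group
      _ = _ := by rw [← g3]; group
  obtain ⟨m, hm, d, hd, rfl⟩ := mem_sup_comm h3 (h2 h1)
  obtain ⟨a1, ha1, a2, ha2, rfl⟩ := mem_sup_comm (X0 rc1_mem rc2_mem q_cc) hm
  obtain ⟨d1, hd1, d2, hd2, rfl⟩ := mem_sup_comm (X0 s0_mem r0_mem (t_s0 _ r0_mem p_r0)) hd
  obtain ⟨u1, e1⟩ := S.e' _ rc1_mem _ ha1
  obtain ⟨u2, e2⟩ := S.e' _ rc2_mem _ ha2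
  obtain ⟨v1, e3⟩ := S.e' _ s0_mem _ hd1
  obtain ⟨v2, e4⟩ := S.e' _ r0_mem _ hd2
  refine ⟨u1, u2, E s0 v1 * E r0 v2, (mem_XE C).2 ⟨v1, v2, rfl⟩, ?_⟩
  rw [map_mul, map_mul, map_mul, e1, e2, e3, e4]

/-! ### Exchange -/

theorem card_Xs (C : Chart E T) {a b : Fin 4 → ℤ} (ha : a ∈ rts) (hb : b ∈ rts) :
    Nat.card ↥(Xs (E a)) = Nat.card ↥(Xs (E b)) := by
  have key : ∀ {a : Fin 4 → ℤ} (_ : a ∈ rts), Nat.card ↥(Xs (E a)) = Nat.card F := by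
    intro a ha
    have h : Function.Bijective (fun u : F => (⟨E a u, EX u⟩ : ↥(Xs (E a)))) := by
      constructor
      · intro u v huv
        have h1 : E a u = E a v := congrArg Subtype.val huv
        have h2 : E a (u - v) = 1 := by
          have h3 := C.add a ha (u - v) v
          rw [sub_add_cancel, h1] at h3
          exact mul_eq_right.1 h3.symm
        exact sub_eq_zero.1 (C.inj a ha _ h2)
      · rintro ⟨x, hx⟩
        obtain ⟨u, rfl⟩ := (mem_Xs_iff C ha).1 hx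
        exact ⟨u, rfl⟩
    exact (Nat.card_eq_of_bijective _ h).symm
  rw [key ha, key hb]

theorem swap_aux [Finite G] (S : Setup f id E T) {γ : G} (hS : cj γ (SE E) = SE E) (hX : cj γ (XE E) = XE E)
    {V : Subgroup G} (hV : V ≤ XE E) {u : G} (hu : u ∈ SE E) (huX : u ∉ XE E)
    (hc : ∀ s ∈ SE E, u * s * u⁻¹ * s⁻¹ ∈ V) : Xs (E r0) ≤ cj γ V ∨ Xs (E s0) ≤ cj γ V := by
  have C := S.ch
  have h1 : ∀ s ∈ SE E, (γ * u * γ⁻¹) * s * (γ * u * γ⁻¹)⁻¹ * s⁻¹ ∈ cj γ V := by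
    intro s hs
    rw [mem_cj]
    have hs' : γ⁻¹ * s * γ ∈ SE E := by
      rw [← mem_cj, hS]; exact hs
    have := hc _ hs'
    have e : γ⁻¹ * ((γ * u * γ⁻¹) * s * (γ * u * γ⁻¹)⁻¹ * s⁻¹) * γ =
        u * (γ⁻¹ * s * γ) * u⁻¹ * (γ⁻¹ * s * γ)⁻¹ := by group
    rw [e]; exact this
  have h2 : γ * u * γ⁻¹ ∈ SE E := by
    rw [← hS]; exact conj_mem_cj.2 hu
  have h3 : cj γ V ≤ XE E := by
    have := cj_mono γ hV
    rwa [hX] at this
  obtain ⟨a, b, x, hx, e⟩ := z2 S h2 fun s hs => h3 (h1 s hs)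
  rw [e] at h1
  by_cases ha : a = 0
  · by_cases hb : b = 0
    · exfalso
      apply huX
      have z0 : ∀ {c : Fin 4 → ℤ}, c ∈ rts → E c 0 = 1 := by
        intro c hc
        have := C.add _ hc 0 0
        rw [add_zero] at this
        exact mul_eq_left.1 this.symm
      rw [ha, hb, z0 rc1_mem, z0 rc2_mem, one_mul, one_mul] at e
      have h4 : γ * u * γ⁻¹ ∈ cj γ (XE E) := by rw [hX, e]; exact hx
      exact conj_mem_cj.1 h4
    · right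
      intro y hy
      obtain ⟨w, rfl⟩ := (mem_Xs_iff C s0_mem).1 hy
      have := h1 _ (pos_mem rb2_mem p_b2 (b⁻¹ * w))
      rw [comm_b2 C a b hx, mul_inv_cancel_left₀ hb] at this
      exact this
  · left
    intro y hy
    obtain ⟨w, rfl⟩ := (mem_Xs_iff C r0_mem).1 hy
    have := h1 _ (pos_mem rb1_mem p_b1 (a⁻¹ * w))
    rw [comm_b1 C a b hx, mul_inv_cancel_left₀ ha] at this
    exact this

theorem card_cj_eq (g : G) (V : Subgroup G) : Nat.card ↥(cj g V) = Nat.card ↥V :=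
  (Nat.card_congr (V.equivMapOfInjective _ (MulAut.conj g).injective).toEquiv).symm

theorem c1_nX (C : Chart E T) : E rc1 1 ∉ XE E := by
  intro h
  have h1 := XS_comm C _ h _ (pos_mem rb1_mem p_b1 1)
  obtain ⟨h3, h4, h5, h6⟩ := q_c1
  have h7 := C.c1 _ rc1_mem _ rb1_mem h3 h4 h5 1 1
  rw [h6, mul_one] at h7
  have : E r0 (1 : F) = 1 := by rw [← h7, h1]; group
  exact one_ne_zero (C.inj _ r0_mem 1 this)

theorem c2_nX (C : Chart E T) : E rc2 1 ∉ XE E := by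
  intro h
  have h1 := XS_comm C _ h _ (pos_mem rb2_mem p_b2 1)
  obtain ⟨h3, h4, h5, h6⟩ := q_c2
  have h7 := C.c1 _ rc2_mem _ rb2_mem h3 h4 h5 1 1
  rw [h6, mul_one] at h7
  have : E s0 (1 : F) = 1 := by rw [← h7, h1]; group
  exact one_ne_zero (C.inj _ s0_mem 1 this)

/-- **The elements normalising `S` and `X` stabilise or exchange `X_σ`, `X_ρ`.** -/
theorem swap [Finite G] (S : Setup f id E T) {γ : G} (hS : cj γ (SE E) = SE E) (hX : cj γ (XE E) = XE E) :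
    (cj γ (Xs (E s0)) = Xs (E s0) ∧ cj γ (Xs (E r0)) = Xs (E r0)) ∨
      (cj γ (Xs (E s0)) = Xs (E r0) ∧ cj γ (Xs (E r0)) = Xs (E s0)) := by
  have C := S.ch
  have key : ∀ {V V' : Subgroup G}, V' ≤ cj γ V → Nat.card ↥V' = Nat.card ↥V → cj γ V = V' := by
    intro V V' h1 h2
    exact (Subgroup.eq_of_le_of_card_ge h1 (by rw [card_cj_eq, h2])).symm
  have hne : Xs (E s0) ≠ Xs (E r0) := by
    intro h
    have h1 : E s0 (1 : F) ∈ Xs (E r0) := by rw [← h]; exact EX 1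
    obtain ⟨v, hv⟩ := (mem_Xs_iff C r0_mem).1 h1
    exact one_ne_zero (C.sep _ r0_mem _ s0_mem ne_s0r0.symm v 1 hv.symm)
  have hr := swap_aux S hS hX (V := Xs (E r0)) le_sup_right (pos_mem rc1_mem p_c1 1) (c1_nX C) (comm_c1 C 1)
  have hs := swap_aux S hS hX (V := Xs (E s0)) le_sup_left (pos_mem rc2_mem p_c2 1) (c2_nX C) (comm_c2 C 1)
  have hc := card_Xs C s0_mem r0_mem
  rcases hr with hr | hr <;> rcases hs with hs | hs
  · exfalso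
    have h1 := key hr rfl
    have h2 := key hs hc.symm
    apply hne
    have := congrArg (cj γ⁻¹) (h2.trans h1.symm)
    rwa [cj_inv_cj, cj_inv_cj] at this
  · exact Or.inl ⟨key hs rfl, key hr rfl⟩
  · exact Or.inr ⟨key hs hc.symm, key hr hc⟩
  · exfalso
    have h1 := key hr hc
    have h2 := key hs rfl
    apply hne
    have := congrArg (cj γ⁻¹) (h2.trans h1.symm)
    rwa [cj_inv_cj, cj_inv_cj] at this

end Cfsg.Agent.OddHalf.D4F4
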