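import Cfsg.Agent.OddHalf.D4F4.Roots
import Cfsg.Agent.OddHalf.D4F4.Exist

/-!
# ODD, D4, `F₄(q)`: the three doubled root groups `W_r`, `W_s`, `W_{r+s}`

* `CF` : the centraliser facts; `KC` : the chart in `K`;
* **`tri_false`** : a doubled root group `W` for `r = s0` and `P~`, invariant under the elements of `K` normalising `P~`,
  `X` and centralising `h_s(μ)` modulo `P~`, does not exist if `R` has two involutions.
-/

set_option autoImplicit false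
set_option linter.unusedSectionVars false

namespace Cfsg.Agent.OddHalf.D4F4

open Subgroup Cfsg.Agent.OddHalf.D7F4Ex Cfsg.Agent.OddHalf.D7F4Ex.Loc Cfsg.Agent.OddHalf.DblR
  Cfsg.Agent.OddHalf.D7F4.Model Cfsg.Agent.Nodes.Reps

variable {F : Type*} [Field F] {G : Type*} [Group G]

/-- The group generated by the root elements `E c u`, `c ∈ S`. -/
def SupE (E : (Fin 4 → ℤ) → F → G) (S : Set (Fin 4 → ℤ)) : Subgroup G := closure {g | ∃ c ∈ S, ∃ u, g = E c u}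

theorem mem_SupE {E : (Fin 4 → ℤ) → F → G} {S : Set (Fin 4 → ℤ)} {c : Fin 4 → ℤ} (hc : c ∈ S) (u : F) :
    E c u ∈ SupE E S := subset_closure ⟨c, hc, u, rfl⟩

theorem SupE_le {E : (Fin 4 → ℤ) → F → G} {S : Set (Fin 4 → ℤ)} {H : Subgroup G} (h : ∀ c ∈ S, ∀ u, E c u ∈ H) :
    SupE E S ≤ H := by
  rw [SupE, closure_le]
  rintro _ ⟨c, hc, u, rfl⟩
  exact h c hc u

/-- The chart in `K`. -/
structure KC (K : Subgroup G) (E : (Fin 4 → ℤ) → F → G) (T : (Fin 4 → Fˣ) →* G) : Prop where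
  ch : Chart E T
  EK : ∀ a ∈ rts, ∀ u, E a u ∈ K
  TK : ∀ ν, T ν ∈ K
  ctr : ∀ z ∈ K, (∀ a ∈ rts, ∀ u, z * E a u = E a u * z) → z = 1

/-- The centraliser facts. -/
structure CF (K R : Subgroup G) (E : (Fin 4 → ℤ) → F → G) : Prop where
  k3 : ∀ c : G, (∀ a ∈ R, c * a = a * c) → (∀ x ∈ psi s0, ∀ u, c * E x u = E x u * c) →
    ∃ u, (E s0 u)⁻¹ * c ∈ C1 K R
  k2r : ∀ c : G, (∀ a ∈ R, c * a = a * c) → (∀ x ∈ psi s0 ∩ psi rd, ∀ u, c * E x u = E x u * c) →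
    ∃ u v, (E s0 u * E rd v)⁻¹ * c ∈ C1 K R
  k2s : ∀ c : G, (∀ a ∈ R, c * a = a * c) → (∀ x ∈ psi rs ∩ psi rd, ∀ u, c * E x u = E x u * c) →
    ∃ u v, (E rs u * E rd v)⁻¹ * c ∈ C1 K R
  k1 : ∀ c : G, (∀ a ∈ R, c * a = a * c) → (∀ x ∈ psi s0 ∩ psi rs, ∀ u, c * E x u = E x u * c) →
    ∃ u v w, (E s0 u * E rs v * E rd w)⁻¹ * c ∈ C1 K R

/-- the abbreviation `P~` for a chart -/
abbrev PtE (E : (Fin 4 → ℤ) → F → G) (T : (Fin 4 → Fˣ) →* G) : Subgroup G :=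
  Pt (E s0) (fun j => E (rv j)) (fun i => E (rz i)) (fun j k => E (rl j k)) (T.comp consH)

/-- elements acting on each root group by a scalar -/
def Diag (E : (Fin 4 → ℤ) → F → G) (k : G) : Prop := ∀ a ∈ rts, ∃ c : F, ∀ u, k * E a u * k⁻¹ = E a (c * u)

section

variable {K R : Subgroup G} {E : (Fin 4 → ℤ) → F → G} {T : (Fin 4 → Fˣ) →* G}

theorem mem_PtE {c : Fin 4 → ℤ} (hc : c ∈ psi s0) (u : F) : E c u ∈ PtE E T := by
  rcases psi_s0 c hc.1 hc with rfl | ⟨j, rfl⟩ | ⟨i, rfl⟩ | ⟨j, k, h, rfl⟩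
  · exact subset_closure (Or.inl (Or.inl ⟨u, rfl⟩))
  · exact subset_closure (Or.inl (Or.inr ⟨j, u, rfl⟩))
  · exact subset_closure (Or.inr (Or.inl ⟨i, u, rfl⟩))
  · exact subset_closure (Or.inr (Or.inr (Or.inl ⟨j, k, u, h, rfl⟩)))

theorem T_diag (C : Chart E T) (ν : Fin 4 → Fˣ) : Diag E (T ν) := fun a ha => ⟨_, fun u => C.tor a ha ν u⟩

/-- diagonal elements of `K` commute with the torus -/
theorem KC.diag_comm (C : KC K E T) {k : G} (hk : k ∈ K) (hd : Diag E k) (ν : Fin 4 → Fˣ) : k * T ν = T ν * k := by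
  have h1 : (T ν * k)⁻¹ * (k * T ν) = 1 := by
    apply C.ctr _ (mul_mem (inv_mem (mul_mem (C.TK ν) hk)) (mul_mem hk (C.TK ν)))
    intro a ha u
    obtain ⟨c, hc⟩ := hd a ha
    have e1 : (k * T ν) * E a u * (k * T ν)⁻¹ = (T ν * k) * E a u * (T ν * k)⁻¹ := by
      calc (k * T ν) * E a u * (k * T ν)⁻¹ = k * (T ν * E a u * (T ν)⁻¹) * k⁻¹ := by group
        _ = E a (c * ((chd ν a : F) * u)) := by rw [C.ch.tor a ha, hc]
        _ = T ν * (k * E a u * k⁻¹) * (T ν)⁻¹ := by rw [hc, C.ch.tor a ha]; congr 1; ring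
        _ = _ := by group
    calc (T ν * k)⁻¹ * (k * T ν) * E a u = (T ν * k)⁻¹ * ((k * T ν) * E a u * (k * T ν)⁻¹) * (k * T ν) := by group
      _ = (T ν * k)⁻¹ * ((T ν * k) * E a u * (T ν * k)⁻¹) * (k * T ν) := by rw [e1]
      _ = _ := by group
  exact (inv_mul_eq_one.1 h1).symm

theorem diag_Pt (C : KC K E T) {k : G} (hk : k ∈ K) (hd : Diag E k) : ∀ p ∈ PtE E T, k * p * k⁻¹ ∈ PtE E T := by
  intro p hp
  have key : ∀ c ∈ psi s0, ∀ u, k * E c u * k⁻¹ ∈ PtE E T := by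
    intro c hc u
    obtain ⟨c', h⟩ := hd c hc.1
    rw [h]; exact mem_PtE hc _
  obtain ⟨p1, p2, p3, p4⟩ := psi_s0'
  induction hp using closure_induction with
  | mem g hg =>
    rcases hg with (⟨b, rfl⟩ | ⟨j, b, rfl⟩) | ⟨i, b, rfl⟩ | ⟨j, m, b, h, rfl⟩ | ⟨ν, rfl⟩
    · exact key _ p1 _
    · exact key _ (p2 j) _
    · exact key _ (p3 i) _
    · exact key _ (p4 j m h) _
    · have h1 := C.diag_comm hk hd (consH ν)
      have h2 : k * (T.comp consH) ν * k⁻¹ = (T.comp consH) ν := by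
        show k * T (consH ν) * k⁻¹ = T (consH ν)
        rw [h1]; group
      rw [h2]
      exact subset_closure (Or.inr (Or.inr (Or.inr ⟨ν, rfl⟩)))
  | one => rw [mul_one, mul_inv_cancel]; exact one_mem _
  | mul g g' _ _ ih1 ih2 =>
    have e : k * (g * g') * k⁻¹ = (k * g * k⁻¹) * (k * g' * k⁻¹) := by group
    rw [e]; exact mul_mem ih1 ih2
  | inv g _ ih =>
    have e : k * g⁻¹ * k⁻¹ = (k * g * k⁻¹)⁻¹ := by group
    rw [e]; exact inv_mem ih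

theorem mem_Xs_iff (C : Chart E T) {a : Fin 4 → ℤ} (ha : a ∈ rts) {g : G} : g ∈ Xs (E a) ↔ ∃ u, g = E a u := by
  constructor
  · intro h
    induction h using closure_induction with
    | mem g hg => obtain ⟨u, rfl⟩ := hg; exact ⟨u, rfl⟩
    | one => exact ⟨0, (C.zero ha).symm⟩
    | mul g g' _ _ h1 h2 =>
      obtain ⟨u, rfl⟩ := h1
      obtain ⟨u', rfl⟩ := h2
      exact ⟨u + u', (C.add a ha u u').symm⟩
    | inv g _ h1 =>
      obtain ⟨u, rfl⟩ := h1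
      exact ⟨u, C.inv ha u⟩
  · rintro ⟨u, rfl⟩
    exact subset_closure ⟨u, rfl⟩

theorem EX {a : Fin 4 → ℤ} (u : F) : E a u ∈ Xs (E a) := subset_closure ⟨u, rfl⟩

/-- conjugation by `n_a` -/
theorem nrf_inv (C : Chart E T) {a b : Fin 4 → ℤ} (ha : a ∈ rts) (hb : b ∈ rts) (u : F) :
    (nE E a)⁻¹ * E b u * nE E a = E (rfl' a b) u := by
  have h1 := C.nrf a ha (rfl' a b) (rfl_mem a ha b hb) u
  rw [rfl_rfl a ha b hb] at h1
  rw [← h1]; group

theorem cj_X (C : Chart E T) {a b : Fin 4 → ℤ} (ha : a ∈ rts) (hb : b ∈ rts) :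
    cj (nE E a) (Xs (E b)) = Xs (E (rfl' a b)) := by
  ext g
  rw [mem_cj, mem_Xs_iff C hb, mem_Xs_iff C (rfl_mem a ha b hb)]
  constructor
  · rintro ⟨u, h⟩
    refine ⟨u, ?_⟩
    rw [← C.nrf a ha b hb u, ← h]; group
  · rintro ⟨u, rfl⟩
    refine ⟨u, ?_⟩
    rw [nrf_inv C ha (rfl_mem a ha b hb), rfl_rfl a ha b hb]

theorem KC.nK (C : KC K E T) {a : Fin 4 → ℤ} (ha : a ∈ rts) (ha' : -a ∈ rts) : nE E a ∈ K :=
  mul_mem (mul_mem (C.EK a ha 1) (C.EK _ ha' 1)) (C.EK a ha 1)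

/-- `Diag` is invariant under the `n_a` -/
theorem diag_n (C : Chart E T) {a : Fin 4 → ℤ} (ha : a ∈ rts) {k : G} (hd : Diag E k) :
    Diag E ((nE E a)⁻¹ * k * nE E a) := by
  intro b hb
  obtain ⟨c, hc⟩ := hd _ (rfl_mem a ha b hb)
  refine ⟨c, fun u => ?_⟩
  calc (nE E a)⁻¹ * k * nE E a * E b u * ((nE E a)⁻¹ * k * nE E a)⁻¹
      = (nE E a)⁻¹ * (k * (nE E a * E b u * (nE E a)⁻¹) * k⁻¹) * nE E a := by group
    _ = (nE E a)⁻¹ * E (rfl' a b) (c * u) * nE E a := by rw [C.nrf a ha b hb, hc]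
    _ = E b (c * u) := by rw [nrf_inv C ha (rfl_mem a ha b hb), rfl_rfl a ha b hb]

theorem diag_n' (C : Chart E T) {a : Fin 4 → ℤ} (ha : a ∈ rts) {k : G} (hd : Diag E k) :
    Diag E (nE E a * k * (nE E a)⁻¹) := by
  intro b hb
  obtain ⟨c, hc⟩ := hd _ (rfl_mem a ha b hb)
  refine ⟨c, fun u => ?_⟩
  calc nE E a * k * (nE E a)⁻¹ * E b u * (nE E a * k * (nE E a)⁻¹)⁻¹
      = nE E a * (k * ((nE E a)⁻¹ * E b u * nE E a) * k⁻¹) * (nE E a)⁻¹ := by group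
    _ = nE E a * E (rfl' a b) (c * u) * (nE E a)⁻¹ := by rw [nrf_inv C ha hb, hc]
    _ = E b (c * u) := by rw [C.nrf a ha _ (rfl_mem a ha b hb), rfl_rfl a ha b hb]

theorem comm_nE {g : G} {a : Fin 4 → ℤ} (h1 : g * E a 1 = E a 1 * g) (h2 : g * E (-a) 1 = E (-a) 1 * g) :
    g * nE E a = nE E a * g := by
  have e1 : Commute g (E a 1) := h1
  have e2 : Commute g (E (-a) 1) := h2
  exact (e1.mul_right e2).mul_right e1

theorem dd_neg (x : Fin 4 → ℤ) : dd (-x) = -dd x := by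
  have h := dd_add x (-x)
  have h0 : dd (0 : Fin 4 → ℤ) = 0 := by
    have := dd_add 0 0
    rw [add_zero] at this
    exact left_eq_add.1 this
  rw [add_neg_cancel, h0] at h
  exact (neg_eq_of_add_eq_zero_right h.symm).symm

theorem chd_neg (ν : Fin 4 → Fˣ) (x : Fin 4 → ℤ) : chd ν (-x) = (chd ν x)⁻¹ := by
  have h := chd_add ν x (-x)
  have h0 : chd ν (0 : Fin 4 → ℤ) = 1 := by
    have := chd_add ν 0 0
    rw [add_zero] at this
    exact mul_eq_left.1 this.symm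
  rw [add_neg_cancel, h0] at h
  exact (inv_eq_of_mul_eq_one_right h.symm).symm

/-- invariance of groups `SupE` under a root group -/
theorem inv_SupE (C : Chart E T) {S : Set (Fin 4 → ℤ)} (hS : S ⊆ rts.toFinset) {b : Fin 4 → ℤ} (hb : b ∈ rts)
    (hb2 : B b b = 2)
    (hc : ∀ c ∈ S, B b c < 0 → (B c c = 2 ∧ b ≠ -c ∧ b + c ∈ S) ∨
      (B c c = 4 ∧ B c b = -2 ∧ c + b ∈ S ∧ c + b + b ∈ S)) :
    ∀ x ∈ Xs (E b), ∀ y ∈ SupE E S, x * y * x⁻¹ ∈ SupE E S := by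
  intro x hx y hy
  obtain ⟨a, rfl⟩ := (mem_Xs_iff C hb).1 hx
  induction hy using closure_induction with
  | mem g hg =>
    obtain ⟨c, hcS, u, rfl⟩ := hg
    have hcr : c ∈ rts := List.mem_toFinset.1 (hS hcS)
    by_cases h : 0 ≤ B b c
    · rw [C.c0 b hb c hcr h, mul_inv_cancel_right]
      exact mem_SupE hcS u
    · rcases hc c hcS (not_le.1 h) with ⟨h1, h2, h3⟩ | ⟨h1, h2, h3, h4⟩
      · rw [C.conj1 hb hcr (by rw [hb2, h1]) (not_le.1 h) h2]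
        exact mul_mem (mem_SupE h3 _) (mem_SupE hcS _)
      · rw [C.conj2' hcr hb h1 hb2 h2]
        exact mul_mem (mul_mem (mem_SupE h3 _) (mem_SupE h4 _)) (mem_SupE hcS _)
  | one => rw [mul_one, mul_inv_cancel]; exact one_mem _
  | mul g g' _ _ ih1 ih2 =>
    have e : E b a * (g * g') * (E b a)⁻¹ = (E b a * g * (E b a)⁻¹) * (E b a * g' * (E b a)⁻¹) := by group
    rw [e]; exact mul_mem ih1 ih2
  | inv g _ ih =>
    have e : E b a * g⁻¹ * (E b a)⁻¹ = (E b a * g * (E b a)⁻¹)⁻¹ := by group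
    rw [e]; exact inv_mem ih

theorem chd_s0 (ν : Fin 4 → Fˣ) : chd ν s0 = ν 0 ^ 2 := by
  rw [chd_eq, dd_s0]
  show ν 0 ^ (2 : ℤ) * ν 1 ^ (0 : ℤ) * ν 2 ^ (0 : ℤ) * ν 3 ^ (0 : ℤ) = _
  rw [zpow_zero, zpow_zero, zpow_zero, mul_one, mul_one, mul_one]
  exact zpow_natCast _ 2

theorem chd_rs (ν : Fin 4 → Fˣ) : chd ν rs = (ν 0)⁻¹ * ν 1 * ν 2 * ν 3 := by
  rw [chd_eq, dd_rs]
  show ν 0 ^ (-1 : ℤ) * ν 1 ^ (1 : ℤ) * ν 2 ^ (1 : ℤ) * ν 3 ^ (1 : ℤ) = _
  rw [zpow_neg_one, zpow_one, zpow_one, zpow_one]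

/-- The commutator of `E r u` and `E s v`. -/
theorem comm_rs (C : Chart E T) (u v : F) : E s0 u * E rs v * (E s0 u)⁻¹ * (E rs v)⁻¹ = E rd (u * v) := by
  rw [C.c1 s0 s0_mem rs rs_mem (by rw [n_s0, n_rs]) (by rw [b_rs]; norm_num) ne_rs, e_rs]

/-- **No three doubled root groups if `R` has two involutions.** -/
theorem tri_false [Finite F] [Finite G] (C : KC K E T) (A : Amb K R) (cf : CF K R E) {μ : Fˣ} {W : Subgroup G}
    (D : DW K R (PtE E T) (Xs (E s0)) W)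
    (hW : ∀ k ∈ K, (∃ p ∈ PtE E T, k * T (oneH μ) * k⁻¹ = T (oneH μ) * p) →
        (∀ p ∈ PtE E T, k * p * k⁻¹ ∈ PtE E T) → (∀ x ∈ Xs (E s0), k * x * k⁻¹ ∈ Xs (E s0)) →
        ∀ w ∈ W, k * w * k⁻¹ ∈ W)
    {t t' : G} (ht : t ∈ R) (ht1 : t ≠ 1) (ht' : t' ∈ R) (ht1' : t' ≠ 1) (hne : t' ≠ t) : False := by
  have hC := C.ch
  have hnegs : -rs ∈ rts := neg_mem rs rs_mem
  have hnegr : -s0 ∈ rts := neg_mem s0 s0_mem
  set n := nE E rs with hn
  set m := nE E s0 with hm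
  have hnK : n ∈ K := C.nK rs_mem hnegs
  have hmK : m ∈ K := C.nK s0_mem hnegr
  have hkK : m⁻¹ * n ∈ K := mul_mem (inv_mem hmK) hnK
  have hnX : cj n (Xs (E s0)) = Xs (E rd) := by rw [hn, cj_X hC rs_mem s0_mem, f_dr]
  have hmX : cj m (Xs (E rs)) = Xs (E rd) := by rw [hm, cj_X hC s0_mem rs_mem, g_ds]
  have hkX : cj (m⁻¹ * n) (Xs (E s0)) = Xs (E rs) := by
    rw [cj_mul, hnX, ← hmX, cj_inv_cj]
  -- diagonal elements normalise `W`
  have hWd : ∀ k ∈ K, Diag E k → ∀ w ∈ W, k * w * k⁻¹ ∈ W := by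
    intro k hk hd
    refine hW k hk ⟨1, one_mem _, ?_⟩ (diag_Pt C hk hd) ?_
    · rw [C.diag_comm hk hd]; group
    · intro x hx
      obtain ⟨u, rfl⟩ := (mem_Xs_iff hC s0_mem).1 hx
      obtain ⟨c, hc⟩ := hd s0 s0_mem
      rw [hc]; exact EX _
  have hTX : ∀ a ∈ rts, ∀ h ∈ T.range, ∀ x ∈ Xs (E a), h * x * h⁻¹ ∈ Xs (E a) := by
    rintro a ha _ ⟨ν, rfl⟩ x hx
    obtain ⟨u, rfl⟩ := (mem_Xs_iff hC ha).1 hx
    rw [hC.tor a ha]; exact EX _
  have hTK : T.range ≤ K := by rintro _ ⟨ν, rfl⟩; exact C.TK ν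
  -- elements of `P_d`, `P_s`
  have inPd : ∀ c ∈ psi rd, ∀ u, E c u ∈ cj n (PtE E T) := by
    intro c hc u
    rw [mem_cj, hn, nrf_inv hC rs_mem hc.1]
    exact mem_PtE (psi_d c hc.1 hc) u
  have inPs : ∀ c ∈ psi rs, ∀ u, E c u ∈ cj (m⁻¹ * n) (PtE E T) := by
    intro c hc u
    rw [mem_cj]
    have e : (m⁻¹ * n)⁻¹ * E c u * (m⁻¹ * n) = n⁻¹ * (m * E c u * m⁻¹) * n := by group
    rw [e, hm, hC.nrf s0 s0_mem c hc.1, hn, nrf_inv hC rs_mem (rfl_mem s0 s0_mem c hc.1)]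
    exact mem_PtE (psi_s c hc.1 hc) u
  have hXle : ∀ {a : Fin 4 → ℤ} {H : Subgroup G}, (∀ u, E a u ∈ H) → Xs (E a) ≤ H := by
    intro a H h
    rw [Xs, closure_le]
    rintro _ ⟨u, rfl⟩
    exact h u
  have hinv : ∀ {k x : G} {A B : Subgroup G}, cj k A = B → x ∈ A → k * x * k⁻¹ ∈ B := by
    intro k x A B h hx
    rw [← h]
    exact conj_mem_cj.2 hx
  have hinv' : ∀ {k x : G} {A B : Subgroup G}, cj k A = B → x ∈ B → k⁻¹ * x * k ∈ A := by
    intro k x A B h hx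
    rw [← h] at hx
    exact mem_cj.1 hx
  have hwn : ∀ h ∈ T.range, ∀ w ∈ cj n W, h * w * h⁻¹ ∈ cj n W := by
    rintro _ ⟨ν, rfl⟩ w hw
    rw [mem_cj] at hw ⊢
    have h1 := hWd (n⁻¹ * T ν * n) (mul_mem (mul_mem (inv_mem hnK) (C.TK ν)) hnK)
      (diag_n hC rs_mem (T_diag hC ν)) _ hw
    have e : n⁻¹ * T ν * n * (n⁻¹ * w * n) * (n⁻¹ * T ν * n)⁻¹ = n⁻¹ * (T ν * w * (T ν)⁻¹) * n := by group
    rwa [e] at h1
  have hwk : ∀ h ∈ T.range, ∀ w ∈ cj (m⁻¹ * n) W, h * w * h⁻¹ ∈ cj (m⁻¹ * n) W := by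
    rintro _ ⟨ν, rfl⟩ w hw
    rw [mem_cj] at hw ⊢
    have hd : Diag E (n⁻¹ * (m * T ν * m⁻¹) * n) := diag_n hC rs_mem (diag_n' hC s0_mem (T_diag hC ν))
    have h1 := hWd (n⁻¹ * (m * T ν * m⁻¹) * n)
      (mul_mem (mul_mem (inv_mem hnK) (mul_mem (mul_mem hmK (C.TK ν)) (inv_mem hmK))) hnK) hd _ hw
    have e : n⁻¹ * (m * T ν * m⁻¹) * n * ((m⁻¹ * n)⁻¹ * w * (m⁻¹ * n)) * (n⁻¹ * (m * T ν * m⁻¹) * n)⁻¹ =
        (m⁻¹ * n)⁻¹ * (T ν * w * (T ν)⁻¹) * (m⁻¹ * n) := by group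
    rwa [e] at h1
  obtain ⟨μ0, hμ0⟩ := hC.big
  have hbig : ∀ a ∈ rts, ∃ x ∈ Xs (E a), ∃ x' ∈ Xs (E a), x ≠ 1 ∧ x' ≠ 1 ∧ x ≠ x' := by
    intro a ha
    refine ⟨E a 1, EX _, E a μ0, EX _, fun h => one_ne_zero (hC.inj a ha 1 h), fun h => μ0.ne_zero (hC.inj a ha _ h),
      fun h => ?_⟩
    have h1 : E a (1 + μ0) = 1 := by rw [hC.add a ha, h, hC.sq ha]
    have h2 := hC.inj a ha _ h1
    apply hμ0
    apply Units.ext
    exact (hC.loc.add_eq_zero h2).symm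
  have hdis : ∀ a ∈ rts, ∀ b ∈ rts, a ≠ b → ∀ x ∈ Xs (E a), x ∈ Xs (E b) → x = 1 := by
    intro a ha b hb hab x hx hx'
    obtain ⟨u, rfl⟩ := (mem_Xs_iff hC ha).1 hx
    obtain ⟨v, h⟩ := (mem_Xs_iff hC hb).1 hx'
    rw [h, hC.sep a ha b hb hab u v h, hC.zero hb]
  have hSupc : ∀ {S : Set (Fin 4 → ℤ)} {c : G}, (∀ y ∈ SupE E S, c * y = y * c) → ∀ x ∈ S, ∀ u, c * E x u = E x u * c :=
    fun hc x hx u => hc _ (mem_SupE hx u)
  have hTc : ∀ (ν : Fin 4 → Fˣ) {a : Fin 4 → ℤ}, a ∈ rts → chd ν a = 1 → ∀ x ∈ Xs (E a), T ν * x = x * T ν := by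
    intro ν a ha h x hx
    obtain ⟨u, rfl⟩ := (mem_Xs_iff hC ha).1 hx
    exact hC.tor_comm ha h u
  have hTn : ∀ (ν : Fin 4 → Fˣ) {a : Fin 4 → ℤ}, a ∈ rts → -a ∈ rts → chd ν a = 1 → T ν * nE E a = nE E a * T ν := by
    intro ν a ha ha' h
    exact comm_nE (hC.tor_comm ha h 1) (hC.tor_comm ha' (by rw [chd_neg, h, inv_one]) 1)
  have key : Tri K R T.range (Xs (E s0)) (Xs (E rs)) (Xs (E rd)) W (cj (m⁻¹ * n) W) (cj n W) (PtE E T)
      (cj (m⁻¹ * n) (PtE E T)) (cj n (PtE E T)) (SupE E (psi s0 ∩ psi rd)) (SupE E (psi rs ∩ psi rd))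
      (SupE E (psi s0 ∩ psi rs)) n m := by
    refine
      { A := A
        Dr := D
        Ds := by rw [← hkX]; exact D.conj A hkK
        Dd := by rw [← hnX]; exact D.conj A hnK
        XrPd := hXle fun u => inPd _ r_psi_d u
        XsPd := hXle fun u => inPd _ s_psi_d u
        XdPr := hXle fun u => mem_PtE d_psi_r u
        XdPs := hXle fun u => inPs _ d_psi_s u
        TK := hTK
        Tab := ?_
        Todd := ?_
        TXr := hTX s0 s0_mem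
        TXs := hTX rs rs_mem
        TXd := hTX rd rd_mem
        TWr := ?_
        TWs := hwk
        TWd := hwn
        nK := hnK
        nX := fun x hx => hinv hnX hx
        nX' := fun x hx => hinv' hnX hx
        nW' := fun x hx => hinv' rfl hx
        mK := hmK
        mX := fun x hx => hinv hmX hx
        mX' := fun x hx => hinv' hmX hx
        mW' := fun x hx => hinv' (by rw [cj_mul, cj_cj_inv]) hx
        trr := ?_
        trs := ?_
        cmX := ?_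
        nd := ?_
        bigr := hbig s0 s0_mem
        bigs := hbig rs rs_mem
        disr := hdis s0 s0_mem rd rd_mem ne_rd
        diss := hdis rs rs_mem rd rd_mem ne_sd
        YrPr := SupE_le fun c hc u => mem_PtE hc.1 u
        YrPd := SupE_le fun c hc u => inPd c hc.2 u
        YrN := ?_
        K2r := ?_
        YsPs := SupE_le fun c hc u => inPs c hc.1 u
        YsPd := SupE_le fun c hc u => inPd c hc.2 u
        YsN := ?_
        K2s := ?_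
        YPr := SupE_le fun c hc u => mem_PtE hc.1 u
        YPs := SupE_le fun c hc u => inPs c hc.2 u
        YPd := SupE_le fun c hc u => inPd c (psi_rs c hc.1.1 hc.1 hc.2) u
        K1 := ?_ }
    · rintro _ ⟨ν, rfl⟩ _ ⟨ν', rfl⟩
      rw [← map_mul, ← map_mul, mul_comm]
    · rintro _ ⟨ν, rfl⟩
      refine ⟨Nat.card Fˣ, hC.loc.odd_card, ?_⟩
      rw [← map_pow]
      have : ν ^ Nat.card Fˣ = 1 := by
        funext i
        rw [Pi.pow_apply, pow_card_eq_one']; rfl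
      rw [this, map_one]
    · rintro _ ⟨ν, rfl⟩ w hw
      exact hWd _ (C.TK ν) (T_diag hC ν) w hw
    · intro x hx hx1 x' hx' hx1'
      obtain ⟨a, rfl⟩ := (mem_Xs_iff hC s0_mem).1 hx
      obtain ⟨a', rfl⟩ := (mem_Xs_iff hC s0_mem).1 hx'
      have ha : a ≠ 0 := fun h => hx1 (by rw [h, hC.zero s0_mem])
      have ha' : a' ≠ 0 := fun h => hx1' (by rw [h, hC.zero s0_mem])
      obtain ⟨β, hβ⟩ := hC.loc.exists_sqrt_unit (Units.mk0 a' ha' * (Units.mk0 a ha)⁻¹)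
      have h1 : chd ![β, β, 1, 1] rs = 1 := by
        rw [chd_rs]
        show β⁻¹ * β * 1 * 1 = 1
        rw [inv_mul_cancel, one_mul, one_mul]
      refine ⟨T ![β, β, 1, 1], ⟨_, rfl⟩, hTc _ rs_mem h1, hTn _ rs_mem hnegs h1, ?_⟩
      rw [hC.tor s0 s0_mem, chd_s0]
      show E s0 (((β ^ 2 : Fˣ) : F) * a) = _
      rw [hβ, Units.val_mul, Units.val_mk0, Units.val_inv_eq_inv_val, Units.val_mk0, mul_assoc, inv_mul_cancel₀ ha,
        mul_one]
    · intro x hx hx1 x' hx' hx1'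
      obtain ⟨a, rfl⟩ := (mem_Xs_iff hC rs_mem).1 hx
      obtain ⟨a', rfl⟩ := (mem_Xs_iff hC rs_mem).1 hx'
      have ha : a ≠ 0 := fun h => hx1 (by rw [h, hC.zero rs_mem])
      have ha' : a' ≠ 0 := fun h => hx1' (by rw [h, hC.zero rs_mem])
      set β : Fˣ := Units.mk0 a' ha' * (Units.mk0 a ha)⁻¹ with hβ
      have h1 : chd ![1, β, 1, 1] s0 = 1 := by
        rw [chd_s0]
        show (1 : Fˣ) ^ 2 = 1
        rw [one_pow]
      refine ⟨T ![1, β, 1, 1], ⟨_, rfl⟩, hTc _ s0_mem h1, hTn _ s0_mem hnegr h1, ?_⟩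
      rw [hC.tor rs rs_mem, chd_rs]
      show E rs ((((1 : Fˣ)⁻¹ * β * 1 * 1 : Fˣ) : F) * a) = _
      rw [inv_one, one_mul, mul_one, mul_one, hβ, Units.val_mul, Units.val_mk0, Units.val_inv_eq_inv_val, Units.val_mk0,
        mul_assoc, inv_mul_cancel₀ ha, mul_one]
    · intro x hx y hy
      obtain ⟨a, rfl⟩ := (mem_Xs_iff hC s0_mem).1 hx
      obtain ⟨b, rfl⟩ := (mem_Xs_iff hC rs_mem).1 hy
      rw [cm_def, comm_rs hC]
      exact EX _
    · intro x hx y hy h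
      obtain ⟨a, rfl⟩ := (mem_Xs_iff hC s0_mem).1 hx
      obtain ⟨b, rfl⟩ := (mem_Xs_iff hC rs_mem).1 hy
      have h1 := comm_rs hC a b
      rw [h] at h1
      have h2 := hC.inj rd rd_mem (a * b) (by rw [← h1]; group)
      rcases mul_eq_zero.1 h2 with h3 | h3
      · left; rw [h3, hC.zero s0_mem]
      · right; rw [h3, hC.zero rs_mem]
    · refine inv_SupE hC (fun c hc => List.mem_toFinset.2 hc.1.1) rs_mem n_rs fun c hc h => ?_
      rcases inv_s c hc.1.1 hc.1 hc.2 h with ⟨h1, h2, h3, h4⟩ | ⟨h1, h2, h3, h4, h5, h6⟩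
      · exact Or.inl ⟨h1, h2, h3, h4⟩
      · exact Or.inr ⟨h1, h2, ⟨h3, h4⟩, h5, h6⟩
    · intro c hc hcY
      obtain ⟨u, v, h⟩ := cf.k2r c hc (hSupc hcY)
      exact ⟨_, EX u, _, EX v, h⟩
    · refine inv_SupE hC (fun c hc => List.mem_toFinset.2 hc.1.1) s0_mem n_s0 fun c hc h => ?_
      rcases inv_r c hc.1.1 hc.1 hc.2 h with ⟨h1, h2, h3, h4⟩ | ⟨h1, h2, h3, h4, h5, h6⟩
      · exact Or.inl ⟨h1, h2, h3, h4⟩
      · exact Or.inr ⟨h1, h2, ⟨h3, h4⟩, h5, h6⟩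
    · intro c hc hcY
      obtain ⟨u, v, h⟩ := cf.k2s c hc (hSupc hcY)
      exact ⟨_, EX u, _, EX v, h⟩
    · intro c hc hcr hcs hcY
      obtain ⟨u, v, w, h⟩ := cf.k1 c hc (hSupc hcY)
      have hK := (mem_C1.1 h).1
      set y := (E s0 u * E rs v * E rd w)⁻¹ * c with hy
      have hcy : c = E s0 u * E rs v * E rd w * y := by rw [hy]; group
      -- `E s0 u * E rs v * E rd w` commutes with `X_r`, `X_s`
      have hz : ∀ x ∈ K, c * x = x * c → (E s0 u * E rs v * E rd w) * x = x * (E s0 u * E rs v * E rd w) := by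
        intro x hx h1
        have h2 := hK x hx
        rw [hcy] at h1
        apply mul_right_cancel (b := y)
        calc E s0 u * E rs v * E rd w * x * y = E s0 u * E rs v * E rd w * (y * x) := by rw [h2]; group
          _ = x * (E s0 u * E rs v * E rd w) * y := by rw [← mul_assoc, h1]; group
      have hds : ∀ a b, E rd a * E rs b = E rs b * E rd a := fun a b => hC.c0 rd rd_mem rs rs_mem (by decide +kernel) a b
      have hdr : ∀ a b, E rd a * E s0 b = E s0 b * E rd a := fun a b => hC.c0 rd rd_mem s0 s0_mem (by decide +kernel) a b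
      have h1 := hz (E rs 1) (C.EK rs rs_mem 1) (hcs _ (EX 1))
      have h2 : E s0 u * E rs 1 = E rs 1 * E s0 u := by
        have e1 : E rs v * E rs 1 = E rs 1 * E rs v := by rw [← hC.add rs rs_mem, ← hC.add rs rs_mem, add_comm]
        apply mul_right_cancel (b := E rs v * E rd w)
        calc E s0 u * E rs 1 * (E rs v * E rd w) = E s0 u * (E rs 1 * E rs v) * E rd w := by group
          _ = E s0 u * E rs v * (E rs 1 * E rd w) := by rw [← e1]; group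
          _ = E s0 u * E rs v * E rd w * E rs 1 := by rw [← hds]; group
          _ = E rs 1 * (E s0 u * E rs v * E rd w) := h1
          _ = _ := by group
      have h3 := comm_rs hC u 1
      rw [h2] at h3
      have h4 := hC.inj rd rd_mem (u * 1) (by rw [← h3]; group)
      rw [mul_one] at h4
      have h5 := hz (E s0 1) (C.EK s0 s0_mem 1) (hcr _ (EX 1))
      rw [h4, hC.zero s0_mem, one_mul] at h5
      have h6 : E s0 1 * E rs v = E rs v * E s0 1 := by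
        apply mul_right_cancel (b := E rd w)
        calc E s0 1 * E rs v * E rd w = E rs v * E rd w * E s0 1 := by rw [h5]; group
          _ = E rs v * E s0 1 * E rd w := by rw [mul_assoc, hdr]; group
      have h7 := comm_rs hC 1 v
      rw [h6] at h7
      have h8 := hC.inj rd rd_mem (1 * v) (by rw [← h7]; group)
      rw [one_mul] at h8
      refine ⟨E rd w, EX w, ?_⟩
      have h9 : (E rd w)⁻¹ * c = y := by
        rw [hy, h4, h8, hC.zero s0_mem, hC.zero rs_mem, one_mul, one_mul]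
      rw [h9]; exact h
  exact hne (key.eq_of_ne_one ht ht1 ht' ht1')

end

end Cfsg.Agent.OddHalf.D4F4
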